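import Cfsg.Agent.Lib.LocalP2.MetaOddOmega
import Cfsg.Agent.Lib.Fusion.Chain

/-!
A strongly closed metacyclic `p`-subgroup, `p` odd, of a saturated fusion system is normal: if it is
outside a centric radical subgroup then inversion on the subgroup of elements of order `p` lies in the
system, and it cannot extend to the metacyclic group.
-/

set_option autoImplicit false

namespace Cfsg.Agent.Lib.LocalP2.MetaOdd

open Cfsg Cfsg.FusionSystem Cfsg.Agent.Lib.Fusion
open scoped commutatorElement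

/-- A nontrivial power-generator in a group of prime order. -/
theorem exists_pow_eq {G : Type*} [Group G] [Finite G] {p : ℕ} [hp : Fact p.Prime] {a b : G}
    (ha : a ∈ Subgroup.zpowers b) (hb : b ^ p = 1) (ha1 : a ≠ 1) : ∃ k : ℕ, a ^ k = b := by
  have hap : a ^ p = 1 := by
    obtain ⟨k, rfl⟩ := Subgroup.mem_zpowers_iff.1 ha
    rw [← zpow_natCast, ← zpow_mul, mul_comm, zpow_mul, zpow_natCast, hb, one_zpow]
  have hb1 : b ≠ 1 := fun h => ha1 (by simpa [h] using ha)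
  have he : Subgroup.zpowers a = Subgroup.zpowers b := Subgroup.eq_of_le_of_card_ge
    (Subgroup.zpowers_le.2 ha) (by
      rw [Nat.card_zpowers, Nat.card_zpowers, orderOf_eq_prime hap ha1, orderOf_eq_prime hb hb1])
  exact Submonoid.mem_powers_iff _ _ |>.1 (mem_powers_iff_mem_zpowers.2 (he ▸ Subgroup.mem_zpowers b))

variable {Ω : Type*} [Group Ω] {S : Subgroup Ω} [Finite S] {F : FusionSystem S} {p : ℕ}
  [hp : Fact p.Prime] {P : Subgroup Ω}

omit [Finite S] in
/-- The `p^n`-th power is multiplicative on elements killed by `p^(n+1)`. -/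
theorem mul_pow_in [Finite P] (hPp : IsPGroup p P) (hp2 : p ≠ 2) (hm : Cfsg.IsMetacyclic P) (n : ℕ)
    {x y : Ω} (hx : x ∈ P) (hy : y ∈ P) (hxn : x ^ p ^ (n + 1) = 1) (hyn : y ^ p ^ (n + 1) = 1) :
    (x * y) ^ p ^ n = x ^ p ^ n * y ^ p ^ n := by
  have h := mul_pow_of_pow_eq_one hPp hp2 hm n (x := ⟨x, hx⟩) (y := ⟨y, hy⟩)
    (Subtype.ext hxn) (Subtype.ext hyn)
  exact congrArg Subtype.val h

omit [Finite S] in
theorem exists_killed [Finite P] (hPp : IsPGroup p P) (hp2 : p ≠ 2) (hm : Cfsg.IsMetacyclic P) :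
    ∃ W : ℕ → Subgroup Ω, ∀ n x, x ∈ W n ↔ x ∈ P ∧ x ^ p ^ n = 1 := by
  obtain ⟨D⟩ := Metacyclic.exists_params hp2 hPp hm
  refine ⟨fun n => (omegaSubgroup D n).map P.subtype, fun n x => ⟨?_, fun h => ?_⟩⟩
  · rintro ⟨y, hy, rfl⟩
    exact ⟨y.2, congrArg Subtype.val (hy : y ^ p ^ n = 1)⟩
  · exact ⟨⟨x, h.1⟩, (mem_omegaSubgroup D).2 (Subtype.ext h.2), rfl⟩

/-- Automorphisms of `Q` trivial on `Q/(P ∩ Q)` and on the elements of order `p` of `P ∩ Q` lie in a
normal `p`-subgroup of the automizer. -/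
theorem exists_stab (hS : IsPGroup p S) (hP : F.StronglyClosed P) (hp2 : p ≠ 2)
    (hm : Cfsg.IsMetacyclic P) {Q : Subgroup Ω} (hQ : Q ≤ S) :
    ∃ K : Subgroup (F.autGroup Q), K.Normal ∧ IsPGroup p K ∧ ∀ α : F.autGroup Q,
      (∀ u : Q, (((α : MulAut Q) u * u⁻¹ : Q) : Ω) ∈ P) →
      (∀ u : Q, (u : Ω) ∈ P → (u : Ω) ^ p = 1 → (α : MulAut Q) u = u) → α ∈ K := by
  have := finite_of_le hP.1
  have := finite_of_le hQ
  have hPp : IsPGroup p P := hS.to_le hP.1
  obtain ⟨W, hW⟩ := exists_killed hPp hp2 hm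
  obtain ⟨N, hN⟩ := IsPGroup.iff_card.1 hPp
  let D : ℕ → Subgroup Q := fun i => if i ≤ N then (W i).subgroupOf Q else ⊤
  have hmem : ∀ i ≤ N, ∀ u : Q, u ∈ D i ↔ (u : Ω) ∈ P ∧ (u : Ω) ^ p ^ i = 1 := fun i hi u => by
    simp only [D, if_pos hi, Subgroup.mem_subgroupOf, hW]
  have hinv : ∀ α ∈ F.autGroup Q, ∀ u : Q, (u : Ω) ∈ P → ((α u : Q) : Ω) ∈ P := fun α hα u hu =>
    map_mem_of_stronglyClosed hP ((mem_autGroup hQ).1 hα) u hu
  have hD0 : D 0 = ⊥ := by
    rw [eq_bot_iff]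
    intro u hu
    have h := ((hmem 0 (Nat.zero_le _) u).1 hu).2
    rw [pow_zero, pow_one] at h
    exact Subgroup.mem_bot.2 (Subtype.ext h)
  have hDn : D (N + 1) = ⊤ := if_neg (by omega)
  have hDinv : ∀ α ∈ F.autGroup Q, ∀ i, ∀ x ∈ D i, α x ∈ D i := by
    intro α hα i x hx
    by_cases hi : i ≤ N
    · rw [hmem i hi] at hx ⊢
      refine ⟨hinv α hα x hx.1, ?_⟩
      rw [← SubmonoidClass.coe_pow, ← map_pow, show x ^ p ^ i = 1 from Subtype.ext hx.2, map_one,
        OneMemClass.coe_one]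
    · simp only [D, if_neg hi]
      exact Subgroup.mem_top _
  obtain ⟨K, hK, hKp, hKmem⟩ := chainStabilizer (p := p) (F.autGroup Q) (N + 1) D hD0 hDn hDinv
    (hS.to_le hQ)
  refine ⟨K, hK, hKp, fun α htop hfix => (hKmem α).2 fun i hi x hx => ?_⟩
  rcases (Nat.lt_succ_iff.1 hi).eq_or_lt with rfl | hlt
  · rw [hmem i le_rfl]
    refine ⟨htop x, ?_⟩
    have h1 : (⟨_, htop x⟩ : P) ^ p ^ i = 1 := by rw [← hN]; exact pow_card_eq_one'
    exact congrArg Subtype.val h1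
  · rw [hmem (i + 1) hlt] at hx
    rw [hmem i hlt.le]
    refine ⟨htop x, ?_⟩
    have hax := hinv _ α.2 x hx.1
    have h1 : ((((α : MulAut Q) x : Q)) : Ω) ^ p ^ (i + 1) = 1 := by
      rw [← SubmonoidClass.coe_pow, ← map_pow, show x ^ p ^ (i + 1) = 1 from Subtype.ext hx.2,
        map_one, OneMemClass.coe_one]
    rw [Subgroup.coe_mul, Subgroup.coe_inv, mul_pow_in hPp hp2 hm i hax (inv_mem hx.1) h1
      (by rw [inv_pow, hx.2, inv_one]), ← SubmonoidClass.coe_pow, ← map_pow,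
      hfix (x ^ p ^ i) (by simpa using pow_mem hx.1 (p ^ i))
        (by rw [SubmonoidClass.coe_pow, ← pow_mul, ← pow_succ]; exact hx.2),
      SubmonoidClass.coe_pow, inv_pow, mul_inv_cancel]

/-- A nontrivial subgroup normalized by a `p`-group containing it has a nontrivial fixed element. -/
theorem exists_central {H E : Subgroup Ω} [Finite H] (hH : IsPGroup p H) (hE : E ≤ H)
    (hn : H ≤ Subgroup.normalizer (E : Set Ω)) (hne : E ≠ ⊥) :
    ∃ l ∈ E, l ≠ 1 ∧ l ^ p = 1 ∧ ∀ h ∈ H, h * l = l * h := by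
  have hnor : (E.subgroupOf H).Normal :=
    ⟨fun x hx h => conj_mem_of_mem_normalizer (P := E) (hn h.2) (show (x : Ω) ∈ E from hx)⟩
  have hne' : E.subgroupOf H ≠ ⊥ := fun h => hne (by
    rw [Subgroup.subgroupOf_eq_bot] at h
    exact h.eq_bot_of_le hE)
  obtain ⟨z, hz, hzc, hzo⟩ := Thompson.exists_central_order_p hH (N := E.subgroupOf H) hne'
  refine ⟨(z : Ω), hz, fun h => ?_, ?_, fun h hh => ?_⟩
  · rw [show z = 1 from Subtype.ext h, orderOf_one] at hzo
    exact hp.out.one_lt.ne hzo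
  · have h1 := pow_orderOf_eq_one z
    rw [hzo] at h1
    exact congrArg Subtype.val h1
  · exact congrArg Subtype.val (Subgroup.mem_center_iff.1 hzc ⟨h, hh⟩)

/-- A strongly closed metacyclic subgroup, `p` odd, is normal in the system. -/
theorem isNormal_of_metacyclic_odd (hS : IsPGroup p S) (hF : F.IsSaturated p)
    (hP : F.StronglyClosed P) (hp2 : p ≠ 2) (hm : Cfsg.IsMetacyclic P) : F.IsNormal P := by
  have := finite_of_le hP.1
  have hPp : IsPGroup p P := hS.to_le hP.1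
  have hPn := le_normalizer_of_stronglyClosed hP
  refine isNormal_of_le_radical hS hF hP fun Q hc hr _ =>
    le_of_centric_radical_aux hS hc.1 hP.1 (hc.1.trans hPn) fun x hx hxN => ?_
  by_contra hxQ
  have hQS := hc.1
  have := finite_of_le hQS
  have hxS := hP.1 hx
  set A := F.autGroup Q
  set a : A := ⟨conjAut Q hxN, autInducedBy_le_autGroup hQS (conjAut_mem_autInducedBy hxS hxN)⟩
    with hadef
  have hfinish : ∀ K : Subgroup A, K.Normal → IsPGroup p K → a ∉ K := fun K hK hKp haK =>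
    hxQ (mem_of_induced_inn (hc.2 Q (isConj_refl hQS)) hQS ⟨hxS, hxN⟩
      (mem_inn_of_radical hr hK hKp haK))
  have hatop : ∀ u : Q, (((a : MulAut Q) u * u⁻¹ : Q) : Ω) ∈ P := fun u => by
    show x * (u : Ω) * x⁻¹ * (u : Ω)⁻¹ ∈ P
    exact commutator_mem_of_normalizes hx (hPn (hQS u.2))
  obtain ⟨K0, hK0, hK0p, hK0mem⟩ := exists_stab hS hP hp2 hm hQS
  obtain ⟨e0, he0P, he0p, he0x⟩ :
      ∃ e : Q, (e : Ω) ∈ P ∧ (e : Ω) ^ p = 1 ∧ (a : MulAut Q) e ≠ e := by
    by_contra h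
    push Not at h
    exact hfinish K0 hK0 hK0p (hK0mem a hatop h)
  obtain ⟨W, hW⟩ := exists_killed hPp hp2 hm
  set E := W 1 with hEdef
  have hE : ∀ z, z ∈ E ↔ z ∈ P ∧ z ^ p = 1 := fun z => by rw [hEdef, hW, pow_one]
  have hEP : E ≤ P := fun z hz => ((hE z).1 hz).1
  have hES : E ≤ S := hEP.trans hP.1
  have := finite_of_le hES
  have hEn : S ≤ Subgroup.normalizer (E : Set Ω) := fun g hg =>
    mem_normalizer_of_conj_mem fun z hz => (hE _).2
      ⟨conj_mem_of_mem_normalizer (hPn hg) (hEP hz), by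
        rw [conj_pow, ((hE z).1 hz).2, mul_one, mul_inv_cancel]⟩
  have hEp : Nat.card E ≤ p ^ 2 := by
    rw [← Nat.card_congr (Subgroup.subgroupOfEquivOfLe hEP).toEquiv]
    exact card_le_sq hp2 hPp hm _ fun z hz => Subtype.ext ((hE _).1 hz).2
  -- `E` lies in `Q`
  have hEQ : E ≤ Q := by
    set H := P ⊓ Subgroup.normalizer (Q : Set Ω)
    have := finite_of_le ((inf_le_left : H ≤ P).trans hP.1)
    have he0E : (e0 : Ω) ∈ E ⊓ Q := ⟨(hE _).2 ⟨he0P, he0p⟩, e0.2⟩
    have hne : (E ⊓ Q : Subgroup Ω) ≠ ⊥ := fun h => he0x (by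
      rw [show e0 = 1 from Subtype.ext (Subgroup.mem_bot.1 (h ▸ he0E)), map_one])
    obtain ⟨l, hl, hl1, hlp, hlc⟩ := exists_central (hPp.to_le (inf_le_left : H ≤ P))
      (le_inf (inf_le_left.trans hEP) (inf_le_right.trans Subgroup.le_normalizer)) (fun g hg => by
        have : Finite (E ⊓ Q : Subgroup Ω) := finite_of_le (inf_le_left.trans hES)
        refine mem_normalizer_of_conj_mem fun z hz => ⟨?_, ?_⟩
        · exact conj_mem_of_mem_normalizer (hEn (hP.1 hg.1)) hz.1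
        · exact conj_mem_of_mem_normalizer hg.2 hz.2) hne
    have hgt : p < Nat.card (E ⊓ Q : Subgroup Ω) := by
      have : Finite (E ⊓ Q : Subgroup Ω) := finite_of_le (inf_le_left.trans hES)
      by_contra hle
      have hz : Subgroup.zpowers l = E ⊓ Q := Subgroup.eq_of_le_of_card_ge
        (Subgroup.zpowers_le.2 hl) (by
          rw [Nat.card_zpowers, orderOf_eq_prime hlp hl1]; exact not_lt.1 hle)
      obtain ⟨k, hk⟩ := Subgroup.mem_zpowers_iff.1 (hz ▸ he0E)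
      refine he0x (Subtype.ext ?_)
      show x * (e0 : Ω) * x⁻¹ = e0
      have hcom : Commute x l := hlc x ⟨hx, hxN⟩
      rw [← hk, (hcom.zpow_right k).eq, mul_inv_cancel_right]
    have : Finite (E ⊓ Q : Subgroup Ω) := finite_of_le (inf_le_left.trans hES)
    obtain ⟨j, hj⟩ := IsPGroup.iff_card.1
      (hS.to_le ((inf_le_left : E ⊓ Q ≤ E).trans hES))
    rw [hj] at hgt
    have h2 : 2 ≤ j := by
      by_contra hj2
      have := Nat.pow_le_pow_right hp.out.pos (show j ≤ 1 by omega)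
      rw [pow_one] at this
      omega
    have h3 : Nat.card E ≤ Nat.card (E ⊓ Q : Subgroup Ω) :=
      hj ▸ hEp.trans (Nat.pow_le_pow_right hp.out.pos h2)
    exact (Subgroup.eq_of_le_of_card_ge inf_le_left h3).ge.trans inf_le_right
  have hEne : E ≠ ⊥ := fun h => he0x (by
    rw [show e0 = 1 from Subtype.ext (Subgroup.mem_bot.1 (h ▸ (hE _).2 ⟨he0P, he0p⟩)), map_one])
  obtain ⟨l, hlE, hl1, hlp, hlc⟩ := exists_central hS hES hEn hEne
  have hlo : orderOf l = p := orderOf_eq_prime hlp hl1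
  -- `E` is generated by `l` and any element outside `⟨l⟩`
  have hgen : ∀ e ∈ E, e ∉ Subgroup.zpowers l → ∀ H : Subgroup Ω, l ∈ H → e ∈ H → E ≤ H := by
    intro e he hel H hlH heH
    have : Finite (E ⊓ H : Subgroup Ω) := finite_of_le (inf_le_left.trans hES)
    obtain ⟨j, hj⟩ := IsPGroup.iff_card.1
      (hS.to_le ((inf_le_left : E ⊓ H ≤ E).trans hES))
    have hL : Subgroup.zpowers l ≤ E ⊓ H := Subgroup.zpowers_le.2 ⟨hlE, hlH⟩
    have hgt : p < Nat.card (E ⊓ H : Subgroup Ω) := by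
      by_contra hle
      have hz := Subgroup.eq_of_le_of_card_ge hL
        (by rw [Nat.card_zpowers, hlo]; exact not_lt.1 hle)
      exact hel (hz ▸ ⟨he, heH⟩)
    rw [hj] at hgt
    have h2 : 2 ≤ j := by
      by_contra hj2
      have := Nat.pow_le_pow_right hp.out.pos (show j ≤ 1 by omega)
      rw [pow_one] at this
      omega
    have h3 : Nat.card E ≤ Nat.card (E ⊓ H : Subgroup Ω) :=
      hj ▸ hEp.trans (Nat.pow_le_pow_right hp.out.pos h2)
    exact (Subgroup.eq_of_le_of_card_ge inf_le_left h3).ge.trans inf_le_right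
  obtain ⟨w, hwE, hwl⟩ : ∃ w ∈ E, w ∉ Subgroup.zpowers l := by
    by_contra h
    push Not at h
    obtain ⟨k, hk⟩ := Subgroup.mem_zpowers_iff.1 (h _ ((hE _).2 ⟨he0P, he0p⟩))
    refine he0x (Subtype.ext ?_)
    show x * (e0 : Ω) * x⁻¹ = e0
    have hcom : Commute x l := hlc x hxS
    rw [← hk, (hcom.zpow_right k).eq, mul_inv_cancel_right]
  have hEcomm : ∀ u ∈ E, ∀ v ∈ E, u * v = v * u := by
    have h1 : E ≤ Subgroup.centralizer (({l, w} : Set Ω)) :=
      hgen w hwE hwl _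
        (Subgroup.mem_centralizer_iff.2 (by
          rintro z (rfl | rfl)
          · rfl
          · exact hlc z (hES hwE)))
        (Subgroup.mem_centralizer_iff.2 (by
          rintro z (rfl | rfl)
          · exact (hlc w (hES hwE)).symm
          · rfl))
    intro u hu v hv
    have h2 : E ≤ Subgroup.centralizer ({u} : Set Ω) := hgen w hwE hwl _
      (Subgroup.mem_centralizer_singleton_iff.2 ((Subgroup.mem_centralizer_iff.1 (h1 hu)) l (by simp)))
      (Subgroup.mem_centralizer_singleton_iff.2 ((Subgroup.mem_centralizer_iff.1 (h1 hu)) w (by simp)))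
    exact (Subgroup.mem_centralizer_singleton_iff.1 (h2 hv)).symm
  -- elements of `E` commuting with an element moving `E` lie in `⟨l⟩`
  have hfix : ∀ g ∈ S, (∃ e ∈ E, g * e ≠ e * g) → ∀ z ∈ E, g * z = z * g →
      z ∈ Subgroup.zpowers l := by
    rintro g hg ⟨e, he, hge⟩ z hz hgz
    by_contra hzl
    exact hge (Subgroup.mem_centralizer_singleton_iff.1 (hgen z hz hzl
      (Subgroup.centralizer {g}) (Subgroup.mem_centralizer_singleton_iff.2 (hlc g hg).symm)
      (Subgroup.mem_centralizer_singleton_iff.2 hgz.symm) he)).symm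
  -- `S` acts trivially on `E/⟨l⟩`
  have hmod : ∀ g ∈ S, ∀ e ∈ E, ⁅g, e⁆ ∈ Subgroup.zpowers l := by
    set L := (Subgroup.zpowers l).subgroupOf S
    have hLn : L.Normal := ⟨fun z hz g => by
      obtain ⟨k, hk⟩ := Subgroup.mem_zpowers_iff.1 (show (z : Ω) ∈ Subgroup.zpowers l from hz)
      have hcom : Commute (g : Ω) l := hlc g g.2
      show (g : Ω) * z * (g : Ω)⁻¹ ∈ Subgroup.zpowers l
      rw [← hk, (hcom.zpow_right k).eq, mul_inv_cancel_right]
      exact Subgroup.mem_zpowers_iff.2 ⟨k, rfl⟩⟩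
    set π := QuotientGroup.mk' L
    have hEnor : (E.subgroupOf S).Normal :=
      ⟨fun z hz g => conj_mem_of_mem_normalizer (P := E) (hEn g.2) (show (z : Ω) ∈ E from hz)⟩
    have hEπn := hEnor.map π (QuotientGroup.mk'_surjective L)
    have hne : (E.subgroupOf S).map π ≠ ⊥ := fun h => hwl (by
      rw [Subgroup.map_eq_bot_iff, QuotientGroup.ker_mk'] at h
      exact h (show (⟨w, hES hwE⟩ : S) ∈ E.subgroupOf S from hwE))
    obtain ⟨zq, ⟨v, hv, rfl⟩, hvc, hvo⟩ :=
      Thompson.exists_central_order_p (hS.to_quotient L) hne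
    have hvl : (v : Ω) ∉ Subgroup.zpowers l := fun h => by
      rw [show π v = 1 from (QuotientGroup.eq_one_iff v).2 h, orderOf_one] at hvo
      exact hp.out.one_lt.ne hvo
    intro g hg e he
    let H : Subgroup Ω := ((Subgroup.centralizer {π ⟨g, hg⟩}).comap π).map S.subtype
    have hH : E ≤ H := hgen v hv hvl H
      ⟨⟨l, hES hlE⟩, by
        show π _ ∈ Subgroup.centralizer _
        rw [show π ⟨l, hES hlE⟩ = 1 from (QuotientGroup.eq_one_iff _).2 (Subgroup.mem_zpowers l)]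
        exact one_mem _, rfl⟩
      ⟨v, Subgroup.mem_centralizer_singleton_iff.2 (Subgroup.mem_center_iff.1 hvc _).symm, rfl⟩
    obtain ⟨u, hu, hue⟩ := hH he
    have h1 : π ⁅(⟨g, hg⟩ : S), u⁆ = 1 := by
      rw [map_commutatorElement, commutatorElement_eq_one_iff_mul_comm]
      exact (Subgroup.mem_centralizer_singleton_iff.1 hu).symm
    have h2 : ⁅g, (u : Ω)⁆ ∈ Subgroup.zpowers l := by
      have h3 : ((⁅(⟨g, hg⟩ : S), u⁆ : S) : Ω) = ⁅g, (u : Ω)⁆ := map_commutatorElement S.subtype _ _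
      rw [← h3]
      exact (QuotientGroup.eq_one_iff (N := L) _).1 h1
    rwa [show (u : Ω) = e from hue] at h2
  -- case: every automorphism of `Q` fixes the line
  by_cases hline : ∀ α ∈ A, ∀ k : ℤ,
      ((α (⟨l, hEQ hlE⟩ ^ k : Q) : Q) : Ω) ∈ Subgroup.zpowers l
  · let lQ : Q := ⟨l, hEQ hlE⟩
    have hlQ : ∀ z : Q, (z : Ω) ∈ Subgroup.zpowers l → ∃ k : ℤ, z = lQ ^ k := fun z hz => by
      obtain ⟨k, hk⟩ := Subgroup.mem_zpowers_iff.1 hz
      exact ⟨k, Subtype.ext (by simpa [lQ] using hk.symm)⟩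
    have hLinv : ∀ α ∈ A, ∀ z : Q, (z : Ω) ∈ Subgroup.zpowers l →
        ((α z : Q) : Ω) ∈ Subgroup.zpowers l := fun α hα z hz => by
      obtain ⟨k, rfl⟩ := hlQ z hz
      exact hline α hα k
    have hEinv : ∀ α ∈ A, ∀ z : Q, (z : Ω) ∈ E → ((α z : Q) : Ω) ∈ E := fun α hα z hz => by
      rw [hE] at hz ⊢
      refine ⟨map_mem_of_stronglyClosed hP ((mem_autGroup hQS).1 hα) z hz.1, ?_⟩
      rw [← SubmonoidClass.coe_pow, ← map_pow, show z ^ p = 1 from Subtype.ext hz.2, map_one,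
        OneMemClass.coe_one]
    let M : Submonoid A :=
      { carrier := {α | (∀ u : Q, (((α : MulAut Q) u * u⁻¹ : Q) : Ω) ∈ P) ∧
          (α : MulAut Q) lQ = lQ ∧
          ∀ u : Q, (u : Ω) ∈ E → (((α : MulAut Q) u * u⁻¹ : Q) : Ω) ∈ Subgroup.zpowers l}
        one_mem' := ⟨fun u => by simp, rfl, fun u _ => by simp⟩
        mul_mem' := by
          rintro α β ⟨hα, hαl, hαE⟩ ⟨hβ, hβl, hβE⟩
          refine ⟨fun u => ?_, by simp [hαl, hβl], fun u hu => ?_⟩
          · have h := mul_mem (map_mem_of_stronglyClosed hP ((mem_autGroup hQS).1 α.2) _ (hβ u))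
              (hα u)
            simp [mul_assoc] at h ⊢
            exact h
          · have h := mul_mem (hLinv α α.2 _ (hβE u hu)) (hαE u hu)
            simp [mul_assoc] at h ⊢
            exact h }
    have : Finite A := by
      have := finite_mulAut hQS
      infer_instance
    let K : Subgroup A :=
      { M with
        inv_mem' := fun {α} hα => by
          rw [show α⁻¹ = α ^ (orderOf α - 1) by
            rw [eq_comm, ← mul_eq_one_iff_eq_inv, ← pow_succ,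
              Nat.sub_add_cancel (orderOf_pos α), pow_orderOf_eq_one]]
          exact M.pow_mem hα _ }
    refine hfinish K ⟨fun α hα γ => ⟨fun u => ?_, ?_, fun u hu => ?_⟩⟩ (fun ⟨α, hα⟩ => ?_)
      ⟨hatop, Subtype.ext (show x * l * x⁻¹ = l by rw [hlc x hxS, mul_inv_cancel_right]),
        fun u hu => by
          show x * (u : Ω) * x⁻¹ * (u : Ω)⁻¹ ∈ Subgroup.zpowers l
          exact commutatorElement_def x (u : Ω) ▸ hmod x hxS u hu⟩
    · have h := map_mem_of_stronglyClosed hP ((mem_autGroup hQS).1 γ.2) _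
        (hα.1 (((γ : MulAut Q))⁻¹ u))
      simp at h ⊢
      exact h
    · obtain ⟨k, hk⟩ := hlQ (((γ : MulAut Q))⁻¹ lQ)
        (hLinv _ (A.inv_mem γ.2) _ (Subgroup.mem_zpowers l))
      show (γ : MulAut Q) ((α : MulAut Q) (((γ : MulAut Q))⁻¹ lQ)) = lQ
      rw [hk, map_zpow (α : MulAut Q), hα.2.1, ← hk]
      simp
    · have h := hLinv γ γ.2 _ (hα.2.2 (((γ : MulAut Q))⁻¹ u) (hEinv _ (A.inv_mem γ.2) u hu))
      simp at h ⊢
      exact h
    · have hαp : α ^ p ∈ K := pow_mem (show α ∈ K from hα) _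
      have h0 : α ^ p ∈ K0 := hK0mem _ hαp.1 fun u huP hup => by
        set z := (α : MulAut Q) u * u⁻¹ with hzdef
        have hz : (z : Ω) ∈ Subgroup.zpowers l := hα.2.2 u ((hE _).2 ⟨huP, hup⟩)
        have hzfix : (α : MulAut Q) z = z := by
          obtain ⟨k, hk⟩ := hlQ z hz
          rw [hk, map_zpow, hα.2.1]
        have hpow : ∀ j : ℕ, ((α : MulAut Q) ^ j) u = z ^ j * u := by
          intro j
          induction j with
          | zero => simp
          | succ j ih =>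
            rw [pow_succ', MulAut.mul_apply, ih, map_mul, map_pow, hzfix,
              show (α : MulAut Q) u = z * u by simp [hzdef], ← mul_assoc, ← pow_succ]
        rw [SubmonoidClass.coe_pow, hpow p]
        obtain ⟨k, hk⟩ := hlQ z hz
        have hl : lQ ^ p = 1 := Subtype.ext hlp
        rw [hk, ← zpow_natCast, ← zpow_mul, mul_comm, zpow_mul, zpow_natCast, hl, one_zpow,
          one_mul]
      obtain ⟨k, hk⟩ := hK0p ⟨_, h0⟩
      refine ⟨k + 1, Subtype.ext ?_⟩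
      rw [SubmonoidClass.coe_pow, pow_succ', pow_mul]
      exact congrArg Subtype.val hk
  -- case: the line moves
  push Not at hline
  obtain ⟨α, hα, k, hk⟩ := hline
  have hαE : ∀ z : E, ((α ⟨z, hEQ z.2⟩ : Q) : Ω) ∈ E := fun z => (hE _).2
    ⟨map_mem_of_stronglyClosed hP ((mem_autGroup hQS).1 hα) _ (hEP z.2), by
      rw [← SubmonoidClass.coe_pow, ← map_pow,
        show (⟨(z : Ω), hEQ z.2⟩ : Q) ^ p = 1 from Subtype.ext ((hE _).1 z.2).2, map_one,
        OneMemClass.coe_one]⟩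
  obtain ⟨β, hβ⟩ := exists_restrict_aut hEQ hαE
  have hβA : β ∈ F.autGroup E := (mem_autGroup hES).2
    (isIso_of_agree hEQ ((mem_autGroup hQS).1 hα) hβ)
  let lE : E := ⟨l, hlE⟩
  have hl0 : ((β lE : E) : Ω) ∉ Subgroup.zpowers l := fun h => hk (by
    have h1 : (α (⟨l, hEQ hlE⟩ ^ k : Q) : Ω) = ((β lE : E) : Ω) ^ k := by
      rw [map_zpow, Subgroup.coe_zpow, hβ]
    rw [h1]; exact zpow_mem h k)
  set e2 := β lE with he2def
  set τ := conjAut E (hEn hxS) with hτdef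
  have hτA : τ ∈ F.autGroup E :=
    autInducedBy_le_autGroup hES (conjAut_mem_autInducedBy hxS _)
  have hτl : τ lE = lE := Subtype.ext (show x * l * x⁻¹ = l by rw [hlc x hxS, mul_inv_cancel_right])
  have hEc : ∀ u v : E, u * v = v * u := fun u v => Subtype.ext (hEcomm u u.2 v v.2)
  have hext : ∀ f g : E →* E, f lE = g lE → f e2 = g e2 → ∀ z : E, f z = g z := by
    intro f g h1 h2 z
    obtain ⟨z', hz', hzz⟩ := hgen e2 e2.2 hl0 ((f.eqLocus g).map E.subtype) ⟨lE, h1, rfl⟩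
      ⟨e2, h2, rfl⟩ z.2
    rw [← show z' = z from Subtype.ext hzz]
    exact hz'
  have hτne : ∃ z : E, τ z ≠ z := ⟨⟨e0, (hE _).2 ⟨he0P, he0p⟩⟩, fun h =>
    he0x (Subtype.ext (congrArg Subtype.val h :))⟩
  have hτid : ∀ y : E, (y : Ω) ∉ Subgroup.zpowers l → τ y ≠ y := by
    intro y hy h
    obtain ⟨z, hz⟩ := hτne
    obtain ⟨z', hz', hzz⟩ := hgen y y.2 hy ((τ.toMonoidHom.eqLocus (MonoidHom.id E)).map E.subtype)
      ⟨lE, hτl, rfl⟩ ⟨y, h, rfl⟩ z.2
    rw [show z' = z from Subtype.ext hzz] at hz'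
    exact hz hz'
  have hmodE : ∀ y : E, ∃ z : E, (z : Ω) ∈ Subgroup.zpowers l ∧ τ y = y * z := fun y =>
    ⟨⟨⁅(x : Ω), (y : Ω)⁆, Subgroup.zpowers_le.2 hlE (hmod x hxS y y.2)⟩,
      hmod x hxS y y.2, Subtype.ext (by
        show x * (y : Ω) * x⁻¹ = y * ⁅x, (y : Ω)⁆
        rw [hEcomm y y.2 _ (Subgroup.zpowers_le.2 hlE (hmod x hxS y y.2)), commutatorElement_def]
        group)⟩
  have hlEpow : lE ^ p = 1 := Subtype.ext hlp
  have hLE : ∀ z : E, (z : Ω) ∈ Subgroup.zpowers l → z ∈ Subgroup.zpowers lE := fun z hz => by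
    obtain ⟨j, hj⟩ := Subgroup.mem_zpowers_iff.1 hz
    exact Subgroup.mem_zpowers_iff.2 ⟨j, Subtype.ext (by simpa [lE] using hj)⟩
  have hpowfix : ∀ (f : MulAut E) (b z : E), f z = z → ∀ y : E, y = b → f y = y * z →
      ∀ j : ℕ, (f ^ j) b = b * z ^ j := by
    intro f b z hfz y hy hfy j
    subst hy
    induction j with
    | zero => simp
    | succ j ih => rw [pow_succ', MulAut.mul_apply, ih, map_mul, map_pow, hfz, hfy, mul_assoc,
        ← pow_succ']
  -- the transvection `u`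
  obtain ⟨z, hz, hzτ⟩ := hmodE e2
  have hz1 : z ≠ 1 := fun h => hτid e2 hl0 (by rw [hzτ, h, mul_one])
  have hτz : τ z = z := by
    obtain ⟨j, hj⟩ := Subgroup.mem_zpowers_iff.1 (hLE z hz)
    rw [← hj, map_zpow, hτl]
  obtain ⟨i, hi⟩ := exists_pow_eq (p := p) (hLE z hz) hlEpow hz1
  set u := τ ^ i with hudef
  have hul : u lE = lE := by
    rw [hudef]
    have := hpowfix τ lE 1 (map_one _) lE rfl (by rw [hτl, mul_one]) i
    rwa [one_pow, mul_one] at this
  have hue : u e2 = e2 * lE := by rw [hudef, hpowfix τ e2 z hτz e2 rfl hzτ i, hi]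
  -- the transvection `v`
  set τ' := β * τ * β⁻¹ with hτ'def
  have hτ'e : τ' e2 = e2 := by simp [hτ'def, he2def, hτl]
  set y := β⁻¹ lE with hydef
  have hyl : (y : Ω) ∉ Subgroup.zpowers l := by
    intro h
    obtain ⟨j, hj⟩ := Subgroup.mem_zpowers_iff.1 (hLE y h)
    have h1 : lE ∈ Subgroup.zpowers e2 := Subgroup.mem_zpowers_iff.2 ⟨j, by
      rw [he2def, ← map_zpow, hj, hydef]; simp⟩
    have he2p : e2 ^ p = 1 := by rw [he2def, ← map_pow, hlEpow, map_one]
    obtain ⟨m, hm'⟩ := exists_pow_eq (p := p) h1 he2p (fun h => hl1 (congrArg Subtype.val h))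
    exact hl0 (by rw [← hm', SubmonoidClass.coe_pow]; exact pow_mem (Subgroup.mem_zpowers l) m)
  obtain ⟨z', hz', hz'τ⟩ := hmodE y
  have hz'1 : z' ≠ 1 := fun h => hτid y hyl (by rw [hz'τ, h, mul_one])
  have hτ'l : τ' lE = lE * β z' := by
    rw [hτ'def, MulAut.mul_apply, MulAut.mul_apply, ← hydef, hz'τ, map_mul, hydef,
      MulAut.apply_inv_self]
  have he2p : e2 ^ p = 1 := by rw [he2def, ← map_pow, hlEpow, map_one]
  have hbz : β z' ∈ Subgroup.zpowers e2 := by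
    obtain ⟨j, hj⟩ := Subgroup.mem_zpowers_iff.1 (hLE z' hz')
    exact Subgroup.mem_zpowers_iff.2 ⟨j, by rw [he2def, ← map_zpow, hj]⟩
  obtain ⟨m, hm'⟩ := exists_pow_eq (p := p) (b := e2⁻¹) (a := β z')
    (by rwa [Subgroup.zpowers_inv]) (by rw [inv_pow, he2p, inv_one])
    (fun h => hz'1 (β.injective (by rw [h, map_one])))
  set v := τ' ^ m with hvdef
  have hve : v e2 = e2 := by
    rw [hvdef]
    have := hpowfix τ' e2 1 (map_one _) e2 rfl (by rw [hτ'e, mul_one]) m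
    rwa [one_pow, mul_one] at this
  have hτ'z : τ' (β z') = β z' := by
    obtain ⟨j, hj⟩ := Subgroup.mem_zpowers_iff.1 hbz
    rw [← hj, map_zpow, hτ'e]
  have hvl : v lE = lE * e2⁻¹ := by rw [hvdef, hpowfix τ' lE (β z') hτ'z lE rfl hτ'l m, hm']
  set w' := u * v * u with hw'def
  have hw'l : w' lE = e2⁻¹ := by
    rw [hw'def, MulAut.mul_apply, MulAut.mul_apply, hul, hvl, map_mul, map_inv, hul, hue,
      mul_inv_rev, mul_inv_cancel_left]
  have hw'e : w' e2 = lE := by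
    rw [hw'def, MulAut.mul_apply, MulAut.mul_apply, hue, map_mul, hve, hvl, map_mul, hue, map_mul,
      map_inv, hue, hul, hEc lE, mul_inv_cancel_left]
  set ε := w' * w' with hεdef
  have hεl : ε lE = lE⁻¹ := by rw [hεdef, MulAut.mul_apply, hw'l, map_inv, hw'e]
  have hεe : ε e2 = e2⁻¹ := by rw [hεdef, MulAut.mul_apply, hw'e, hw'l]
  let invHom : E →* E :=
    { toFun := fun z => z⁻¹
      map_one' := inv_one
      map_mul' := fun a b => by rw [mul_inv_rev, hEc] }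
  have hεinv : ∀ z : E, ε z = z⁻¹ := hext ε.toMonoidHom invHom hεl hεe
  have hτ'A : τ' ∈ F.autGroup E := mul_mem (mul_mem hβA hτA) (inv_mem hβA)
  have huA : u ∈ F.autGroup E := pow_mem hτA i
  have hw'A : w' ∈ F.autGroup E := mul_mem (mul_mem huA (pow_mem hτ'A m)) huA
  have hεA : ε ∈ F.autGroup E := mul_mem hw'A hw'A
  -- extend inversion to `S`
  have hN : S ≤ normalizerIn S E := le_inf le_rfl hEn
  have : Finite (normalizerIn S E) := finite_of_le (normalizerIn_le S E)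
  have hfn : F.IsFullyNormalized E := ⟨hES, fun R hR => Subgroup.card_le_of_le
    ((normalizerIn_le S R).trans hN)⟩
  obtain ⟨ψ, hψ, -, hψe⟩ := exists_extend_of_congr_le (fullyNormalized_props hS hF hfn).2
    ((mem_autGroup hES).1 hεA) (by
      rintro _ ⟨δ, hδ, rfl⟩
      have hs : ∀ z : E, ε.symm z = z⁻¹ := fun z => by
        apply ε.injective
        rw [MulEquiv.apply_symm_apply, hεinv, inv_inv]
      have hc : ε.symm.trans (δ.trans ε) = δ := MulEquiv.ext fun z => by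
        simp [hεinv, hs z]
      simpa [MulAut.congr, hc] using hδ)
  have hψP : ∀ g (hg : g ∈ P), ψ ⟨g, hN (hP.1 hg)⟩ ∈ P := fun g hg =>
    map_mem_of_stronglyClosed hP hψ ⟨g, hN (hP.1 hg)⟩ hg
  have hψE : ∀ g (hg : g ∈ E), ψ ⟨g, hN (hES hg)⟩ = g⁻¹ := fun g hg => by
    rw [hψe ⟨g, hg⟩, hεinv]; rfl
  -- an element of least order moving `E`
  classical
  have hex : ∃ n, ∃ g ∈ P, g ^ p ^ n = 1 ∧ ∃ e ∈ E, g * e ≠ e * g := by
    obtain ⟨n, hn⟩ := hPp ⟨x, hx⟩
    refine ⟨n, x, hx, congrArg Subtype.val hn, e0, (hE _).2 ⟨he0P, he0p⟩, fun h => he0x ?_⟩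
    apply Subtype.ext
    show x * (e0 : Ω) * x⁻¹ = e0
    rw [h, mul_inv_cancel_right]
  obtain ⟨g, hg, hgn, hge⟩ := Nat.find_spec hex
  obtain ⟨n, hn⟩ : ∃ n, Nat.find hex = n + 1 := by
    refine ⟨Nat.find hex - 1, (Nat.succ_pred_eq_of_ne_zero fun h0 => ?_).symm⟩
    rw [h0, pow_zero, pow_one] at hgn
    obtain ⟨e, -, hne⟩ := hge
    exact hne (by rw [hgn, one_mul, mul_one])
  rw [hn] at hgn
  obtain ⟨n, rfl⟩ : ∃ n', n = n' + 1 := by
    refine ⟨n - 1, (Nat.succ_pred_eq_of_ne_zero fun h0 => ?_).symm⟩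
    subst h0
    obtain ⟨e, he, hne⟩ := hge
    rw [pow_one] at hgn
    exact hne (hEcomm g ((hE g).2 ⟨hg, hgn⟩) e he)
  set N := n + 1
  have hmin : ∀ h ∈ P, h ^ p ^ N = 1 → ∀ e ∈ E, h * e = e * h := by
    intro h hh hhN e he
    by_contra hne
    exact Nat.find_min hex (show N < Nat.find hex by omega) ⟨h, hh, hhN, e, he, hne⟩
  set l0 := g ^ p ^ N with hl0def
  have hl0E : l0 ∈ E := (hE _).2 ⟨pow_mem hg _, by rw [hl0def, ← pow_mul, ← pow_succ]; exact hgn⟩
  have hl0L : l0 ∈ Subgroup.zpowers l :=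
    hfix g (hP.1 hg) hge l0 hl0E (Commute.pow_right (Commute.refl g) _).eq
  set σg := ψ ⟨g, hN (hP.1 hg)⟩ with hσdef
  have hσP : σg ∈ P := hψP g hg
  have hσn : σg ^ p ^ (N + 1) = 1 := by
    rw [hσdef, ← map_pow, show (⟨g, hN (hP.1 hg)⟩ : normalizerIn S E) ^ p ^ (N + 1) = 1 from
      Subtype.ext hgn, map_one]
  have hσ0 : σg ^ p ^ N = l0⁻¹ := by
    rw [hσdef, ← map_pow, ← hψE l0 hl0E]
    congr 1
  set c := g⁻¹ * σg with hcdef
  have hcP : c ∈ P := mul_mem (inv_mem hg) hσP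
  have hginv : g⁻¹ ^ p ^ (N + 1) = 1 := by rw [inv_pow, hgn, inv_one]
  have hc0 : c ^ p ^ N = l0⁻¹ * l0⁻¹ := by
    rw [hcdef, mul_pow_in hPp hp2 hm N (inv_mem hg) hσP hginv hσn, hσ0, inv_pow]
  have hcE : ∀ e ∈ E, c * e = e * c := by
    intro e he
    have hgeE : g * e * g⁻¹ ∈ E := conj_mem_of_mem_normalizer (hEn (hP.1 hg)) he
    have h1 : σg * e⁻¹ * σg⁻¹ = (g * e * g⁻¹)⁻¹ := by
      rw [hσdef, ← hψE e he, ← map_inv, ← map_mul, ← map_mul, ← hψE _ hgeE]
      congr 1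
    have h2 : σg * e * σg⁻¹ = g * e * g⁻¹ := by
      have := congrArg (·⁻¹) h1
      simpa [mul_assoc] using this
    calc c * e = g⁻¹ * (σg * e * σg⁻¹) * σg := by rw [hcdef]; group
      _ = e * c := by rw [h2, hcdef]; group
  obtain ⟨j, hj⟩ : ∃ j : ℕ, 2 * j = p + 1 := by
    obtain ⟨i, hi⟩ := hp.out.odd_of_ne_two hp2
    exact ⟨i + 1, by omega⟩
  have hl0p : l0 ^ p = 1 := ((hE _).1 hl0E).2
  have hcN : (c ^ j) ^ p ^ (N + 1) = 1 := by
    rw [← pow_mul, mul_comm, pow_mul, pow_succ, pow_mul, hc0,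
      (Commute.refl l0⁻¹).mul_pow, inv_pow, hl0p, inv_one, one_mul, one_pow]
  have hh0 : (g * c ^ j) ^ p ^ N = 1 := by
    rw [mul_pow_in hPp hp2 hm N hg (pow_mem hcP j) hgn hcN, ← pow_mul, mul_comm j, pow_mul, hc0,
      ← pow_two, ← pow_mul, hj, inv_pow, pow_succ l0, hl0p, one_mul, ← hl0def, mul_inv_cancel]
  obtain ⟨e, he, hne⟩ := hge
  refine hne ?_
  have h1 : g * c ^ j * e = e * (g * c ^ j) := hmin _ (mul_mem hg (pow_mem hcP j)) hh0 e he
  have h2 : Commute (c ^ j) e := (show Commute c e from hcE e he).pow_left j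
  rw [mul_assoc, h2.eq, ← mul_assoc, ← mul_assoc] at h1
  exact mul_right_cancel h1

end Cfsg.Agent.Lib.LocalP2.MetaOdd
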