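import Mathlib
import Cfsg.Agent.Lib.Thompson.MaxClass

/-! The upper central series of a `p`-group of maximal class. -/

set_option autoImplicit false
set_option linter.style.haveILetI false

namespace Cfsg.Agent.Lib.LocalP2

open Subgroup

variable {G : Type*} [Group G] {p n : ℕ}

theorem ucs_strict_of_lt_class [Group.IsNilpotent G] {i : ℕ} (hi : i < Group.nilpotencyClass G) :
    Subgroup.upperCentralSeries G i < Subgroup.upperCentralSeries G (i + 1) := by
  refine lt_of_le_of_ne (Subgroup.upperCentralSeries_mono G i.le_succ) fun e => ?_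
  have hst : ∀ m, Subgroup.upperCentralSeries G (i + m) = Subgroup.upperCentralSeries G i := by
    intro m
    induction m with
    | zero => rfl
    | succ m ih =>
      ext x
      rw [← add_assoc, Subgroup.mem_upperCentralSeries_succ_iff, ih]
      rw [← Subgroup.mem_upperCentralSeries_succ_iff, ← e]
  have h1 := hst (Group.nilpotencyClass G - i)
  rw [Nat.add_sub_cancel' hi.le, Subgroup.upperCentralSeries_nilpotencyClass] at h1
  exact absurd (Subgroup.upperCentralSeries_eq_top_iff_nilpotencyClass_le.1 h1.symm) (by omega)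

theorem ucs_index_ne_prime [Finite G] [Fact p.Prime] {j : ℕ}
    (hne : Subgroup.upperCentralSeries G (j + 1) ≠ ⊤) : (Subgroup.upperCentralSeries G (j + 1)).index ≠ p := by
  intro hidx
  obtain ⟨g, -, hg⟩ := SetLike.exists_of_lt (lt_top_iff_ne_top.2 hne)
  set π := QuotientGroup.mk' (Subgroup.upperCentralSeries G j) with hπ
  set M := (centralizer ({π g} : Set (G ⧸ Subgroup.upperCentralSeries G j))).comap π with hM
  have hcen : ∀ x y : G, π x * π y = π y * π x ↔
      x * y * x⁻¹ * y⁻¹ ∈ Subgroup.upperCentralSeries G j := fun x y => by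
    rw [← QuotientGroup.eq_one_iff (N := Subgroup.upperCentralSeries G j)]
    change _ ↔ π (x * y * x⁻¹ * y⁻¹) = 1
    simp only [map_mul, map_inv, mul_inv_eq_iff_eq_mul, one_mul]
  have hle : Subgroup.upperCentralSeries G (j + 1) < M := by
    refine lt_of_le_of_ne (fun x hx => ?_) fun e => hg ?_
    · rw [hM, mem_comap, mem_centralizer_singleton_iff]
      exact (hcen x g).2 (Subgroup.mem_upperCentralSeries_succ_iff.1 hx g)
    · rw [e, hM, mem_comap, mem_centralizer_singleton_iff]
  have hMtop : M = ⊤ := by
    rw [← index_eq_one]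
    have hdvd := index_dvd_of_le hle.le
    rw [hidx] at hdvd
    refine ((Nat.dvd_prime (Fact.out : p.Prime)).1 hdvd).resolve_right fun e => ?_
    refine hle.ne (eq_of_le_of_card_ge hle.le (le_of_eq ?_))
    have h1 := M.card_mul_index
    have h2 := (Subgroup.upperCentralSeries G (j + 1)).card_mul_index
    rw [e] at h1
    rw [hidx, ← h1] at h2
    exact (Nat.eq_of_mul_eq_mul_right (Fact.out : p.Prime).pos h2).symm
  apply hg
  rw [Subgroup.mem_upperCentralSeries_succ_iff]
  intro y
  refine (hcen g y).1 ?_
  have : y ∈ M := hMtop ▸ mem_top y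
  rw [hM, mem_comap, mem_centralizer_singleton_iff] at this
  exact this.symm

/-- In maximal class the members of the upper central series have the expected orders. -/
theorem card_ucs_of_maxClass [Finite G] [hp : Fact p.Prime] (hG : Nat.card G = p ^ n)
    (hn : 3 ≤ n) (hc : Group.nilpotencyClass G = n - 1) {i : ℕ} (hi : i ≤ n - 2) :
    Nat.card (Subgroup.upperCentralSeries G i) = p ^ i := by
  have hP : IsPGroup p G := IsPGroup.of_card hG
  haveI : Group.IsNilpotent G := hP.isNilpotent
  have hlow : ∀ k, i + k ≤ n - 2 →
      p ^ k * Nat.card (Subgroup.upperCentralSeries G i) ≤ Nat.card (Subgroup.upperCentralSeries G (i + k)) := by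
    intro k
    induction k with
    | zero => intro; simp
    | succ k ih =>
      intro hk
      refine le_trans ?_ (Thompson.card_mul_p_le hP (ucs_strict_of_lt_class (i := i + k) (by omega)))
      rw [pow_succ', mul_assoc]
      exact Nat.mul_le_mul_left _ (ih (by omega))
  have hge : ∀ k, k ≤ n - 2 → p ^ k ≤ Nat.card (Subgroup.upperCentralSeries G k) := by
    intro k
    induction k with
    | zero => intro; rw [pow_zero]; exact Nat.card_pos
    | succ k ih =>
      intro hk
      refine le_trans ?_ (Thompson.card_mul_p_le hP (ucs_strict_of_lt_class (i := k) (by omega)))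
      rw [pow_succ']
      exact Nat.mul_le_mul_left _ (ih (by omega))
  have hnt : Subgroup.upperCentralSeries G (n - 2) ≠ ⊤ := fun e => by
    rw [Subgroup.upperCentralSeries_eq_top_iff_nilpotencyClass_le, hc] at e; omega
  have htop : Nat.card (Subgroup.upperCentralSeries G (n - 2)) ≤ p ^ (n - 2) := by
    obtain ⟨a, ha, hae⟩ := (Nat.dvd_prime_pow hp.out).1
      (hG ▸ (Subgroup.upperCentralSeries G (n - 2)).card_subgroup_dvd_card)
    rw [hae]
    refine Nat.pow_le_pow_right hp.out.pos ?_
    have h1 := (Subgroup.upperCentralSeries G (n - 2)).card_mul_index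
    rw [hG, hae] at h1
    rcases Nat.lt_or_ge a (n - 1) with h | h
    · omega
    · exfalso
      rcases eq_or_lt_of_le ha with rfl | h'
      · exact hnt (eq_top_of_card_eq _ (hae.trans hG.symm))
      · obtain rfl : a = n - 1 := by omega
        have hidx : (Subgroup.upperCentralSeries G (n - 2)).index = p := by
          refine Nat.eq_of_mul_eq_mul_left (pow_pos hp.out.pos (n - 1)) (h1.trans ?_)
          rw [← pow_succ]; congr 1; omega
        obtain ⟨j, hj⟩ : ∃ j, n - 2 = j + 1 := ⟨n - 3, by omega⟩
        rw [hj] at hidx hnt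
        exact ucs_index_ne_prime hnt hidx
  refine le_antisymm ?_ (hge i hi)
  have h1 := (hlow (n - 2 - i) (by omega))
  rw [Nat.add_sub_cancel' hi] at h1
  refine Nat.le_of_mul_le_mul_left (h1.trans (htop.trans (le_of_eq ?_))) (pow_pos hp.out.pos (n - 2 - i))
  rw [← pow_add]; congr 1; omega

/-- The class of a group of maximal class, read from a nontrivial term of the lower central
series. -/
theorem class_eq_of_lcs_ne_bot [Finite G] [hp : Fact p.Prime] (hG : Nat.card G = p ^ n)
    (hn : 3 ≤ n) (h : (⊤ : Subgroup G).lowerCentralSeries (n - 2) ≠ ⊥) :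
    Group.nilpotencyClass G = n - 1 := by
  haveI : Group.IsNilpotent G := (IsPGroup.of_card hG).isNilpotent
  refine le_antisymm ?_ ?_
  · exact Subgroup.lowerCentralSeries_eq_bot_iff_nilpotencyClass_le.1
      (Thompson.lcs_eq_bot hG (by omega) (by omega))
  · by_contra hlt
    exact h (Subgroup.lowerCentralSeries_eq_bot_iff_nilpotencyClass_le.2 (by omega))

end Cfsg.Agent.Lib.LocalP2
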