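import Cfsg.Agent.S0659
import Cfsg.Agent.Lib.LocalP2.FusionZJ
import Cfsg.Agent.Lib.Fusion.Sylow
import Cfsg.Agent.Lib.Transfer.Fusion

/-!
A characteristic self-centralizing subgroup whose automizer decides the existence of a normal
`p`-complement at an odd prime: iterate `S ↦ C_S(Z(J(S))) / Z(J(S))`.
-/

set_option autoImplicit false

namespace Cfsg.Agent.Lib.LocalP2.AutNPC

open Cfsg Subgroup Cfsg.Agent.Lib.Transfer

universe u

variable {p : ℕ} [hp : Fact p.Prime]

/-- An element with a power in the centre: some power of it has the same image and order prime to `p`. -/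
theorem exists_pow_lift {C D : Type u} [Group C] [Finite C] [Group D] (f : C →* D)
    (hf : IsPGroup p f.ker) {c : C} (hc : (orderOf (f c)).Coprime p) :
    ∃ c' : C, f c' = f c ∧ (orderOf c').Coprime p := by
  set m := orderOf (f c) with hm
  obtain ⟨j, hj⟩ := hf ⟨c ^ m, by rw [MonoidHom.mem_ker, map_pow, hm, pow_orderOf_eq_one]⟩
  have hj' : c ^ (m * p ^ j) = 1 := by
    rw [pow_mul]; exact congrArg Subtype.val hj
  obtain ⟨t, ht⟩ : ∃ t : ℕ, p ^ j * t ≡ 1 [MOD m] := by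
    by_cases hm1 : m = 1
    · exact ⟨0, by rw [hm1]; exact Nat.modEq_one⟩
    · obtain ⟨t, ht⟩ := Nat.exists_mul_mod_eq_one_of_coprime (hc.pow_right j).symm
        (lt_of_le_of_ne (Nat.one_le_iff_ne_zero.2 fun h0 => by
          rw [h0, Nat.coprime_zero_left] at hc
          exact hp.out.one_lt.ne hc.symm) (Ne.symm hm1))
      exact ⟨t, by rw [Nat.ModEq, ht.2]; exact (Nat.mod_eq_of_lt (lt_of_le_of_ne (Nat.one_le_iff_ne_zero.2 fun h0 => by
          rw [h0, Nat.coprime_zero_left] at hc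
          exact hp.out.one_lt.ne hc.symm) (Ne.symm hm1))).symm⟩
  refine ⟨c ^ (p ^ j * t), ?_, ?_⟩
  · rw [map_pow]
    conv_rhs => rw [← pow_one (f c)]
    exact pow_eq_pow_iff_modEq.2 ht
  · refine Nat.Coprime.coprime_dvd_left (orderOf_dvd_of_pow_eq_one ?_) hc
    rw [← pow_mul, show p ^ j * t * m = m * p ^ j * t by ring, pow_mul, hj', one_pow]

/-- A normal `p`-complement lifts over a central `p`-subgroup. -/
theorem hasNormalPComplement_of_central {C D : Type u} [Group C] [Finite C] [Group D] [Finite D]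
    (f : C →* D) (hf : IsPGroup p f.ker) (hz : f.ker ≤ center C)
    (hD : HasNormalPComplement p D) : HasNormalPComplement p C := by
  refine frobenius_criterion fun Q hQ g hg hgo => mem_centralizer_iff.2 fun q hq => ?_
  have h1 : f g ∈ centralizer ((Q.map f : Subgroup D) : Set D) :=
    autPGroup_of_hasNormalPComplement (hQ.map f) (HasNormalPComplement.subgroup hD _) (f g)
      (Lib.Fusion.mem_normalizer_map f hg) (Nat.Coprime.coprime_dvd_left (orderOf_map_dvd f g) hgo)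
  have h2 := mem_centralizer_iff.1 h1 (f q) (mem_map_of_mem f hq)
  set ζ := q⁻¹ * (g * q * g⁻¹)
  have hζ : ζ ∈ f.ker := by
    rw [MonoidHom.mem_ker]
    simp only [ζ, map_mul, map_inv, ← h2]
    group
  have hpow : ∀ n : ℕ, g ^ n * q * (g ^ n)⁻¹ = q * ζ ^ n := by
    intro n
    induction n with
    | zero => simp
    | succ n ih =>
      have hc : ζ ^ n * g⁻¹ = g⁻¹ * ζ ^ n := (mem_center_iff.1 (pow_mem (hz hζ) n) g⁻¹).symm
      calc g ^ (n + 1) * q * (g ^ (n + 1))⁻¹ = g * (g ^ n * q * (g ^ n)⁻¹) * g⁻¹ := by group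
        _ = g * q * (ζ ^ n * g⁻¹) := by rw [ih]; group
        _ = g * q * g⁻¹ * ζ ^ n := by rw [hc]; group
        _ = q * ζ ^ (n + 1) := by rw [show g * q * g⁻¹ = q * ζ by simp [ζ], pow_succ']; group
  have hζ1 : ζ = 1 := by
    refine Lib.Fusion.eq_one_of_pGroup_coprime ?_ (m := orderOf g) ?_ hgo
    · obtain ⟨k, hk⟩ := hf ⟨ζ, hζ⟩
      exact ⟨k, congrArg Subtype.val hk⟩
    · have h3 := hpow (orderOf g)
      rw [pow_orderOf_eq_one, one_mul, inv_one, mul_one, left_eq_mul] at h3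
      exact h3
  have h4 : g * q * g⁻¹ = q := by rw [show g * q * g⁻¹ = q * ζ by simp [ζ], hζ1, mul_one]
  exact (mul_inv_eq_iff_eq_mul.1 h4).symm

theorem exists_subgroup (hp2 : p ≠ 2) (n : ℕ) : ∀ (S : Type u) [Group S] [Finite S], IsPGroup p S →
    Nat.card S = n → ∃ K : Subgroup S, K.Characteristic ∧ centralizer (K : Set S) ≤ K ∧
      ∀ (G : Type u) [Group G] [Finite G] (P : Sylow p G) (e : ↥(P : Subgroup G) ≃* S),
        AutPGroup p ((K.comap (e : ↥(P : Subgroup G) →* S)).map (P : Subgroup G).subtype) →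
          HasNormalPComplement p G := by
  classical
  induction n using Nat.strongRecOn with | ind n ih => ?_
  intro S _ _ hS hn
  by_cases h1 : Subsingleton S
  · refine ⟨⊤, inferInstance, le_top, fun G _ _ P e _ => ?_⟩
    refine hasNormalPComplement_iff.2 fun hd => ?_
    have hP : Nat.card (P : Subgroup G) = 1 := by
      rw [Nat.card_congr e.toEquiv, Nat.card_of_subsingleton (1 : S)]
    have := P.dvd_card_of_dvd_card (hd.trans (card_subgroup_dvd_card _))
    rw [hP] at this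
    exact hp.out.not_dvd_one this
  have : Nontrivial S := not_subsingleton_iff_nontrivial.1 h1
  set Z := centerThompsonAOf (⊤ : Subgroup S) with hZ
  have hZ1 : Z ≠ ⊥ := zj_ne_bot (hS.to_subgroup ⊤) le_rfl top_ne_bot
  set K₀ := centralizer (Z : Set S) with hK₀
  have hZK : Z ≤ K₀ := fun x hx => mem_centralizer_iff.2 fun y hy =>
    mem_centralizer_iff.1 hx.2 y hy.1
  set Z' := Z.subgroupOf K₀ with hZ'
  have hZ'c : Z' ≤ center K₀ := fun z hz => mem_center_iff.2 fun k =>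
    Subtype.ext (mem_centralizer_iff.1 k.2 z hz).symm
  have hZ'n : Z'.Normal := ⟨fun z hz k => by
    rw [mem_center_iff.1 (hZ'c hz) k, mul_inv_cancel_right]; exact hz⟩
  have hlt : Nat.card (K₀ ⧸ Z') < n := by
    have h2 := card_eq_card_quotient_mul_card_subgroup Z'
    have h3 : Nat.card K₀ ≤ n := hn ▸ card_le_card_group _
    have h4 : 1 < Nat.card Z' := by
      rw [Nat.card_congr (subgroupOfEquivOfLe hZK).toEquiv]
      exact Finite.one_lt_card_iff_nontrivial.2 ((nontrivial_iff_ne_bot Z).2 hZ1)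
    have h5 : 0 < Nat.card (K₀ ⧸ Z') := Nat.card_pos
    calc Nat.card (K₀ ⧸ Z') < Nat.card (K₀ ⧸ Z') * Nat.card Z' := lt_mul_of_one_lt_right h5 h4
      _ ≤ n := h2 ▸ h3
  obtain ⟨K', hK'c, hK'cent, hK'G⟩ := ih _ hlt (K₀ ⧸ Z') ((hS.to_subgroup K₀).to_quotient Z') rfl
  set K'' := K'.comap (QuotientGroup.mk' Z') with hK''
  set K := K''.map K₀.subtype with hKdef
  have hZK'' : Z' ≤ K'' := fun z hz => by
    rw [hK'', mem_comap, show (QuotientGroup.mk' Z') z = 1 from (QuotientGroup.eq_one_iff z).2 hz]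
    exact one_mem _
  have hinv : ∀ ψ : MulAut K₀, (∀ z, z ∈ Z' → ψ z ∈ Z') → ∀ k, k ∈ K'' → ψ k ∈ K'' := by
    intro ψ hψ k hk
    have hmap : Z'.map ψ.toMonoidHom = Z' := eq_of_le_of_card_ge (by rintro _ ⟨z, hz, rfl⟩; exact hψ z hz)
      (card_map_of_injective ψ.injective).ge
    exact (Subgroup.characteristic_iff_map_le.1 hK'c (QuotientGroup.congr Z' Z' ψ hmap)) ⟨_, hk, rfl⟩
  have hKK₀ : K ≤ K₀ := map_subtype_le _
  have hZKK : Z ≤ K := fun z hz => ⟨⟨z, hZK hz⟩, hZK'' (show (⟨z, hZK hz⟩ : K₀) ∈ Z' from hz), rfl⟩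
  have hmemK : ∀ k : K₀, (k : S) ∈ K ↔ k ∈ K'' := fun k =>
    ⟨fun ⟨c, hc, hck⟩ => (show c = k from Subtype.ext hck) ▸ hc, fun h => ⟨k, h, rfl⟩⟩
  refine ⟨K, characteristic_iff_map_le.2 fun φ => ?_, fun x hx => ?_, ?_⟩
  · -- characteristic
    have hφZ : Z.map φ.toMonoidHom = Z := by
      rw [hZ, Lib.Thompson.map_centerThompsonAOf φ.toMonoidHom ⊤ fun _ _ _ _ h => φ.injective h,
        map_top_of_surjective _ φ.surjective]
    have hφK : K₀.map φ.toMonoidHom = K₀ := by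
      refine eq_of_le_of_card_ge ?_ (card_map_of_injective φ.injective).ge
      rintro _ ⟨k, hk, rfl⟩
      refine mem_centralizer_iff.2 fun z hz => ?_
      obtain ⟨z', hz', rfl⟩ := hφZ.ge hz
      rw [← map_mul, ← map_mul, mem_centralizer_iff.1 hk z' hz']
    let ψ : MulAut K₀ := (φ.subgroupMap K₀).trans (MulEquiv.subgroupCongr hφK)
    rintro _ ⟨_, ⟨k, hk, rfl⟩, rfl⟩
    exact ⟨ψ k, hinv ψ (fun z hz => hφZ.le ⟨z, hz, rfl⟩) k hk, rfl⟩
  · -- self-centralizing
    have hxK₀ : x ∈ K₀ := mem_centralizer_iff.2 fun z hz => mem_centralizer_iff.1 hx z (hZKK hz)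
    refine (hmemK ⟨x, hxK₀⟩).2 (hK'cent (mem_centralizer_iff.2 fun y hy => ?_))
    obtain ⟨k, rfl⟩ := QuotientGroup.mk'_surjective Z' y
    rw [← map_mul, ← map_mul]
    exact congrArg _ (Subtype.ext (mem_centralizer_iff.1 hx k ((hmemK k).2 hy)))
  intro G _ _ P e hA
  set ι : S →* G := (P : Subgroup G).subtype.comp e.symm.toMonoidHom with hι
  have hιi : Function.Injective ι := (P : Subgroup G).subtype_injective.comp e.symm.injective
  have hιr : ι.range = P := by
    rw [hι, MonoidHom.range_comp, MonoidHom.range_eq_top.2 e.symm.surjective, ← MonoidHom.range_eq_map,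
      range_subtype]
  set KG := K.map ι with hKG
  have hA' : AutPGroup p KG := by
    rw [hKG, hι, ← Subgroup.map_map, Subgroup.map_equiv_eq_comap_symm']
    exact hA
  set ZG := Z.map ι with hZG
  have hZG' : ZG = centerThompsonAOf (P : Subgroup G) := by
    rw [hZG, hZ, Lib.Thompson.map_centerThompsonAOf ι ⊤ fun _ _ _ _ h => hιi h, ← MonoidHom.range_eq_map, hιr]
  set N := normalizer (ZG : Set G) with hN
  set C := centralizer (ZG : Set G) with hC
  have hCN : C ≤ N := Lib.Fusion.centralizer_le_normalizer' ZG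
  have hPN : (P : Subgroup G) ≤ N := fun x hx => by
    rw [hN, hZG']
    exact Lib.LocalP2.normalizerIn_le_zj (S := (P : Subgroup G)) le_rfl ⟨hx, le_normalizer hx⟩
  -- `ι` carries `K₀` onto a Sylow subgroup of `C`
  have hK₀C : K₀.map ι = (P : Subgroup G) ⊓ C := by
    refine le_antisymm (le_inf (hιr ▸ map_le_range ι K₀) ?_) ?_
    · rintro _ ⟨k, hk, rfl⟩
      refine mem_centralizer_iff.2 ?_
      rintro _ ⟨z, hz, rfl⟩
      rw [← map_mul, ← map_mul, mem_centralizer_iff.1 hk z hz]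
    · rintro x ⟨hxP, hxC⟩
      obtain ⟨s, rfl⟩ := hιr.ge hxP
      refine mem_map_of_mem ι (mem_centralizer_iff.2 fun z hz => hιi ?_)
      rw [map_mul, map_mul]
      exact mem_centralizer_iff.1 hxC _ (mem_map_of_mem ι hz)
  have hCn : (C.subgroupOf N).Normal := ⟨fun c hc g => mem_subgroupOf.2 (mem_centralizer_iff.2 fun z hz => by
    have hz' : (g : G)⁻¹ * z * g ∈ ZG := by
      have := (mem_normalizer_iff.1 (N.inv_mem g.2) z).1 hz
      simpa using this
    have h1 := mem_centralizer_iff.1 (mem_subgroupOf.1 hc) _ hz'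
    calc z * ((g * c * g⁻¹ : N) : G) = (g : G) * ((g : G)⁻¹ * z * g * (c : G)) * (g : G)⁻¹ := by
          push_cast; group
      _ = (g : G) * ((c : G) * ((g : G)⁻¹ * z * g)) * (g : G)⁻¹ := by rw [h1]
      _ = _ := by push_cast; group)⟩
  have hsyl : Lib.Fusion.IsSylowIn p ((P : Subgroup G) ⊓ C) C := by
    refine ⟨inf_le_right, P.isPGroup'.to_le inf_le_left, fun h => ?_⟩
    obtain ⟨PN, hPN'⟩ : ∃ PN : Sylow p N, (PN : Subgroup N) = (P : Subgroup G).subgroupOf N :=
      ⟨P.subtype hPN, rfl⟩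
    refine not_dvd_relIndex_inf PN (C.subgroupOf N) ?_
    have heq : (P : Subgroup G).subgroupOf N ⊓ C.subgroupOf N = ((P : Subgroup G) ⊓ C).subgroupOf N := rfl
    rw [hPN', heq, relIndex_subgroupOf hCN]
    exact h
  -- a normal `p`-complement of `C`
  set Zc := ZG.subgroupOf C with hZc
  have hZGC : ZG ≤ C := by
    rw [hC, hZG]
    rintro _ ⟨z, hz, rfl⟩
    refine mem_centralizer_iff.2 ?_
    rintro _ ⟨z', hz', rfl⟩
    rw [← map_mul, ← map_mul, mem_centralizer_iff.1 (hZK hz) z' hz']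
  have hZcc : Zc ≤ center C := fun z hz => mem_center_iff.2 fun c =>
    Subtype.ext (mem_centralizer_iff.1 c.2 z hz).symm
  have hZcn : Zc.Normal := ⟨fun z hz k => by
    rw [mem_center_iff.1 (hZcc hz) k, mul_inv_cancel_right]; exact hz⟩
  have hZcp : IsPGroup p Zc := (P.isPGroup'.to_le (hιr ▸ map_le_range ι Z : ZG ≤ (P : Subgroup G))).comap_subtype
  set θ := QuotientGroup.mk' Zc with hθ
  let PC : Sylow p C := hsyl.toSylow
  let Pb : Sylow p (C ⧸ Zc) := PC.mapSurjective (QuotientGroup.mk'_surjective Zc)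
  have hPbmem : ∀ k : K₀, θ ⟨ι k, (hK₀C.le (mem_map_of_mem ι k.2)).2⟩ ∈ Pb := fun k =>
    ⟨_, (hK₀C.le (mem_map_of_mem ι k.2) : ι k ∈ (P : Subgroup G) ⊓ C), rfl⟩
  let gK : K₀ →* ↥(Pb : Subgroup (C ⧸ Zc)) := MonoidHom.mk' (fun k => ⟨_, hPbmem k⟩) fun a b => by
    refine Subtype.ext ?_
    show θ _ = θ _ * θ _
    rw [← map_mul]
    exact congrArg θ (Subtype.ext (map_mul ι (a : S) b))
  have hgker : gK.ker = Z' := by
    ext k
    rw [MonoidHom.mem_ker, Subtype.ext_iff]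
    show θ _ = 1 ↔ _
    rw [hθ, QuotientGroup.mk'_apply, QuotientGroup.eq_one_iff]
    show ι k ∈ ZG ↔ (k : S) ∈ Z
    exact Subgroup.mem_map_iff_mem hιi
  have hgsurj : Function.Surjective gK := by
    rintro ⟨_, c, hc, rfl⟩
    obtain ⟨k, hk, hkc⟩ := hK₀C.ge (show (c : G) ∈ (P : Subgroup G) ⊓ C from hc)
    exact ⟨⟨k, hk⟩, Subtype.ext (congrArg θ (Subtype.ext hkc))⟩
  let e' : ↥(Pb : Subgroup (C ⧸ Zc)) ≃* K₀ ⧸ Z' :=
    (QuotientGroup.quotientKerEquivOfSurjective gK hgsurj).symm.trans (QuotientGroup.quotientMulEquivOfEq hgker)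
  have he' : ∀ k, e' (gK k) = QuotientGroup.mk' Z' k := fun k => by
    show QuotientGroup.quotientMulEquivOfEq hgker ((QuotientGroup.quotientKerEquivOfSurjective gK hgsurj).symm (gK k)) = _
    rw [show (QuotientGroup.quotientKerEquivOfSurjective gK hgsurj).symm (gK k) = (k : K₀ ⧸ gK.ker) from
      (MulEquiv.symm_apply_eq _).2 rfl]
    rfl
  set Kb := (K'.comap (e' : ↥(Pb : Subgroup (C ⧸ Zc)) →* K₀ ⧸ Z')).map (Pb : Subgroup (C ⧸ Zc)).subtype
  have hKbmem : ∀ c : C, θ c ∈ Kb ↔ (c : G) ∈ KG := by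
    intro c
    constructor
    · rintro ⟨y, hy, hyc⟩
      obtain ⟨k, rfl⟩ := hgsurj y
      rw [SetLike.mem_coe, mem_comap, MonoidHom.coe_coe, he'] at hy
      have hkK : (k : S) ∈ K := (hmemK k).2 hy
      have hcd : (⟨ι k, (hK₀C.le (mem_map_of_mem ι k.2)).2⟩ : C)⁻¹ * c ∈ Zc := (QuotientGroup.eq (s := Zc)).1 hyc
      have h6 : (ι k)⁻¹ * (c : G) ∈ KG := map_mono hZKK (mem_subgroupOf.1 hcd)
      have := mul_mem (mem_map_of_mem ι hkK) h6
      rwa [mul_inv_cancel_left] at this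
    · rintro ⟨s, hs, hsc⟩
      refine ⟨gK ⟨s, hKK₀ hs⟩, ?_, congrArg θ (Subtype.ext hsc)⟩
      rw [SetLike.mem_coe, mem_comap, MonoidHom.coe_coe, he']
      exact (hmemK ⟨s, hKK₀ hs⟩).1 hs
  have hnpcC : HasNormalPComplement p C := by
    refine hasNormalPComplement_of_central θ ?_ ?_ (hK'G (C ⧸ Zc) Pb e' fun g hg hgo => ?_)
    · rw [QuotientGroup.ker_mk']; exact hZcp
    · rw [QuotientGroup.ker_mk']; exact hZcc
    obtain ⟨c₀, rfl⟩ := QuotientGroup.mk'_surjective Zc g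
    obtain ⟨c, hceq, hco⟩ := exists_pow_lift θ (by rw [QuotientGroup.ker_mk']; exact hZcp) hgo
    rw [← hceq] at hg ⊢
    have hcK : (c : G) ∈ normalizer (KG : Set G) := Lib.Fusion.mem_normalizer_of_conj_mem fun x hx => by
      have hxC : x ∈ C := by
        obtain ⟨s, hs, rfl⟩ := hx
        exact (hK₀C.le (mem_map_of_mem ι (hKK₀ hs))).2
      have h1 := (mem_normalizer_iff.1 hg (θ ⟨x, hxC⟩)).1 ((hKbmem ⟨x, hxC⟩).2 hx)
      rw [← map_inv, ← map_mul, ← map_mul] at h1
      exact (hKbmem (c * ⟨x, hxC⟩ * c⁻¹)).1 h1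
    have hcc := hA' c hcK (by rwa [orderOf_coe])
    refine mem_centralizer_iff.2 fun y hy => ?_
    obtain ⟨d, rfl⟩ := QuotientGroup.mk'_surjective Zc y
    rw [← map_mul, ← map_mul]
    exact congrArg θ (Subtype.ext (mem_centralizer_iff.1 hcc d ((hKbmem d).1 hy)))
  -- `N` has a normal `p`-complement
  refine S0659.result hp2 P ?_
  rw [← hZG']
  have hcop : ∀ g : N, (orderOf g).Coprime p → (g : G) ∈ C := by
    intro g hgo
    -- Frattini along the Sylow subgroup `P ⊓ C`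
    obtain ⟨R', hR'⟩ := exists_sylow_inf (P.subtype hPN) (C.subgroupOf N)
    have htop := R'.normalizer_sup_eq_top
    have hmem : g ∈ C.subgroupOf N ⊔ normalizer ((R' : Subgroup (C.subgroupOf N)).map (C.subgroupOf N).subtype : Set N) := by
      rw [sup_comm]; exact htop ▸ mem_top _
    obtain ⟨c, hc, h, hh, hchg⟩ := mem_sup_of_normal_left.1 hmem
    have hR'' : (R' : Subgroup (C.subgroupOf N)).map (C.subgroupOf N).subtype =
        ((P : Subgroup G) ⊓ C).subgroupOf N := by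
      rw [hR', subgroupOf_map_subtype]
      rfl
    rw [hR''] at hh
    have hhN : (h : G) ∈ normalizer (((P : Subgroup G) ⊓ C : Subgroup G) : Set G) :=
      Lib.Fusion.mem_normalizer_of_conj_mem fun x hx =>
        mem_subgroupOf.1 ((mem_normalizer_iff.1 hh ⟨x, hCN hx.2⟩).1 (mem_subgroupOf.2 hx))
    -- `h` normalizes the transported subgroup
    have hhK : (h : G) ∈ normalizer (KG : Set G) := by
      refine Lib.Fusion.mem_normalizer_of_conj_mem ?_
      rintro _ ⟨k, hk, rfl⟩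
      let σ : MulAut ↥((P : Subgroup G) ⊓ C) := Lib.Fusion.conjAut _ hhN
      let i : K₀ ≃* ↥((P : Subgroup G) ⊓ C) :=
        (K₀.equivMapOfInjective ι hιi).trans (MulEquiv.subgroupCongr hK₀C)
      let ψ : MulAut K₀ := i.trans (σ.trans i.symm)
      have hi : ∀ y : K₀, ((i y : ↥((P : Subgroup G) ⊓ C)) : G) = ι y := fun y => rfl
      have hψ : ∀ y : K₀, ι (ψ y : K₀) = (h : G) * ι y * (h : G)⁻¹ := fun y => by
        rw [← hi (ψ y)]
        show ((i (i.symm (σ (i y))) : ↥((P : Subgroup G) ⊓ C)) : G) = _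
        rw [i.apply_symm_apply, Lib.Fusion.conjAut_apply, hi]
      have hzψ : ∀ z, z ∈ Z' → ψ z ∈ Z' := fun z hz => by
        have h1 : ι (ψ z : K₀) ∈ ZG := (hψ z).symm ▸ (mem_normalizer_iff.1 h.2 _).1 (mem_map_of_mem ι hz)
        exact (Subgroup.mem_map_iff_mem hιi).1 h1
      have h2 := hinv ψ hzψ ⟨k, hKK₀ hk⟩ ((hmemK ⟨k, hKK₀ hk⟩).1 hk)
      exact (hψ ⟨k, hKK₀ hk⟩) ▸ mem_map_of_mem ι ((hmemK _).2 h2)
    -- its `p'`-part centralizes `ZG`
    have hord : ∃ j, (h : G) ^ p ^ j ∈ C := by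
      obtain ⟨j, m, hm, hjm⟩ := Nat.exists_eq_pow_mul_and_not_dvd (orderOf_pos (h : G)).ne' p hp.out.ne_one
      refine ⟨j, mem_centralizer_iff.2 fun z hz => mem_centralizer_iff.1 (hA' _ (pow_mem hhK _) ?_) z (map_mono hZKK hz)⟩
      refine Nat.Coprime.coprime_dvd_left (orderOf_dvd_of_pow_eq_one ?_) ((hp.out.coprime_iff_not_dvd.2 hm).symm)
      rw [← pow_mul, ← hjm, pow_orderOf_eq_one]
    obtain ⟨j, hj⟩ := hord
    let q := QuotientGroup.mk' (C.subgroupOf N)
    have hq : q g = q h := by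
      rw [← hchg, map_mul, show q c = 1 from (QuotientGroup.eq_one_iff c).2 hc, one_mul]
    have h1 : q g = 1 := Lib.Fusion.eq_one_of_pGroup_coprime
      ⟨j, by rw [hq, ← map_pow]; exact (QuotientGroup.eq_one_iff _).2 (mem_subgroupOf.2 (by simpa using hj))⟩
      (m := orderOf g) (by rw [← map_pow, pow_orderOf_eq_one, map_one]) hgo
    exact mem_subgroupOf.1 ((QuotientGroup.eq_one_iff g).1 h1)
  rw [hasNormalPComplement_iff] at hnpcC ⊢
  intro hd
  refine hnpcC (hd.trans ?_)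
  refine dvd_trans (dvd_of_eq ?_) (card_dvd_of_le (K := pResidual p C) (H := ((pResidual p N).map N.subtype).subgroupOf C) ?_)
  · rw [Nat.card_congr (subgroupOfEquivOfLe ?_).toEquiv, card_map_of_injective N.subtype_injective]
    rw [pResidual, MonoidHom.map_closure, closure_le]
    rintro _ ⟨g, hg, rfl⟩
    exact hcop g hg
  · rw [pResidual, MonoidHom.map_closure]
    have hgen : closure (N.subtype '' {g : N | (orderOf g).Coprime p}) =
        (closure {c : C | (orderOf c).Coprime p}).map C.subtype := by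
      rw [MonoidHom.map_closure]
      congr 1
      ext x
      constructor
      · rintro ⟨g, hg, rfl⟩
        exact ⟨⟨g, hcop g hg⟩, by show (orderOf (⟨(g : G), _⟩ : C)).Coprime p; rwa [orderOf_mk, orderOf_coe], rfl⟩
      · rintro ⟨c, hc, rfl⟩
        exact ⟨⟨c, hCN c.2⟩, by show (orderOf (⟨(c : G), _⟩ : N)).Coprime p; rwa [orderOf_mk, orderOf_coe], rfl⟩
    rw [hgen, subgroupOf, comap_map_eq_self_of_injective C.subtype_injective]
    exact le_rfl

end Cfsg.Agent.Lib.LocalP2.AutNPC
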