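import Cfsg.Agent.Lib.LocalP2.AxiomaticThompson
import Cfsg.Agent.Lib.LocalP2.FusionZJ
import Cfsg.Agent.Lib.Coprime.Action

/-!
A minimal configuration above a maximal `p`-subgroup with non-`p`-group automizer.
-/

set_option autoImplicit false

namespace Cfsg.Agent.Lib.LocalP2.Axiomatic

open Subgroup
open scoped commutatorElement

universe u

variable {G : Type u} [Group G] [Finite G] {p : ℕ} [hp : Fact p.Prime]

omit [Finite G] in
theorem normalizer_le_normalizer_commutator (E : Subgroup G) :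
    normalizer (E : Set G) ≤ normalizer ((⁅E, E⁆ : Subgroup G) : Set G) := by
  intro g hg
  have hmap : E.map (MulAut.conj g).toMonoidHom = E := by
    ext x
    constructor
    · rintro ⟨y, hy, rfl⟩; exact (mem_normalizer_iff.1 hg y).1 hy
    · intro hx
      refine ⟨g⁻¹ * x * g, (mem_normalizer_iff.1 hg _).2 (by simpa [mul_assoc] using hx), ?_⟩
      simp [mul_assoc]
  have h2 : (⁅E, E⁆ : Subgroup G).map (MulAut.conj g).toMonoidHom = ⁅E, E⁆ := by
    rw [map_commutator, hmap]
  refine mem_normalizer_iff.2 fun x => ⟨fun hx => h2.le ⟨x, hx, rfl⟩, fun hx => ?_⟩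
  obtain ⟨y, hy, hyx⟩ := h2.ge hx
  have : y = x := by
    change g * y * g⁻¹ = g * x * g⁻¹ at hyx
    exact mul_left_cancel (mul_right_cancel hyx)
  exact this ▸ hy

/-- The configuration. -/
theorem exists_setup (hp2 : p ≠ 2) (P : Sylow p G) (hP : (P : Subgroup G) ≠ ⊤) (U : Subgroup G)
    [U.Normal] (hUP : U ≤ P)
    (hV : ∀ V : Subgroup G, U < V → V ≤ (P : Subgroup G) → (P : Subgroup G) ≤ normalizer (V : Set G) →
      normalizer (V : Set G) ≤ P) :
    ∃ G0 : Subgroup G, (P : Subgroup G) < G0 ∧ ∃ D : Setup G0 p,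
      D.U = U.subgroupOf G0 ∧ D.T = (P : Subgroup G).subgroupOf G0 := by
  classical
  set θ := QuotientGroup.mk' U
  have hθ : Function.Surjective θ := QuotientGroup.mk'_surjective U
  set T := (P : Subgroup G).map θ
  let Pq : Sylow p (G ⧸ U) := P.mapSurjective hθ
  have hPq : (Pq : Subgroup (G ⧸ U)) = T := rfl
  have hcomapT : T.comap θ = P := by
    rw [Subgroup.comap_map_eq, QuotientGroup.ker_mk', sup_eq_left.2 hUP]
  obtain ⟨P', K, hKn, hK⟩ : ∃ (P' : Sylow p (G ⧸ U)) (K : Subgroup (G ⧸ U)),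
      K.Normal ∧ IsComplement' K (P' : Subgroup (G ⧸ U)) := by
    by_cases hT : T = ⊥
    · exact ⟨Pq, ⊤, inferInstance, by rw [hPq, hT]; exact isComplement'_top_bot⟩
    · set W := Cfsg.centerThompsonAOf T
      have hTp : IsPGroup p T := P.isPGroup'.map θ
      have hW1 : W ≠ ⊥ := zj_ne_bot hTp le_rfl hT
      have hWn : T ≤ normalizer (W : Set (G ⧸ U)) := fun t ht =>
        normalizerIn_le_zj (S := T) le_rfl ⟨ht, Subgroup.le_normalizer ht⟩
      have hUV : U < W.comap θ := by
        refine lt_of_le_of_ne (fun x hx => ?_) fun h => hW1 ?_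
        · rw [mem_comap, show θ x = 1 from (QuotientGroup.eq_one_iff x).2 hx]; exact one_mem _
        · rw [← map_comap_eq_self_of_surjective hθ W, ← h, QuotientGroup.map_mk'_self]
      have hN : normalizer (W : Set (G ⧸ U)) ≤ T := by
        intro x hx
        obtain ⟨g, rfl⟩ := hθ x
        refine mem_map_of_mem θ (hV (W.comap θ) hUV (hcomapT ▸ comap_mono (zj_le T)) ?_ ?_)
        · intro t ht
          rw [← comap_normalizer_eq_of_surjective W hθ]
          exact hWn (mem_map_of_mem θ ht)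
        · rw [← comap_normalizer_eq_of_surjective W hθ]
          exact hx
      have hNp : IsPGroup p (normalizer (W : Set (G ⧸ U))) := hTp.to_le hN
      have hnpc : Cfsg.HasNormalPComplement p (normalizer (W : Set (G ⧸ U))) := by
        obtain ⟨R⟩ : Nonempty (Sylow p (normalizer (W : Set (G ⧸ U)))) := inferInstance
        refine ⟨R, ⊥, inferInstance, ?_⟩
        rw [show (R : Subgroup (normalizer (W : Set (G ⧸ U)))) = ⊤ from
          (R.3 (Q := ⊤) (hNp.to_subgroup ⊤) le_top).symm]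
        exact isComplement'_bot_top
      obtain ⟨P', K, hKn, hK⟩ := S0659.result hp2 Pq (by rw [hPq]; exact hnpc)
      exact ⟨P', K, hKn, hK⟩
  have := hKn
  have hKcard : ¬ p ∣ Nat.card K := by
    rw [← hK.index_eq_card]; exact P'.not_dvd_index
  have hKcop : (Nat.card K).Coprime p := ((hp.out.coprime_iff_not_dvd).2 hKcard).symm
  have hK1 : ∀ k ∈ K, ∀ n : ℕ, k ^ p ^ n = 1 → k = 1 := fun k hk n h => by
    refine orderOf_eq_one_iff.1 (Nat.dvd_one.1 ?_)
    rw [← (hKcop.pow_right n).gcd_eq_one]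
    refine Nat.dvd_gcd ?_ (orderOf_dvd_of_pow_eq_one h)
    have := orderOf_dvd_natCard (⟨k, hk⟩ : K)
    rwa [← orderOf_submonoid] at this
  have hKne : K ≠ ⊥ := fun h => hP (by
    rw [h, isComplement'_bot_left] at hK
    have hTtop : T = ⊤ := hPq ▸ (Pq.3 (Q := ⊤) (hK ▸ P'.isPGroup') le_top).symm
    rw [← hcomapT, hTtop, comap_top])
  obtain ⟨q, hq, hqK⟩ := Nat.exists_prime_and_dvd fun h => hKne (Subgroup.card_eq_one.1 h)
  have : Fact q.Prime := ⟨hq⟩
  have hTK : T ≤ normalizer (K : Set (G ⧸ U)) := by rw [normalizer_eq_top]; exact le_top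
  obtain ⟨n, hn⟩ := IsPGroup.iff_card.1 (P.isPGroup'.map θ : IsPGroup p T)
  have hTsolv : Group.IsSolvable T := by
    have : Group.IsNilpotent T := (P.isPGroup'.map θ).isNilpotent
    infer_instance
  obtain ⟨Q, hQ⟩ := Coprime.exists_invariant_sylow hTK
    (by rw [hn]; exact hKcop.symm.pow_left n) (Or.inl hTsolv) q
  set Q' := (Q : Subgroup K).map K.subtype
  have hQ'K : Q' ≤ K := map_subtype_le _
  have hQ'p : IsPGroup q Q' := Q.isPGroup'.map _
  have hQ'ne : Q' ≠ ⊥ := fun h => by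
    have h1 : (Q : Subgroup K) = ⊥ := (map_eq_bot_iff_of_injective _ K.subtype_injective).1 h
    exact Q.not_dvd_index (h1 ▸ by rw [index_bot]; exact hqK)
  obtain ⟨E, ⟨hEQ, hE1, hET⟩, hEmin⟩ :=
    (Set.toFinite {E : Subgroup (G ⧸ U) | E ≤ Q' ∧ E ≠ ⊥ ∧ T ≤ normalizer (E : Set (G ⧸ U))}).exists_minimal
      ⟨Q', le_rfl, hQ'ne, hQ⟩
  have hEK : E ≤ K := hEQ.trans hQ'K
  have hEab : ∀ a ∈ E, ∀ b ∈ E, ⁅a, b⁆ = 1 := by
    intro a ha b hb
    by_contra hne
    have hle : ⁅E, E⁆ ≤ E := commutator_le.2 fun x hx y hy =>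
      E.mul_mem (E.mul_mem (E.mul_mem hx hy) (E.inv_mem hx)) (E.inv_mem hy)
    have h1 := hEmin (y := ⁅E, E⁆) ⟨hle.trans hEQ, fun h => hne (mem_bot.1 (h ▸ commutator_mem_commutator ha hb)),
      hET.trans (normalizer_le_normalizer_commutator E)⟩ hle
    have : Group.IsNilpotent E := (hQ'p.to_le hEQ).isNilpotent
    have : Nontrivial E := (nontrivial_iff_ne_bot E).2 hE1
    refine (Group.IsSolvable.commutator_lt_top_of_nontrivial E).ne ?_
    rw [← (map_injective (subtype_injective E)).eq_iff, map_subtype_commutator, ← MonoidHom.range_eq_map,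
      range_subtype]
    exact le_antisymm hle h1
  set M := E.comap θ
  set G0 := M ⊔ (P : Subgroup G)
  have hUM : U ≤ M := fun x hx => by
    rw [mem_comap, show θ x = 1 from (QuotientGroup.eq_one_iff x).2 hx]; exact one_mem _
  have hPM : (P : Subgroup G) ≤ normalizer (M : Set G) := fun t ht => by
    rw [← comap_normalizer_eq_of_surjective E hθ]
    exact hET (mem_map_of_mem θ ht)
  have hMn : G0 ≤ normalizer (M : Set G) := sup_le le_normalizer hPM
  have hMnot : ¬ M ≤ P := fun h => hE1 (le_bot_iff.1 fun e he => by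
    obtain ⟨m, rfl⟩ := hθ e
    obtain ⟨k, hk⟩ := P.isPGroup' ⟨m, h he⟩
    refine mem_bot.2 (hK1 _ (hEK he) k ?_)
    rw [← map_pow, show m ^ p ^ k = 1 from congrArg Subtype.val hk, map_one])
  refine ⟨G0, lt_of_le_of_ne le_sup_right fun h => hMnot (h.ge.trans' le_sup_left), ?_⟩
  have hMG : M ≤ G0 := le_sup_left
  have hPG : (P : Subgroup G) ≤ G0 := le_sup_right
  refine ⟨{
    U := U.subgroupOf G0
    M := M.subgroupOf G0
    T := (P : Subgroup G).subgroupOf G0
    hUn := inferInstance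
    hMn := (normal_subgroupOf_iff_le_normalizer hMG).2 hMn
    hUM := comap_mono hUM
    hUT := comap_mono hUP
    hTp := P.isPGroup'.comap_subtype
    hgen := by rw [← subgroupOf_sup hMG hPG, subgroupOf_self]
    hab := fun a ha b hb => by
      rw [mem_subgroupOf, ← QuotientGroup.eq_one_iff]
      show θ (G0.subtype ⁅a, b⁆) = 1
      rw [map_commutatorElement, map_commutatorElement]
      exact hEab _ ha _ hb
    hp' := fun a ha k hk => by
      rw [mem_subgroupOf] at hk ⊢
      rw [← QuotientGroup.eq_one_iff] at hk ⊢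
      refine hK1 _ (hEK ha) k ?_
      rw [← QuotientGroup.mk'_apply, ← map_pow]
      exact hk
    hmin := ?_
    hfaith := ?_ }, rfl, rfl⟩
  · intro L hL hUL hLM
    set Lq := (L.map G0.subtype).map θ
    have hLE : Lq ≤ E := by
      rintro _ ⟨_, ⟨x, hx, rfl⟩, rfl⟩
      exact hLM hx
    have hLn : G0 ≤ normalizer ((L.map G0.subtype : Subgroup G) : Set G) := by
      rw [← normal_subgroupOf_iff_le_normalizer (map_subtype_le L)]
      rwa [subgroupOf, comap_map_eq_self_of_injective G0.subtype_injective]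
    have hLT : T ≤ normalizer (Lq : Set (G ⧸ U)) := by
      rintro _ ⟨t, ht, rfl⟩
      exact le_normalizer_map θ ⟨t, hLn (hPG ht), rfl⟩
    by_cases hbot : Lq = ⊥
    · refine Or.inl (le_antisymm (fun x hx => ?_) hUL)
      exact (QuotientGroup.eq_one_iff (N := U) _).1
        (mem_bot.1 (hbot ▸ mem_map_of_mem θ (mem_map_of_mem G0.subtype hx) : θ x ∈ (⊥ : Subgroup (G ⧸ U))))
    · refine Or.inr (le_antisymm hLM fun x hx => ?_)
      have h1 := hEmin (y := Lq) ⟨hLE.trans hEQ, hbot, hLT⟩ hLE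
      obtain ⟨_, ⟨y, hy, rfl⟩, hyx⟩ := h1 (show θ x ∈ E from hx)
      have h2 : (y⁻¹ * x : G0) ∈ U.subgroupOf G0 := (QuotientGroup.eq (s := U)).1 hyx
      simpa using L.mul_mem hy (hUL h2)
  · intro a ha hcomm
    set V := (P : Subgroup G) ⊓ (centralizer (E : Set (G ⧸ U))).comap θ
    have hVmem : ∀ v ∈ V, ∀ m ∈ M, ⁅v, m⁆ ∈ U := fun v hv m hm => by
      rw [← QuotientGroup.eq_one_iff]
      show θ ⁅v, m⁆ = 1
      rw [map_commutatorElement, commutatorElement_eq_one_iff_mul_comm]
      exact (mem_centralizer_iff.1 hv.2 _ hm).symm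
    have haV : (a : G) ∈ V := by
      refine ⟨ha, mem_comap.2 (mem_centralizer_iff.2 fun e he => ?_)⟩
      obtain ⟨m, rfl⟩ := hθ e
      have h1 : θ (G0.subtype ⁅a, (⟨m, hMG he⟩ : G0)⁆) = 1 :=
        (QuotientGroup.eq_one_iff _).2 (hcomm ⟨m, hMG he⟩ he)
      rw [map_commutatorElement, map_commutatorElement, commutatorElement_eq_one_iff_mul_comm] at h1
      exact h1.symm
    by_contra haU
    have hUV : U < V := by
      refine lt_of_le_of_ne (le_inf hUP fun x hx => ?_) fun h => haU (h ▸ haV : (a : G) ∈ U)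
      rw [mem_comap, show θ x = 1 from (QuotientGroup.eq_one_iff x).2 hx]
      exact one_mem _
    refine hMnot (le_trans ?_ (hV V hUV inf_le_left ?_))
    · intro m hm
      rw [mem_normalizer_iff_of_finite]
      intro v hv
      have h1 := hVmem v⁻¹ (V.inv_mem hv) m hm
      have h2 : m * v * m⁻¹ = v * ⁅v⁻¹, m⁆ := by rw [commutatorElement_def]; group
      rw [h2]
      exact V.mul_mem hv (hUV.le h1)
    · intro t ht
      rw [mem_normalizer_iff_of_finite]
      rintro v ⟨hvP, hvC⟩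
      refine ⟨P.mul_mem (P.mul_mem ht hvP) (P.inv_mem ht), mem_comap.2 (mem_centralizer_iff.2 fun e he => ?_)⟩
      have hte : (θ t)⁻¹ * e * θ t ∈ E := by
        have := (mem_normalizer_iff.1 (inv_mem (hET (mem_map_of_mem θ ht))) e).1 he
        simpa using this
      have h3 := mem_centralizer_iff.1 hvC _ hte
      rw [map_mul, map_mul, map_inv]
      calc e * (θ t * θ v * (θ t)⁻¹) = θ t * ((θ t)⁻¹ * e * θ t * θ v) * (θ t)⁻¹ := by group
        _ = θ t * (θ v * ((θ t)⁻¹ * e * θ t)) * (θ t)⁻¹ := by rw [h3]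
        _ = _ := by group
where
  mem_normalizer_iff_of_finite {H : Subgroup G} {g : G} :
      g ∈ normalizer (H : Set G) ↔ ∀ x ∈ H, g * x * g⁻¹ ∈ H :=
    ⟨fun hg x hx => (mem_normalizer_iff.1 hg x).1 hx, fun h => Fusion.mem_normalizer_of_conj_mem h⟩

end Cfsg.Agent.Lib.LocalP2.Axiomatic
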