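import Cfsg.Agent.Lib.Thompson.NPCFunctor
import Cfsg.Agent.Lib.Thompson.PGroup

/-!
The group-theoretic core of an axiomatic normal `p`-complement criterion: a family of abelian
subgroups of a Sylow subgroup with a replacement property, `p` odd.
-/

set_option autoImplicit false

namespace Cfsg.Agent.Lib.LocalP2.Axiomatic

open Subgroup
open scoped commutatorElement

/-- A group `G = MT` with `U ≤ M` normal, `M/U` an abelian `p'`-chief factor on which `T/U` is
faithful. -/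
structure Setup (G : Type*) [Group G] (p : ℕ) where
  U : Subgroup G
  M : Subgroup G
  T : Subgroup G
  hUn : U.Normal
  hMn : M.Normal
  hUM : U ≤ M
  hUT : U ≤ T
  hTp : IsPGroup p T
  hgen : M ⊔ T = ⊤
  hab : ∀ a ∈ M, ∀ b ∈ M, ⁅a, b⁆ ∈ U
  hp' : ∀ a ∈ M, ∀ k : ℕ, a ^ p ^ k ∈ U → a ∈ U
  hmin : ∀ L : Subgroup G, L.Normal → U ≤ L → L ≤ M → L = U ∨ L = M
  hfaith : ∀ a ∈ T, (∀ m ∈ M, ⁅a, m⁆ ∈ U) → a ∈ U

variable {G : Type*} [Group G] [Finite G] {p : ℕ} [hp : Fact p.Prime]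

/-- An element acting quadratically on `V` lies in `U` or `M` acts on `V` trivially modulo `U`. -/
theorem dichotomy (hp2 : p ≠ 2) (D : Setup G p) {V : Subgroup G} (hVn : V.Normal) (hVU : V ≤ D.U)
    {a : G} (ha : a ∈ D.T) (hq : ∀ v ∈ V, Commute a ⁅a, v⁆) :
    a ∈ D.U ∨ centralizer (V : Set G) ⊔ D.T = ⊤ := by
  have := D.hUn
  have := D.hMn
  set L := (centralizer (V : Set G) ⊔ D.U) ⊓ D.M
  have hL : L.Normal := inferInstance
  rcases D.hmin L hL (le_inf le_sup_right D.hUM) inf_le_right with hLU | hLM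
  swap
  · refine Or.inr (top_le_iff.1 (D.hgen ▸ sup_le ?_ le_sup_right))
    calc D.M = L := hLM.symm
      _ ≤ centralizer (V : Set G) ⊔ D.U := inf_le_left
      _ ≤ centralizer (V : Set G) ⊔ D.T := sup_le_sup_left D.hUT _
  refine Or.inl (D.hfaith a ha fun m hm => ?_)
  set d := ⁅a, m⁆ with hd
  have hdM : d ∈ D.M := by
    rw [hd, commutatorElement_def]
    exact D.M.mul_mem (D.hMn.conj_mem m hm a) (D.M.inv_mem hm)
  obtain ⟨i, j, hj, hij⟩ := Nat.exists_eq_pow_mul_and_not_dvd (orderOf_pos d).ne' p hp.out.ne_one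
  have hcopj : j.Coprime p := ((hp.out.coprime_iff_not_dvd).2 hj).symm
  set e := d ^ p ^ i with he
  have hej : e ^ j = 1 := by rw [he, ← pow_mul, ← hij, pow_orderOf_eq_one]
  have heo : (orderOf e).Coprime p := Nat.Coprime.coprime_dvd_left (orderOf_dvd_of_pow_eq_one hej) hcopj
  have key : ∀ (k : ℕ) (V' : Subgroup G), Nat.card V' = k → V'.Normal → V' ≤ V →
      e ∈ centralizer (V' : Set G) := by
    intro k
    induction k using Nat.strong_induction_on with
    | _ k ih => ?_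
    intro V' hk hV'n hV'V
    by_cases hbot : V' = ⊥
    · rw [hbot, mem_centralizer_iff]
      intro x hx
      rw [mem_bot.1 hx, one_mul, mul_one]
    obtain ⟨V'', ⟨hV''n, hlt⟩, hmax⟩ := (Set.toFinite {K : Subgroup G | K.Normal ∧ K < V'}).exists_maximal
      ⟨⊥, inferInstance, bot_lt_iff_ne_bot.2 hbot⟩
    have := hV''n
    have hcard : Nat.card V'' < k := hk ▸ lt_of_le_of_ne (card_le_of_le hlt.le) fun h =>
      hlt.ne (eq_of_le_of_card_ge hlt.le h.ge)
    have hfix := ih _ hcard V'' rfl hV''n (hlt.le.trans hV'V)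
    set θ := QuotientGroup.mk' V''
    set W := V'.map θ with hW
    have hWn : W.Normal := hV'n.map θ (QuotientGroup.mk'_surjective V'')
    have hUp : IsPGroup p D.U := D.hTp.to_le D.hUT
    set Uq := D.U.map θ
    have hUqn : Uq.Normal := D.hUn.map θ (QuotientGroup.mk'_surjective V'')
    have hWUq : W ≤ Uq := map_mono (hV'V.trans hVU)
    have hUqp : IsPGroup p Uq := hUp.map θ
    have hWne : W ≠ ⊥ := fun h => hlt.not_ge (by
      rw [Subgroup.map_eq_bot_iff, QuotientGroup.ker_mk'] at h; exact h)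
    have hminW : ∀ K : Subgroup (G ⧸ V''), K.Normal → K ≤ W → K ≠ ⊥ → K = W := by
      intro K hK hKW hK1
      set K' := K.comap θ
      have hle : V'' ≤ K' := fun x hx => by
        rw [mem_comap, show θ x = 1 from (QuotientGroup.eq_one_iff x).2 hx]
        exact one_mem _
      have hK'V : K' ≤ V' := fun x hx => by
        obtain ⟨y, hy, hyx⟩ := hKW hx
        have h1 : y⁻¹ * x ∈ V'' := QuotientGroup.eq.1 hyx
        simpa using V'.mul_mem hy (hlt.le h1)
      have hKK : K'.map θ = K := map_comap_eq_self_of_surjective (QuotientGroup.mk'_surjective V'') K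
      rcases hK'V.lt_or_eq with h | h
      · exfalso
        have h2 : K' ≤ V'' := hmax (y := K') ⟨hK.comap θ, h⟩ hle
        exact hK1 (le_bot_iff.1 (hKK ▸ (map_eq_bot_iff K').2 (by rwa [QuotientGroup.ker_mk']) |>.le))
      · rw [← hKK, h]
    -- `W` is central in the image of `U`
    have hWc : W ≤ centralizer (Uq : Set (G ⧸ V'')) := by
      have hsn : (W.subgroupOf Uq).Normal := inferInstance
      have hne : W.subgroupOf Uq ≠ ⊥ := fun h => hWne (by
        rw [subgroupOf_eq_bot] at h; exact h.eq_bot_of_le hWUq)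
      obtain ⟨z, hz, hzc, hzo⟩ := Thompson.exists_central_order_p hUqp hne
      have hz' : (z : G ⧸ V'') ∈ W ⊓ centralizer (Uq : Set (G ⧸ V'')) :=
        ⟨hz, mem_centralizer_iff.2 fun u hu => congrArg Subtype.val (mem_center_iff.1 hzc ⟨u, hu⟩)⟩
      have h1 : (W ⊓ centralizer (Uq : Set (G ⧸ V''))) = W := by
        refine hminW _ inferInstance inf_le_left fun h => ?_
        rw [h, mem_bot, OneMemClass.coe_eq_one] at hz'
        rw [hz', orderOf_one] at hzo
        exact hp.out.ne_one hzo.symm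
      exact fun w hw => (h1.symm.le hw).2
    have hWab : ∀ x ∈ W, ∀ y ∈ W, x * y = y * x := fun x hx y hy =>
      (mem_centralizer_iff.1 (hWc hy) x (hWUq hx))
    have hexp : ∀ x ∈ W, x ^ p = 1 := by
      let O : Subgroup (G ⧸ V'') :=
        { carrier := {x | x ∈ W ∧ x ^ p = 1}
          one_mem' := ⟨one_mem _, one_pow _⟩
          mul_mem' := fun {x y} hx hy => ⟨W.mul_mem hx.1 hy.1, by
            rw [Commute.mul_pow (hWab x hx.1 y hy.1), hx.2, hy.2, one_mul]⟩
          inv_mem' := fun {x} hx => ⟨W.inv_mem hx.1, by rw [inv_pow, hx.2, inv_one]⟩ }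
      have hOn : O.Normal := ⟨fun x hx g => ⟨hWn.conj_mem x hx.1 g, by
        rw [conj_pow, hx.2, mul_one, mul_inv_cancel]⟩⟩
      have : Nontrivial W := (nontrivial_iff_ne_bot W).2 hWne
      obtain ⟨c, hc, hcard'⟩ := (hUqp.to_le hWUq).nontrivial_iff_card.1 this
      obtain ⟨z, hz⟩ := exists_prime_orderOf_dvd_card' (G := W) p (hcard' ▸ dvd_pow_self p hc.ne')
      have hzO : (z : G ⧸ V'') ∈ O :=
        ⟨z.2, by rw [← SubgroupClass.coe_pow, ← hz, pow_orderOf_eq_one, OneMemClass.coe_one]⟩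
      have hO := hminW O hOn (fun x hx => hx.1) fun h => by
        rw [h, mem_bot, OneMemClass.coe_eq_one] at hzO
        rw [hzO, orderOf_one] at hz
        exact hp.out.ne_one hz.symm
      intro x hx
      exact (hO.ge hx).2
    have hUc : ∀ u ∈ D.U, θ u ∈ centralizer (W : Set (G ⧸ V'')) := fun u hu =>
      le_centralizer_iff.1 hWc (mem_map_of_mem θ hu)
    obtain ⟨i', j', hj', hij'⟩ := Nat.exists_eq_pow_mul_and_not_dvd (orderOf_pos m).ne' p hp.out.ne_one
    have hkey := Thompson.commutator_mem_centralizer_of_quadratic hp2 W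
      (⟨⟨⟨fun x y => Subtype.ext (hWab x x.2 y y.2)⟩⟩, hexp⟩ : Cfsg.IsElementaryAbelian p W)
      (a := θ a) (n := θ m)
      (by
        rintro _ ⟨x, hx, rfl⟩
        rw [← map_commutatorElement]
        exact (hq x (hV'V hx)).map θ)
      (m := j') (by
        rw [← map_pow]
        refine hUc _ (D.hp' _ (pow_mem hm _) i' ?_)
        rw [← pow_mul, mul_comm, ← hij', pow_orderOf_eq_one]
        exact one_mem _)
      ((hp.out.coprime_iff_not_dvd).2 hj').symm
      (by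
        rw [← map_inv, ← map_mul, ← map_mul, ← map_commutatorElement]
        exact hUc _ (D.hab _ hm _ (D.hMn.conj_mem m hm a)))
      (by
        rw [← map_inv, ← map_mul, ← map_mul, ← map_commutatorElement]
        refine hUc _ (D.hab _ hm _ ?_)
        have := D.hMn.conj_mem m hm a⁻¹
        rwa [inv_inv] at this)
    rw [← map_commutatorElement, ← hd] at hkey
    have hθe : θ e ∈ centralizer (W : Set (G ⧸ V'')) := by
      rw [he, map_pow]; exact pow_mem hkey _
    refine Thompson.mem_centralizer_of_factor (hUp.to_le (hV'V.trans hVU)) hlt.le heo hfix fun x hx => ?_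
    refine (QuotientGroup.eq_one_iff _).1 ?_
    show θ (x⁻¹ * (e * x * e⁻¹)) = 1
    rw [map_mul, map_mul, map_mul, map_inv, map_inv,
      ← mem_centralizer_iff.1 hθe (θ x) (mem_map_of_mem θ hx), mul_inv_cancel_right, inv_mul_cancel]
  have hec := key _ V rfl hVn le_rfl
  have heL : e ∈ L := ⟨mem_sup_left hec, pow_mem hdM _⟩
  rw [hLU] at heL
  exact D.hp' d hdM i heL

/-- A derived subgroup of a normal closure lies in the normal closure of commutators of conjugates. -/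
theorem commutator_normalClosure_le {s : Set G} {N : Subgroup G} [N.Normal]
    (h : ∀ y ∈ s, ∀ g : G, ∀ z ∈ s, ⁅y, g * z * g⁻¹⁆ ∈ N) :
    ⁅normalClosure s, normalClosure s⁆ ≤ N := by
  have hgen : ∀ a ∈ Group.conjugatesOfSet s, ∀ b ∈ Group.conjugatesOfSet s, ⁅a, b⁆ ∈ N := by
    intro a ha b hb
    obtain ⟨y, hy, ha⟩ := Group.mem_conjugatesOfSet_iff.1 ha
    obtain ⟨z, hz, hb⟩ := Group.mem_conjugatesOfSet_iff.1 hb
    obtain ⟨g, rfl⟩ := isConj_iff.1 ha
    obtain ⟨h', rfl⟩ := isConj_iff.1 hb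
    have h1 := Normal.conj_mem (inferInstance : N.Normal) _ (h y hy (g⁻¹ * h') z hz) g
    convert h1 using 1
    simp only [commutatorElement_def]
    group
  set θ := QuotientGroup.mk' N
  rw [← QuotientGroup.ker_mk' N, ← Subgroup.map_eq_bot_iff, map_commutator, commutator_eq_bot_iff_le_centralizer]
  change (closure (Group.conjugatesOfSet s)).map θ ≤ centralizer ((closure (Group.conjugatesOfSet s)).map θ)
  rw [MonoidHom.map_closure, closure_le, centralizer_closure]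
  rintro _ ⟨a, ha, rfl⟩
  rw [SetLike.mem_coe, mem_centralizer_iff]
  rintro _ ⟨b, hb, rfl⟩
  have h1 : θ ⁅b, a⁆ = 1 := (QuotientGroup.eq_one_iff _).2 (hgen b hb a ha)
  rwa [map_commutatorElement, commutatorElement_eq_one_iff_mul_comm] at h1

/-- The contradiction. -/
theorem false_of_setup (hp2 : p ≠ 2) (D : Setup G p) (𝒜 : Set (Subgroup G))
    (h𝒜 : ∀ A ∈ 𝒜, A ≤ D.T ∧ ∀ x ∈ A, ∀ y ∈ A, x * y = y * x) (hne : 𝒜.Nonempty)
    (hCU : centralizer (D.U : Set G) ≤ D.U)
    (hYn : D.T ≤ normalizer ((⨅ A ∈ 𝒜, A : Subgroup G) : Set G))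
    (hNY : normalizer ((⨅ A ∈ 𝒜, A : Subgroup G) : Set G) ≠ ⊤)
    (hI : (∃ A ∈ 𝒜, A ≤ D.U) → ∀ g : G, ∀ x ∈ (⨅ A ∈ {A : Subgroup G | A ∈ 𝒜 ∧ A ≤ D.U}, A),
      g * x * g⁻¹ ∈ (⨅ A ∈ {A : Subgroup G | A ∈ 𝒜 ∧ A ≤ D.U}, A))
    (hrep : ∀ B : Subgroup G, B ≤ D.T → ⁅⁅B, B⁆, B⁆ = ⊥ → (∃ A ∈ 𝒜, ⁅B, B⁆ ≤ A ∧ ¬ B ≤ A) →
      ∃ A ∈ 𝒜, ⁅B, B⁆ ≤ A ∧ ¬ B ≤ A ∧ B ≤ normalizer (A : Set G)) : False := by
  classical
  have := D.hUn
  have := D.hMn
  set Y : Subgroup G := ⨅ A ∈ 𝒜, A with hYdef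
  have hYA : ∀ A ∈ 𝒜, Y ≤ A := fun A hA => iInf₂_le A hA
  obtain ⟨A0, hA0⟩ := hne
  have hYc : ∀ x ∈ Y, ∀ y ∈ Y, x * y = y * x := fun x hx y hy =>
    (h𝒜 A0 hA0).2 x (hYA A0 hA0 hx) y (hYA A0 hA0 hy)
  have hYT : Y ≤ D.T := (hYA A0 hA0).trans (h𝒜 A0 hA0).1
  have hgood : ∀ B : Subgroup G, centralizer (B : Set G) ⊔ D.T = ⊤ → ∀ Z : Subgroup G, Z ≤ B →
      D.T ≤ normalizer (Z : Set G) → Z.Normal := by
    intro B hB Z hZ hT
    rw [← normalizer_eq_top_iff]
    refine top_le_iff.1 (hB ▸ sup_le ?_ hT)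
    intro g hg
    refine mem_normalizer_iff.2 fun z => ⟨fun hz => ?_, fun hz => ?_⟩
    · rw [← mem_centralizer_iff.1 hg z (hZ hz), mul_inv_cancel_right]; exact hz
    · have h1 : g * (g * z * g⁻¹) = g * z * g⁻¹ * g :=
        (mem_centralizer_iff.1 hg _ (hZ hz)).symm
      have h2 : g * z * g⁻¹ = z := by
        have h3 := congrArg (fun w => g⁻¹ * w) h1
        simp only [inv_mul_cancel_left] at h3
        rw [h3]; group
      rwa [h2] at hz
  have hnotY : ¬ ∀ g : G, ∀ y ∈ Y, g * y * g⁻¹ ∈ Y := fun h => hNY (normalizer_eq_top_iff.2 ⟨fun y hy g => h g y hy⟩)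
  -- the family inside `U`
  have hinU : ∀ A ∈ 𝒜, A ≤ D.U → normalClosure (Y : Set G) ≤ A := by
    intro A hA hAU
    set I : Subgroup G := ⨅ A ∈ {A : Subgroup G | A ∈ 𝒜 ∧ A ≤ D.U}, A
    have : I.Normal := ⟨fun x hx g => hI ⟨A, hA, hAU⟩ g x hx⟩
    have hYI : Y ≤ I := le_iInf₂ fun A' hA' => hYA A' hA'.1
    exact (normalClosure_le_normal hYI).trans (iInf₂_le A ⟨hA, hAU⟩)
  have hCUbot : centralizer (D.U : Set G) ⊔ D.T ≠ ⊤ := fun h => by
    have hT : D.T = ⊤ := top_le_iff.1 (h ▸ sup_le (hCU.trans D.hUT) le_rfl)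
    exact hnotY fun g y hy => conj_mem_of_normalizer (hYn (hT ▸ mem_top g)) hy
  -- `Y ≤ U`
  have hYU : Y ≤ D.U := by
    intro y hy
    refine (dichotomy hp2 D D.hUn le_rfl (hYT hy) fun u hu => ?_).resolve_right hCUbot
    refine hYc y hy _ ?_
    rw [commutatorElement_def, show y * u * y⁻¹ * u⁻¹ = y * (u * y⁻¹ * u⁻¹) by group]
    exact Y.mul_mem hy (conj_mem_of_normalizer (hYn (D.hUT hu)) (Y.inv_mem hy))
  set W := normalClosure (Y : Set G) with hWdef
  have hWU : W ≤ D.U := normalClosure_le_normal hYU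
  -- a minimal bad closure
  have hbadW : ¬ centralizer (W : Set G) ⊔ D.T = ⊤ := fun h => by
    have := hgood W h Y subset_normalClosure hYn
    exact hnotY fun g y hy => this.conj_mem y hy g
  let 𝔅 : Set (Subgroup G) :=
    {B | B.Normal ∧ B ≤ W ∧ normalClosure ((B ⊓ Y : Subgroup G) : Set G) = B ∧
      ¬ centralizer (B : Set G) ⊔ D.T = ⊤}
  have hW𝔅 : W ∈ 𝔅 := ⟨normalClosure_normal, le_rfl, by
    rw [inf_eq_right.2 (show Y ≤ W from subset_normalClosure)], hbadW⟩
  obtain ⟨B, ⟨hBn, hBW, hBcl, hBbad⟩, hBmin⟩ := (Set.toFinite 𝔅).exists_minimal ⟨W, hW𝔅⟩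
  have hBU : B ≤ D.U := hBW.trans hWU
  have hBp : IsPGroup p B := D.hTp.to_le (hBU.trans D.hUT)
  have hUY : ∀ u ∈ D.U, ∀ y ∈ Y, u * y * u⁻¹ ∈ Y := fun u hu y hy =>
    conj_mem_of_normalizer (hYn (D.hUT hu)) hy
  set B₁ := ⁅B, B⁆
  have hB₁n : B₁.Normal := Subgroup.commutator_normal B B
  set Z := normalClosure ((B₁ ⊓ Y : Subgroup G) : Set G) with hZdef
  have hB₁B : B₁ ≤ B := commutator_le_left B B
  have hB₁Z : B₁ = Z := by
    refine le_antisymm ?_ (normalClosure_le_normal inf_le_left)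
    show ⁅B, B⁆ ≤ Z
    rw [← hBcl]
    refine commutator_normalClosure_le fun y hy g z hz => subset_normalClosure ⟨?_, ?_⟩
    · exact commutator_mem_commutator hy.1 (hBn.conj_mem z hz.1 g)
    · have h := hUY _ (hBU (hBn.conj_mem z hz.1 g)) y⁻¹ (Y.inv_mem hy.2)
      have h2 := Y.mul_mem hy.2 h
      rw [commutatorElement_def]
      simpa [mul_assoc] using h2
  have hBne : B ≠ ⊥ := fun h => hBbad (by
    rw [h, show centralizer ((⊥ : Subgroup G) : Set G) = ⊤ from top_le_iff.1 fun g _ =>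
      mem_centralizer_iff.2 fun x hx => by rw [mem_bot.1 hx, one_mul, mul_one], top_sup_eq])
  have hlt : B₁ < B := by
    refine lt_of_le_of_ne hB₁B fun h => hBne ?_
    have : Group.IsNilpotent B := hBp.isNilpotent
    have h1 : commutator B = ⊤ := by
      rw [← map_injective (subtype_injective B) |>.eq_iff, map_subtype_commutator]
      rw [← MonoidHom.range_eq_map, range_subtype]
      exact h
    by_contra hne'
    have : Nontrivial B := (nontrivial_iff_ne_bot B).2 hne'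
    exact (Group.IsSolvable.commutator_lt_top_of_nontrivial B).ne h1
  have hB₁good : centralizer (B₁ : Set G) ⊔ D.T = ⊤ := by
    by_contra h
    exact hlt.not_ge (hBmin (y := B₁) ⟨hB₁n, hB₁B.trans hBW, (hB₁Z.trans hZdef).symm, h⟩ hlt.le)
  have hB₁Y : B₁ ≤ Y := by
    have hn : (B₁ ⊓ Y).Normal := hgood B₁ hB₁good _ inf_le_left fun t ht => by
      refine mem_normalizer_iff.2 fun z => ?_
      rw [mem_inf, mem_inf, ← mem_normalizer_iff.1 (hYn ht) z]
      refine and_congr_left' ⟨fun hz => hB₁n.conj_mem z hz t, fun hz => ?_⟩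
      have := hB₁n.conj_mem _ hz t⁻¹
      simpa [mul_assoc] using this
    rw [hB₁Z, hZdef]
    exact (normalClosure_le_normal (N := B₁ ⊓ Y) le_rfl).trans inf_le_right
  have hclass : ⁅B₁, B⁆ = ⊥ := by
    rw [commutator_eq_bot_iff_le_centralizer]
    intro x hx
    rw [mem_centralizer_iff]
    intro b hb
    have hle : B ≤ centralizer ({x} : Set G) := by
      refine hBW.trans ?_
      rw [hWdef, normalClosure, closure_le]
      intro w hw
      obtain ⟨y, hy, hw⟩ := Group.mem_conjugatesOfSet_iff.1 hw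
      obtain ⟨g, rfl⟩ := isConj_iff.1 hw
      rw [SetLike.mem_coe, mem_centralizer_singleton_iff]
      have h1 := hYc _ hy _ (hB₁Y (hB₁n.conj_mem x hx g⁻¹))
      have h2 := congrArg (fun v => g * v * g⁻¹) h1
      simpa [mul_assoc] using h2
    exact mem_centralizer_singleton_iff.1 (hle hb)
  -- a member moving `B`
  obtain ⟨A₁, hA₁, hBA₁⟩ : ∃ A ∈ 𝒜, ¬ B ≤ A := by
    by_contra h
    push Not at h
    obtain ⟨A, hA, hAU⟩ : ∃ A ∈ 𝒜, ¬ A ≤ D.U := by
      by_contra h'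
      push Not at h'
      have hYW : Y = W := le_antisymm subset_normalClosure (le_iInf₂ fun A hA => hinU A hA (h' A hA))
      exact hnotY fun g y hy => by
        rw [hYW] at hy ⊢
        exact normalClosure_normal.conj_mem y hy g
    obtain ⟨a, haA, haU⟩ := SetLike.not_le_iff_exists.1 hAU
    refine hBbad ((dichotomy hp2 D hBn hBU ((h𝒜 A hA).1 haA) fun v hv => ?_).resolve_left haU)
    rw [show ⁅a, v⁆ = 1 from commutatorElement_eq_one_iff_mul_comm.2 ((h𝒜 A hA).2 a haA v (h A hA hv))]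
    exact Commute.one_right _
  obtain ⟨A, hA, -, hBA, hBn'⟩ := hrep B (hBU.trans D.hUT) hclass
    ⟨A₁, hA₁, hB₁Y.trans (hYA A₁ hA₁), hBA₁⟩
  have hAU : ¬ A ≤ D.U := fun h => hBA (hBW.trans (hinU A hA h))
  obtain ⟨a, haA, haU⟩ := SetLike.not_le_iff_exists.1 hAU
  refine hBbad ((dichotomy hp2 D hBn hBU ((h𝒜 A hA).1 haA) fun v hv => ?_).resolve_left haU)
  refine (h𝒜 A hA).2 a haA _ ?_
  rw [commutatorElement_def, show a * v * a⁻¹ * v⁻¹ = a * (v * a⁻¹ * v⁻¹) by group]
  exact A.mul_mem haA (conj_mem_of_normalizer (hBn' hv) (A.inv_mem haA))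
where
  conj_mem_of_normalizer {H : Subgroup G} {g x : G} (hg : g ∈ normalizer (H : Set G)) (hx : x ∈ H) :
      g * x * g⁻¹ ∈ H := (mem_normalizer_iff.1 hg x).1 hx

end Cfsg.Agent.Lib.LocalP2.Axiomatic
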