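import Mathlib

/-! Normalizer of a cyclic Sylow subgroup fixing a nontrivial element (helper19). -/

namespace Cfsg.Agent.Lib.LocalP2

variable {G : Type*} [Group G]

theorem dvd_pow_sub_one_of_dvd {p : ℕ} {k : ℤ} (h : (p : ℤ) ∣ k - 1) (j : ℕ) :
    ((p : ℤ) ^ (j + 1)) ∣ k ^ p ^ j - 1 := by
  simpa using dvd_sub_pow_of_dvd_sub h j

theorem normalizer_le_centralizer_of_fixed [Finite G] {p : ℕ} [Fact p.Prime] (P : Sylow p G)
    (hcyc : IsCyclic (P : Subgroup G)) {x : G} (hx : x ∈ (P : Subgroup G)) (hx1 : x ≠ 1)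
    (hfix : ∀ n ∈ Subgroup.normalizer ((P : Subgroup G) : Set G), n * x * n⁻¹ = x) :
    Subgroup.normalizer ((P : Subgroup G) : Set G) ≤
      Subgroup.centralizer ((P : Subgroup G) : Set G) := by
  set Q : Subgroup G := (P : Subgroup G) with hQ
  set N := Subgroup.normalizer (Q : Set G) with hNdef
  set C := Subgroup.centralizer (Q : Set G) with hCdef
  have : IsMulCommutative Q := ⟨⟨(IsCyclic.commGroup (α := Q)).mul_comm⟩⟩
  have hQC : Q ≤ C := Subgroup.le_centralizer Q
  have hCN : C ≤ N := Subgroup.centralizer_le_normalizer _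
  intro n hn
  obtain ⟨⟨u, hu⟩, hgen⟩ := hcyc.exists_generator
  -- action of `n` on the generator
  obtain ⟨k, hk⟩ := Subgroup.mem_zpowers_iff.1
    (hgen ⟨n * u * n⁻¹, (Subgroup.mem_normalizer_iff.1 hn u).1 hu⟩)
  have hk : u ^ k = n * u * n⁻¹ := by simpa using congrArg Subtype.val hk
  obtain ⟨i, hi⟩ := Subgroup.mem_zpowers_iff.1 (hgen ⟨x, hx⟩)
  have hi : u ^ i = x := by simpa using congrArg Subtype.val hi
  have hxk : x ^ k = x := by
    rw [← hi, ← zpow_mul, mul_comm, zpow_mul, hk, conj_zpow, hi, hfix n hn]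
  have hpx : (p : ℤ) ∣ k - 1 := by
    have h1 : x ^ (k - 1) = 1 := by rw [zpow_sub, hxk, zpow_one, mul_inv_cancel]
    have h2 := orderOf_dvd_iff_zpow_eq_one.2 h1
    have h3 : p ∣ orderOf x := by
      have := P.2.dvd_orderOf (g := (⟨x, hx⟩ : Q)) (by simpa [Subtype.ext_iff] using hx1)
      simpa using this
    exact (Int.natCast_dvd_natCast.2 h3).trans h2
  obtain ⟨e, he⟩ := P.2 ⟨u, hu⟩
  have he : u ^ (p ^ e) = 1 := by simpa using congrArg Subtype.val he
  have hiter : ∀ m : ℕ, n ^ m * u * (n ^ m)⁻¹ = u ^ (k ^ m) := by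
    intro m
    induction m with
    | zero => simp
    | succ m ih =>
      calc n ^ (m + 1) * u * (n ^ (m + 1))⁻¹ = n * (n ^ m * u * (n ^ m)⁻¹) * n⁻¹ := by
            rw [pow_succ']; group
        _ = n * u ^ (k ^ m) * n⁻¹ := by rw [ih]
        _ = u ^ (k ^ (m + 1)) := by rw [← conj_zpow, ← hk, ← zpow_mul, pow_succ']
  have hpow : n ^ p ^ e ∈ C := by
    have h1 : u ^ (k ^ p ^ e) = u := by
      have hd : (orderOf u : ℤ) ∣ k ^ p ^ e - 1 := by
        refine (Int.natCast_dvd_natCast.2 (orderOf_dvd_of_pow_eq_one he)).trans ?_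
        refine dvd_trans ?_ (dvd_pow_sub_one_of_dvd hpx e)
        push_cast
        exact pow_dvd_pow _ (Nat.le_succ e)
      have := orderOf_dvd_iff_zpow_eq_one.1 hd
      rwa [zpow_sub, zpow_one, mul_inv_eq_one] at this
    refine Subgroup.mem_centralizer_iff.2 fun y hy => ?_
    obtain ⟨a, ha⟩ := Subgroup.mem_zpowers_iff.1 (hgen ⟨y, hy⟩)
    have ha : u ^ a = y := by simpa using congrArg Subtype.val ha
    have h2 : Commute (n ^ p ^ e) u := by
      have := hiter (p ^ e); rw [h1] at this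
      exact mul_inv_eq_iff_eq_mul.1 this
    rw [← ha]
    exact (h2.zpow_right a).symm.eq
  -- `n` has order prime to p modulo `C`
  have hidx : (C.relIndex N).Coprime p := by
    refine (Nat.Prime.coprime_iff_not_dvd Fact.out).2 ?_ |>.symm
    intro hd
    exact P.not_dvd_index (hd.trans ((Subgroup.relIndex_dvd_of_le_left N hQC).trans
      (Subgroup.relIndex_dvd_index_of_le Subgroup.le_normalizer)))
  have : (C.subgroupOf N).Normal := Subgroup.normal_subgroupOf_centralizer_normalizer _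
  have hm : n ^ C.relIndex N ∈ C := (C.subgroupOf N).pow_index_mem ⟨n, hn⟩
  have hg := Nat.gcd_eq_gcd_ab (C.relIndex N) (p ^ e)
  rw [Nat.Coprime.pow_right e hidx] at hg
  have : n ^ ((C.relIndex N : ℤ) * Nat.gcdA (C.relIndex N) (p ^ e) +
      ((p ^ e : ℕ) : ℤ) * Nat.gcdB (C.relIndex N) (p ^ e)) ∈ C := by
    rw [zpow_add, zpow_mul, zpow_mul, zpow_natCast, zpow_natCast]
    exact C.mul_mem (C.zpow_mem hm _) (C.zpow_mem hpow _)
  rw [← hg] at this
  simpa using this

end Cfsg.Agent.Lib.LocalP2
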