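import Mathlib
import Cfsg.Agent.Lib.Fusion.Normal
import Cfsg.Agent.Lib.Fusion.Alperin
import Cfsg.Agent.Lib.Fusion.Embedded

/-!
Saturated systems over a `p`-group `S` containing an extraspecial subgroup `Q` of index `p` with
`Z(S) ⊄ Q`: some nontrivial subgroup is normal in the system.
-/

set_option autoImplicit false
set_option linter.style.haveILetI false

namespace Cfsg.Agent.Lib.LocalP2.ExtraIndexP

open Cfsg Cfsg.FusionSystem Cfsg.Agent.Lib.Fusion

/-- Commuting of two automorphisms of an abelian group, each moving elements by elements fixed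
by the other. -/
theorem comm_of_shift {A : Type*} [Group A] (hA : ∀ a b : A, a * b = b * a) {σ τ : MulAut A}
    (hσ : ∀ a, σ (τ a * a⁻¹) = τ a * a⁻¹) (hτ : ∀ a, τ (σ a * a⁻¹) = σ a * a⁻¹) :
    σ * τ = τ * σ := by
  ext a
  simp only [MulAut.mul_apply]
  have h1 : σ (τ a) = τ a * a⁻¹ * σ a := by
    conv_lhs => rw [show τ a = (τ a * a⁻¹) * a by group, map_mul, hσ]
  have h2 : τ (σ a) = σ a * a⁻¹ * τ a := by
    conv_lhs => rw [show σ a = (σ a * a⁻¹) * a by group, map_mul, hτ]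
  rw [h1, h2, mul_assoc, mul_assoc, hA a⁻¹ (σ a), hA a⁻¹ (τ a), ← mul_assoc, ← mul_assoc, hA (τ a)]

/-- A `p`-element normalizing a Sylow `p`-subgroup lies in it. -/
theorem mem_sylow_of_normalizes {G : Type*} [Group G] {p : ℕ} [Fact p.Prime] {T K : Subgroup G}
    [Finite K] (hT : IsSylowIn p T K) {x : G} (hxK : x ∈ K)
    (hxN : x ∈ Subgroup.normalizer (T : Set G)) (hx : IsPGroup p (Subgroup.zpowers x)) : x ∈ T := by
  have h1 := hT.eq_of_le le_sup_right (sup_le (Subgroup.zpowers_le.2 hxK) hT.1)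
    (hx.to_sup_of_normal_right' hT.2.1 (Subgroup.zpowers_le.2 hxN))
  exact h1 ▸ Subgroup.mem_sup_left (Subgroup.mem_zpowers x)

variable {Ω : Type*} [Group Ω]

/-- The configuration: `Z = Z(S)` of order `p²` and `zQ` of order `p` containing `[S,S]`. -/
structure Data (p : ℕ) (S Z zQ : Subgroup Ω) : Prop where
  pgroup : IsPGroup p S
  eqZ : Z = S ⊓ Subgroup.centralizer (S : Set Ω)
  le : zQ ≤ Z
  cardQ : Nat.card zQ = p
  cardZ : Nat.card Z = p ^ 2
  comm : ∀ g ∈ S, ∀ h ∈ S, g * h * g⁻¹ * h⁻¹ ∈ zQ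
  nonab : ∃ g ∈ S, ∃ h ∈ S, g * h ≠ h * g

variable {p : ℕ} [hp : Fact p.Prime] {S Z zQ : Subgroup Ω}

omit hp in
theorem Data.le_S (d : Data p S Z zQ) : Z ≤ S := d.eqZ ▸ inf_le_left

omit hp in
theorem Data.central (d : Data p S Z zQ) {w : Ω} (hw : w ∈ Z) {g : Ω} (hg : g ∈ S) :
    g * w = w * g := by
  rw [d.eqZ] at hw; exact hw.2 g hg

omit hp in
theorem Data.mem_Z (d : Data p S Z zQ) {w : Ω} (hw : w ∈ S) (h : ∀ g ∈ S, g * w = w * g) :
    w ∈ Z := d.eqZ ▸ ⟨hw, h⟩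

theorem Data.zQ_eq_zpowers (d : Data p S Z zQ) {z : Ω} (hz : z ∈ zQ) (hz1 : z ≠ 1) :
    zQ = Subgroup.zpowers z := by
  haveI : Finite zQ := Nat.finite_of_card_ne_zero (by rw [d.cardQ]; exact hp.out.ne_zero)
  refine (Subgroup.eq_of_le_of_card_ge (Subgroup.zpowers_le.2 hz) ?_).symm
  have h2 : Nat.card (Subgroup.zpowers z) ∣ p := d.cardQ ▸ Subgroup.card_dvd_of_le (Subgroup.zpowers_le.2 hz)
  rcases (Nat.dvd_prime hp.out).1 h2 with h | h
  · exact absurd (Subgroup.zpowers_eq_bot.1 (Subgroup.card_eq_one.1 h)) hz1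
  · rw [h, d.cardQ]

theorem Data.exists_z (d : Data p S Z zQ) : ∃ z ∈ zQ, z ≠ 1 := by
  obtain ⟨g, hg, h, hh, hne⟩ := d.nonab
  exact ⟨_, d.comm g hg h hh, fun e => hne (by
    rwa [mul_inv_eq_one, mul_inv_eq_iff_eq_mul] at e)⟩

theorem Data.zQ_prime_order (d : Data p S Z zQ) {z : Ω} (hz : z ∈ zQ) (hz1 : z ≠ 1) :
    orderOf z = p := by
  rw [← Nat.card_zpowers, ← d.zQ_eq_zpowers hz hz1, d.cardQ]

/-- An element of `A` that is not central is moved onto all its translates by `zQ`. -/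
theorem Data.exists_shift (d : Data p S Z zQ) {w : Ω} (hwS : w ∈ S) (hwZ : w ∉ Z) {z : Ω}
    (hz : z ∈ zQ) : ∃ g ∈ S, g * w * g⁻¹ = z * w := by
  obtain ⟨g, hg, hne⟩ : ∃ g ∈ S, g * w ≠ w * g := by
    by_contra h
    simp only [not_exists, not_and, not_not] at h
    exact hwZ (d.mem_Z hwS h)
  set c := g * w * g⁻¹ * w⁻¹ with hc
  have hcQ : c ∈ zQ := d.comm g hg w hwS
  have hc1 : c ≠ 1 := fun e => hne (by rwa [hc, mul_inv_eq_one, mul_inv_eq_iff_eq_mul] at e)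
  rw [d.zQ_eq_zpowers hcQ hc1] at hz
  obtain ⟨i, rfl⟩ := Subgroup.mem_zpowers_iff.1 hz
  refine ⟨g ^ i, S.zpow_mem hg i, ?_⟩
  clear hz
  have hgc : g * c * g⁻¹ = c := by rw [d.central (d.le hcQ) hg, mul_inv_cancel_right]
  have hgw : g * w * g⁻¹ = c * w := by rw [hc, inv_mul_cancel_right]
  induction i using Int.induction_on with
  | zero => simp
  | succ i ih =>
    have h0 := ih
    calc g ^ ((i : ℤ) + 1) * w * (g ^ ((i : ℤ) + 1))⁻¹
        = g * (g ^ (i : ℤ) * w * (g ^ (i : ℤ))⁻¹) * g⁻¹ := by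
          rw [add_comm, zpow_add, zpow_one]; group
      _ = (g * c * g⁻¹) ^ (i : ℤ) * (g * w * g⁻¹) := by rw [h0, conj_zpow]; group
      _ = c ^ ((i : ℤ) + 1) * w := by
        rw [hgc, hgw, zpow_add, zpow_one]; exact (mul_assoc _ _ _).symm
  | pred i ih =>
    have h0 := ih
    have hgc' : g⁻¹ * c * g = c := by
      conv_lhs => rw [← hgc]
      group
    have hgw' : g⁻¹ * w * g = c⁻¹ * w := by
      have : w = c⁻¹ * (g * w * g⁻¹) := by rw [hgw, inv_mul_cancel_left]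
      calc g⁻¹ * w * g = g⁻¹ * (c⁻¹ * (g * w * g⁻¹)) * g := by rw [← this]
        _ = (g⁻¹ * c * g)⁻¹ * w := by group
        _ = c⁻¹ * w := by rw [hgc']
    calc g ^ (-(i : ℤ) - 1) * w * (g ^ (-(i : ℤ) - 1))⁻¹
        = g⁻¹ * (g ^ (-(i : ℤ)) * w * (g ^ (-(i : ℤ)))⁻¹) * g := by
          rw [sub_eq_add_neg, add_comm, zpow_add, zpow_neg_one]; group
      _ = g⁻¹ * (c ^ (-(i : ℤ)) * w) * g := by rw [h0]
      _ = (g⁻¹ * c * g) ^ (-(i : ℤ)) * (g⁻¹ * w * g) := by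
          rw [show g⁻¹ * c * g = g⁻¹ * c * g⁻¹⁻¹ by rw [inv_inv], conj_zpow]; group
      _ = c ^ (-(i : ℤ) - 1) * w := by
          rw [hgc', hgw', sub_eq_add_neg, zpow_add, zpow_neg_one, mul_assoc]

variable {F : FusionSystem S}

/-- Facts on a centric subgroup. -/
theorem Data.Z_le (d : Data p S Z zQ) {A : Subgroup Ω} (hA : F.IsCentric A) : Z ≤ A := fun w hw =>
  hA.2 A (isConj_refl hA.1) ⟨d.le_S hw, fun a ha => d.central hw (hA.1 ha)⟩

theorem Data.normal (d : Data p S Z zQ) {A : Subgroup Ω} [Finite S] (hA : F.IsCentric A) :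
    S ≤ Subgroup.normalizer (A : Set Ω) := fun g hg => by
  haveI := finite_of_le hA.1
  refine mem_normalizer_of_conj_mem fun a ha => ?_
  have h1 : g * a * g⁻¹ * a⁻¹ ∈ A := d.Z_le hA (d.le (d.comm g hg a (hA.1 ha)))
  have := A.mul_mem h1 ha
  rwa [inv_mul_cancel_right] at this

section Abelian

variable [Finite S] {A : Subgroup Ω}

/-- An abelian essential subgroup has index `p`. -/
theorem Data.index_eq (d : Data p S Z zQ) (hF : F.IsSaturated p) (hA : F.IsEssential p A)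
    (hab : ∀ a ∈ A, ∀ b ∈ A, a * b = b * a) : (A.subgroupOf S).index = p := by
  have hAS := hA.1.1
  haveI := finite_mulAut hAS
  by_contra hidx
  have hlt := ne_top_of_essential d.pgroup hF hA
  have hN := inn_subgroupOf_normal A (F.autGroup A)
  obtain ⟨hT, hT1, -⟩ := centric_setup d.pgroup hF hlt hA.2.1 hA.1 hN
  set π := QuotientGroup.mk' ((Inn A).subgroupOf (F.autGroup A)) with hπdef
  set T := ((autInducedBy S A).subgroupOf (F.autGroup A)).map π with hTdef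
  obtain ⟨-, -, _, E, hE⟩ := id hA
  obtain ⟨-, E0, hE0, hctrl⟩ := exists_controls_of_stronglyEmbedded hT hE
  apply hE0
  have hinn : Inn A = ⊥ := by
    rw [eq_bot_iff]
    rintro _ ⟨y, rfl⟩
    rw [Subgroup.mem_bot]
    ext a
    simp only [MulAut.conj_apply, MulAut.one_apply, Subgroup.coe_mul, Subgroup.coe_inv]
    rw [hab _ y.2 _ a.2, mul_inv_cancel_right]
  have hπinj : ∀ x : F.autGroup A, π x = 1 → x = 1 := fun x hx => by
    rw [hπdef, QuotientGroup.mk'_apply, QuotientGroup.eq_one_iff, Subgroup.mem_subgroupOf, hinn,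
      Subgroup.mem_bot] at hx
    exact Subtype.ext hx
  have hNA := d.normal hA.1
  have hfix : ∀ w ∈ A, ∃ g ∈ S, g ∉ A ∧ g * w = w * g := by
    intro w hw
    by_contra hno
    simp only [not_exists, not_and] at hno
    obtain ⟨z, hz, hz1⟩ := d.exists_z
    have hker : ∀ g : ↥S, (g : Ω) * w * (g : Ω)⁻¹ * w⁻¹ ∈ zQ := fun g => d.comm _ g.2 w (hAS hw)
    let χ : ↥S →* zQ := MonoidHom.mk' (fun g => ⟨_, hker g⟩) fun a b => by
      refine Subtype.ext ?_
      simp only [Subgroup.coe_mul]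
      have h1 := d.central (d.le (hker b)) a.2
      have h2 := d.central (d.le (hker b)) (S.mul_mem (S.mul_mem (S.mul_mem a.2 (hAS hw))
        (S.inv_mem a.2)) (S.inv_mem (hAS hw)))
      calc (a : Ω) * b * w * ((a : Ω) * b)⁻¹ * w⁻¹
          = ((a : Ω) * ((b : Ω) * w * (b : Ω)⁻¹ * w⁻¹)) * w * (a : Ω)⁻¹ * w⁻¹ := by group
        _ = ((b : Ω) * w * (b : Ω)⁻¹ * w⁻¹) * ((a : Ω) * w * (a : Ω)⁻¹ * w⁻¹) := by rw [h1]; group
        _ = ((a : Ω) * w * (a : Ω)⁻¹ * w⁻¹) * ((b : Ω) * w * (b : Ω)⁻¹ * w⁻¹) := h2.symm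
    have hk : χ.ker = A.subgroupOf S := by
      ext g
      rw [MonoidHom.mem_ker, Subgroup.mem_subgroupOf, ← Subtype.coe_inj]
      change (g : Ω) * w * (g : Ω)⁻¹ * w⁻¹ = 1 ↔ _
      rw [mul_inv_eq_one, mul_inv_eq_iff_eq_mul]
      exact ⟨fun h => by_contra fun hgA => hno _ g.2 hgA h, fun h => hab _ h _ hw⟩
    apply hidx
    have h1 : (A.subgroupOf S).index ∣ p := by
      rw [← hk, Subgroup.index_ker, ← d.cardQ]
      exact Subgroup.card_subgroup_dvd_card _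
    refine ((Nat.dvd_prime hp.out).1 h1).resolve_left fun e => hlt.ne (le_antisymm hAS ?_)
    exact Subgroup.subgroupOf_eq_top.1 (Subgroup.index_eq_one.1 e)
  have hcg : ∀ g (hg : g ∈ S), conjAut A (hNA hg) ∈ F.autGroup A := fun g hg =>
    autInducedBy_le_autGroup hAS (conjAut_mem_autInducedBy hg (hNA hg))
  have hTmem : ∀ g (hg : g ∈ S), π ⟨_, hcg g hg⟩ ∈ T := fun g hg =>
    Subgroup.mem_map_of_mem _ (Subgroup.mem_subgroupOf.2 (conjAut_mem_autInducedBy hg (hNA hg)))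
  have hne1 : ∀ g (hg : g ∈ S), g ∉ A → π ⟨_, hcg g hg⟩ ≠ 1 := by
    intro g hg hgA e
    have e1 := congrArg Subtype.val (hπinj _ e)
    refine hgA (hA.1.2 A (isConj_refl hAS) ⟨hg, fun a ha => ?_⟩)
    have := congrArg Subtype.val (DFunLike.congr_fun e1 ⟨a, ha⟩)
    rw [conjAut_apply] at this
    simp only [OneMemClass.coe_one, MulAut.one_apply] at this
    exact (mul_inv_eq_iff_eq_mul.1 this).symm
  have hNT : Subgroup.normalizer (T : Set _) ≤ E0 := hctrl T le_rfl hT1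
  have hTE : T ≤ E0 := Subgroup.le_normalizer.trans hNT
  have hTs : IsSylowIn p T E0 := hT.mono_right hTE le_top
  rw [eq_top_iff]
  intro y _
  obtain ⟨β, rfl⟩ := QuotientGroup.mk'_surjective _ y
  obtain ⟨z, hz, hz1⟩ := d.exists_z
  have hzA : z ∈ A := d.Z_le hA.1 (d.le hz)
  obtain ⟨g, hg, hgA, hgw⟩ := hfix (((β : MulAut A) ⟨z, hzA⟩ : A) : Ω) (SetLike.coe_mem _)
  obtain ⟨g', hg', hg'A, hg'w⟩ := hfix ((((β⁻¹ : F.autGroup A) : MulAut A) ⟨z, hzA⟩ : A) : Ω)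
    (SetLike.coe_mem _)
  set t : F.autGroup A := ⟨_, hcg g hg⟩ with ht
  set u : F.autGroup A := ⟨_, hcg g' hg'⟩ with hu
  have hzz : ∀ w ∈ zQ, ∃ i : ℤ, w = z ^ i := fun w hw => by
    rw [d.zQ_eq_zpowers hz hz1] at hw
    obtain ⟨i, hi⟩ := Subgroup.mem_zpowers_iff.1 hw
    exact ⟨i, hi.symm⟩
  have hshift : ∀ (k : Ω) (hk : k ∈ S) (a : A), ∃ i : ℤ,
      conjAut A (hNA hk) a * a⁻¹ = (⟨z, hzA⟩ : A) ^ i := fun k hk a => by
    obtain ⟨i, hi⟩ := hzz _ (d.comm k hk a (hAS a.2))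
    exact ⟨i, Subtype.ext (by simpa using hi)⟩
  have hcomm : t * (β * u * β⁻¹) = β * u * β⁻¹ * t := by
    refine Subtype.ext (comm_of_shift (fun a b => Subtype.ext (hab _ a.2 _ b.2)) ?_ ?_)
    · intro a
      obtain ⟨i, hi⟩ := hshift g' hg' ((β⁻¹ : F.autGroup A).1 a)
      have e : ((β * u * β⁻¹ : F.autGroup A) : MulAut A) a * a⁻¹ =
          ((β : MulAut A) ⟨z, hzA⟩) ^ i := by
        rw [← map_zpow, ← hi]
        simp [u]
      rw [e, map_zpow]
      congr 1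
      refine Subtype.ext ?_
      simp only [ht, conjAut_apply]
      rw [hgw, mul_inv_cancel_right]
    · intro a
      obtain ⟨i, hi⟩ := hshift g hg a
      change ((β * u * β⁻¹ : F.autGroup A) : MulAut A) (conjAut A (hNA hg) a * a⁻¹) =
        conjAut A (hNA hg) a * a⁻¹
      rw [hi, map_zpow]
      congr 1
      have e : (u : MulAut A) (((β⁻¹ : F.autGroup A) : MulAut A) ⟨z, hzA⟩) =
          ((β⁻¹ : F.autGroup A) : MulAut A) ⟨z, hzA⟩ := by
        refine Subtype.ext ?_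
        simp only [hu, conjAut_apply]
        rw [hg'w, mul_inv_cancel_right]
      simp only [Subgroup.coe_mul, MulAut.mul_apply]
      rw [e]
      simp
  have hs1 : π (β * u * β⁻¹) ∈ E0 := by
    have hQ : Subgroup.zpowers (π t) ≤ T := Subgroup.zpowers_le.2 (hTmem g hg)
    refine hctrl _ hQ (fun e => hne1 g hg hgA (Subgroup.zpowers_eq_bot.1 e)) ?_
    rw [Subgroup.mem_normalizer_iff]
    have hc : Commute (π (β * u * β⁻¹)) (π t) := by
      rw [Commute, SemiconjBy, ← map_mul, ← map_mul, hcomm]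
    intro x
    constructor
    · intro hx
      obtain ⟨i, rfl⟩ := Subgroup.mem_zpowers_iff.1 hx
      rw [(hc.zpow_right i).eq, mul_inv_cancel_right]
      exact hx
    · intro hx
      obtain ⟨i, hi⟩ := Subgroup.mem_zpowers_iff.1 hx
      refine Subgroup.mem_zpowers_iff.2 ⟨i, ?_⟩
      calc π t ^ i = (π (β * u * β⁻¹))⁻¹ * (π (β * u * β⁻¹) * π t ^ i) := by group
        _ = (π (β * u * β⁻¹))⁻¹ * (π t ^ i * π (β * u * β⁻¹)) := by rw [(hc.zpow_right i).eq]
        _ = x := by rw [hi]; group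
  have hTp : IsPGroup p T := hT.2.1
  have hpg : IsPGroup p (Subgroup.zpowers (π (β * u * β⁻¹))) := by
    refine (hTp.map (MulAut.conj (π β)).toMonoidHom).to_le (Subgroup.zpowers_le.2 ⟨π u, hTmem g' hg', ?_⟩)
    simp [map_mul]
  obtain ⟨e, he, heT⟩ := hTs.exists_conj_le (Subgroup.zpowers_le.2 hs1) hpg
  have h1 := heT _ (Subgroup.mem_zpowers _)
  have hmem := mem_of_moves hT hT1 hctrl (e * π β) fun hbot => hne1 g' hg' hg'A (by
    have h2 : e * π (β * u * β⁻¹) * e⁻¹ ∈ T ⊓ cj (e * π β) T := ⟨h1, by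
      show _ ∈ cj _ T
      rw [mem_cj]
      have h3 : (e * π β)⁻¹ * (e * π (β * u * β⁻¹) * e⁻¹) * (e * π β) = π u := by
        rw [map_mul, map_mul, map_inv]; group
      rw [h3]
      exact hTmem g' hg'⟩
    rw [hbot, Subgroup.mem_bot, conj_eq_one_iff, map_mul, map_mul, map_inv, conj_eq_one_iff] at h2
    exact h2)
  have h4 := E0.mul_mem (E0.inv_mem he) hmem
  rwa [inv_mul_cancel_left] at h4

end Abelian

end Cfsg.Agent.Lib.LocalP2.ExtraIndexP
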