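import Cfsg.Agent.Lib.LocalP2.ExtraIndexP

/-!
The abelian index `p` case and the normal subgroup.
-/

set_option autoImplicit false
set_option linter.style.haveILetI false

namespace Cfsg.Agent.Lib.LocalP2.ExtraIndexP

open Cfsg Cfsg.FusionSystem Cfsg.Agent.Lib.Fusion
open scoped Pointwise

variable {Ω : Type*} [Group Ω] {p : ℕ} [hp : Fact p.Prime] {S Z zQ : Subgroup Ω}
  {F : FusionSystem S} [Finite S] {A : Subgroup Ω}

/-- Automorphisms of a nonabelian subgroup preserve `zQ`. -/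
theorem Data.map_zQ (d : Data p S Z zQ) {P : Subgroup Ω} (hPS : P ≤ S) (hzP : zQ ≤ P)
    (hna : ∃ a ∈ P, ∃ b ∈ P, a * b ≠ b * a) (α : MulAut P) {x : P} (hx : (x : Ω) ∈ zQ) :
    ((α x : P) : Ω) ∈ zQ := by
  obtain ⟨a, ha, b, hb, hne⟩ := hna
  set c := a * b * a⁻¹ * b⁻¹ with hc
  have hcQ : c ∈ zQ := d.comm a (hPS ha) b (hPS hb)
  have hc1 : c ≠ 1 := fun e => hne (by rwa [hc, mul_inv_eq_one, mul_inv_eq_iff_eq_mul] at e)
  rw [d.zQ_eq_zpowers hcQ hc1] at hx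
  obtain ⟨i, hi⟩ := Subgroup.mem_zpowers_iff.1 hx
  have hx' : x = (⟨a, ha⟩ * ⟨b, hb⟩ * (⟨a, ha⟩ : P)⁻¹ * (⟨b, hb⟩ : P)⁻¹) ^ i :=
    Subtype.ext (by simp only [Subgroup.coe_zpow, Subgroup.coe_mul, Subgroup.coe_inv]; exact hi.symm)
  rw [hx', map_zpow, map_mul, map_mul, map_mul, map_inv, map_inv, Subgroup.coe_zpow]
  exact zQ.zpow_mem (d.comm _ (hPS (α _).2) _ (hPS (α _).2)) _

/-- `Z` has index `p` in an abelian centric subgroup of index `p`. -/
theorem Data.index_Z (d : Data p S Z zQ) (hA : F.IsCentric A) (hab : ∀ a ∈ A, ∀ b ∈ A, a * b = b * a)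
    (hidx : (A.subgroupOf S).index = p) :
    (Z.subgroupOf A).index = p ∧ Nat.card A = p ^ 3 ∧ Nat.card S = p ^ 4 := by
  have hAS := hA.1
  haveI := finite_of_le hAS
  obtain ⟨g0, hg0, hg0A⟩ : ∃ g ∈ S, g ∉ A := by
    by_contra h
    simp only [not_exists, not_and, not_not] at h
    refine hp.out.ne_one (hidx.symm.trans (Subgroup.index_eq_one.2 ?_))
    exact Subgroup.subgroupOf_eq_top.2 h
  have hker : ∀ a : A, g0 * (a : Ω) * g0⁻¹ * (a : Ω)⁻¹ ∈ zQ := fun a => d.comm _ hg0 _ (hAS a.2)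
  let χ : A →* zQ := MonoidHom.mk' (fun a => ⟨_, hker a⟩) fun a b => by
    refine Subtype.ext ?_
    simp only [Subgroup.coe_mul]
    have h1 := d.central (d.le (hker b)) (hAS a.2)
    calc g0 * ((a : Ω) * b) * g0⁻¹ * ((a : Ω) * b)⁻¹
        = g0 * a * g0⁻¹ * ((g0 * b * g0⁻¹ * (b : Ω)⁻¹)) * (a : Ω)⁻¹ := by group
      _ = g0 * a * g0⁻¹ * ((a : Ω)⁻¹ * (g0 * b * g0⁻¹ * (b : Ω)⁻¹)) := by
          rw [mul_assoc, show (g0 * b * g0⁻¹ * (b : Ω)⁻¹) * (a : Ω)⁻¹ =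
            (a : Ω)⁻¹ * (g0 * b * g0⁻¹ * (b : Ω)⁻¹) by
              rw [eq_inv_mul_iff_mul_eq, ← mul_assoc, h1, mul_inv_cancel_right]]
      _ = (g0 * a * g0⁻¹ * (a : Ω)⁻¹) * (g0 * b * g0⁻¹ * (b : Ω)⁻¹) := by group
  have hk : χ.ker = Z.subgroupOf A := by
    ext a
    rw [MonoidHom.mem_ker, Subgroup.mem_subgroupOf, ← Subtype.coe_inj]
    change g0 * (a : Ω) * g0⁻¹ * (a : Ω)⁻¹ = 1 ↔ _
    rw [mul_inv_eq_one, mul_inv_eq_iff_eq_mul]
    refine ⟨fun h => d.mem_Z (hAS a.2) fun g hg => ?_, fun h => d.central h hg0⟩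
    have hle : A.subgroupOf S < (Subgroup.centralizer ({(a : Ω)} : Set Ω)).subgroupOf S := by
      refine lt_of_le_of_ne (fun x hx => ?_) fun e => hg0A ?_
      · exact Subgroup.mem_centralizer_singleton_iff.2 (hab _ hx _ a.2)
      · have : (⟨g0, hg0⟩ : S) ∈ A.subgroupOf S :=
          e.symm ▸ Subgroup.mem_centralizer_singleton_iff.2 h
        exact this
    have htop : (Subgroup.centralizer ({(a : Ω)} : Set Ω)).subgroupOf S = ⊤ := by
      rw [← Subgroup.index_eq_one]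
      refine ((Nat.dvd_prime hp.out).1 (hidx ▸ Subgroup.index_dvd_of_le hle.le)).resolve_right ?_
      intro e
      refine hle.ne (Subgroup.eq_of_le_of_card_ge hle.le (le_of_eq ?_))
      have h1 := (A.subgroupOf S).card_mul_index
      have h2 := ((Subgroup.centralizer ({(a : Ω)} : Set Ω)).subgroupOf S).card_mul_index
      rw [e, ← h1, hidx] at h2
      exact Nat.eq_of_mul_eq_mul_right hp.out.pos h2
    exact Subgroup.mem_centralizer_singleton_iff.1
      ((Subgroup.subgroupOf_eq_top.1 htop) hg : g ∈ Subgroup.centralizer ({(a : Ω)} : Set Ω))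
  have hdvd : (Z.subgroupOf A).index ∣ p := by
    rw [← hk, Subgroup.index_ker, ← d.cardQ]
    exact Subgroup.card_subgroup_dvd_card _
  have hne : (Z.subgroupOf A).index ≠ 1 := fun e => by
    rw [Subgroup.index_eq_one, Subgroup.subgroupOf_eq_top] at e
    exact hg0A (hA.2 A (isConj_refl hAS) ⟨hg0, fun a ha => (d.central (e ha) hg0).symm⟩)
  have hi := ((Nat.dvd_prime hp.out).1 hdvd).resolve_left hne
  have hcA : Nat.card A = p ^ 3 := by
    rw [← (Z.subgroupOf A).card_mul_index, hi,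
      Nat.card_congr (Subgroup.subgroupOfEquivOfLe (d.Z_le hA)).toEquiv, d.cardZ]
    ring
  refine ⟨hi, hcA, ?_⟩
  rw [← (A.subgroupOf S).card_mul_index, hidx,
    Nat.card_congr (Subgroup.subgroupOfEquivOfLe hAS).toEquiv, hcA]
  ring

/-- Every essential subgroup is abelian once an abelian one has index `p`. -/
theorem Data.abelian_of_card (d : Data p S Z zQ) (hF : F.IsSaturated p) {E : Subgroup Ω}
    (hE : F.IsEssential p E) (h4 : Nat.card S = p ^ 4) : ∀ a ∈ E, ∀ b ∈ E, a * b = b * a := by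
  have hlt := ne_top_of_essential d.pgroup hF hE
  haveI := finite_of_le hE.1.1
  have hZE := d.Z_le hE.1
  obtain ⟨k, hk, hkc⟩ := (Nat.dvd_prime_pow hp.out).1 (h4 ▸ Subgroup.card_dvd_of_le hlt.le)
  have hk3 : k ≤ 3 := by
    by_contra hk'
    obtain rfl : k = 4 := by omega
    exact hlt.ne (Subgroup.eq_of_le_of_card_ge hlt.le (by rw [h4, hkc]))
  intro a ha b hb
  by_cases haZ : a ∈ Z
  · exact (d.central haZ (hE.1.1 hb)).symm
  have hEeq : Z ⊔ Subgroup.zpowers a = E := by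
    refine Subgroup.eq_of_le_of_card_ge (sup_le hZE (Subgroup.zpowers_le.2 ha)) ?_
    haveI : Finite (Z ⊔ Subgroup.zpowers a : Subgroup Ω) :=
      finite_of_le (sup_le d.le_S (Subgroup.zpowers_le.2 (hE.1.1 ha)))
    obtain ⟨j, hj⟩ := IsPGroup.iff_card.1 (d.pgroup.to_le
      (sup_le d.le_S (Subgroup.zpowers_le.2 (hE.1.1 ha))))
    have hlt' : Nat.card Z < Nat.card (Z ⊔ Subgroup.zpowers a : Subgroup Ω) := by
      refine lt_of_le_of_ne (Subgroup.card_le_of_le le_sup_left) fun e => haZ ?_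
      rw [Subgroup.eq_of_le_of_card_ge le_sup_left e.ge]
      exact Subgroup.mem_sup_right (Subgroup.mem_zpowers a)
    rw [hj, d.cardZ] at hlt'
    rw [hkc, hj]
    exact Nat.pow_le_pow_right hp.out.pos
      (hk3.trans ((Nat.pow_lt_pow_iff_right hp.out.one_lt).1 hlt'))
  have hcen : Z ⊔ Subgroup.zpowers a ≤ Subgroup.centralizer ({a} : Set Ω) :=
    sup_le (fun w hw => Subgroup.mem_centralizer_singleton_iff.2 (d.central hw (hE.1.1 ha)).symm)
      (Subgroup.zpowers_le.2 (Subgroup.mem_centralizer_singleton_iff.2 rfl))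
  exact (Subgroup.mem_centralizer_singleton_iff.1 (hcen (hEeq.symm ▸ hb))).symm

/-- An automorphism carrying `zQ` to itself normalizes the automizer in `S`. -/
theorem Data.normalizes (d : Data p S Z zQ) (hF : F.IsSaturated p) (hA : F.IsEssential p A)
    (hab : ∀ a ∈ A, ∀ b ∈ A, a * b = b * a) {x : MulAut A} (hx : x ∈ F.autGroup A)
    (hxQ : ∀ a : A, (a : Ω) ∈ zQ → ((x a : A) : Ω) ∈ zQ) :
    x ∈ Subgroup.normalizer (autInducedBy S A : Set (MulAut A)) := by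
  have hAS := hA.1.1
  haveI := finite_mulAut hAS
  haveI := finite_of_le hAS
  obtain ⟨-, hsyl⟩ := isFullyAutomized_iff.1 (fullyNormalized_props d.pgroup hF hA.2.1).1
  have hshift : ∀ τ ∈ autInducedBy S A, ∀ a : A, ((τ a * a⁻¹ : A) : Ω) ∈ zQ := by
    intro τ hτ a
    obtain ⟨g, hg, hgτ⟩ := mem_autInducedBy.1 hτ
    rw [Subgroup.coe_mul, hgτ, Subgroup.coe_inv]
    exact d.comm g hg a (hAS a.2)
  have hfix : ∀ τ ∈ autInducedBy S A, ∀ a : A, (a : Ω) ∈ Z → τ a = a := by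
    intro τ hτ a ha
    obtain ⟨g, hg, hgτ⟩ := mem_autInducedBy.1 hτ
    exact Subtype.ext (by rw [hgτ, d.central ha hg, mul_inv_cancel_right])
  have hxinv : ∀ a : A, (a : Ω) ∈ zQ → ((x⁻¹ a : A) : Ω) ∈ zQ := by
    intro a ha
    have hinj : Function.Injective (fun w : zQ.subgroupOf A =>
        (⟨x w, hxQ w w.2⟩ : zQ.subgroupOf A)) := fun u v huv =>
      Subtype.ext (x.injective (congrArg Subtype.val huv))
    obtain ⟨w, hw⟩ := Finite.surjective_of_injective hinj ⟨a, ha⟩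
    have : x w = a := congrArg Subtype.val hw
    rw [← this, MulAut.inv_apply_self]
    exact w.2
  have key : ∀ τ ∈ autInducedBy S A, x * τ * x⁻¹ ∈ autInducedBy S A := by
    intro τ hτ
    have hm : x * τ * x⁻¹ ∈ F.autGroup A := mul_mem (mul_mem hx (hsyl.1 hτ)) (inv_mem hx)
    have hs : ∀ a : A, (((x * τ * x⁻¹) a * a⁻¹ : A) : Ω) ∈ zQ := fun a => by
      have : (x * τ * x⁻¹) a * a⁻¹ = x (τ (x⁻¹ a) * (x⁻¹ a)⁻¹) := by simp
      rw [this]
      exact hxQ _ (hshift τ hτ _)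
    have hcomm : ∀ υ ∈ autInducedBy S A, (x * τ * x⁻¹) * υ = υ * (x * τ * x⁻¹) := fun υ hυ => by
      refine comm_of_shift (fun a b => Subtype.ext (hab _ a.2 _ b.2)) (fun a => ?_) fun a =>
        hfix υ hυ _ (d.le (hs a))
      simp only [MulAut.mul_apply]
      rw [hfix τ hτ _ (d.le (hxinv _ (hshift υ hυ a))), MulAut.apply_inv_self]
    refine mem_sylow_of_normalizes hsyl hm ?_ ?_
    · refine mem_normalizer_of_conj_mem fun υ hυ => ?_
      rw [hcomm υ hυ, mul_inv_cancel_right]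
      exact hυ
    · exact ((hsyl.2.1.map (MulAut.conj x).toMonoidHom).to_le
        (Subgroup.zpowers_le.2 ⟨τ, hτ, rfl⟩))
  exact mem_normalizer_of_conj_mem key

/-- An automorphism not normalizing the automizer moves `zQ` out of `Z`, in both directions. -/
theorem Data.normalizes_of_inv (d : Data p S Z zQ) (hF : F.IsSaturated p) (hA : F.IsEssential p A)
    (hab : ∀ a ∈ A, ∀ b ∈ A, a * b = b * a) {β : MulAut A} (hβ : β ∈ F.autGroup A)
    {z : A} (hz : (z : Ω) ∈ zQ) (hz1 : z ≠ 1) (hβz : ((β⁻¹ z : A) : Ω) ∈ Z) :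
    β ∈ Subgroup.normalizer (autInducedBy S A : Set (MulAut A)) := by
  have hAS := hA.1.1
  haveI := finite_mulAut hAS
  obtain ⟨-, hsyl⟩ := isFullyAutomized_iff.1 (fullyNormalized_props d.pgroup hF hA.2.1).1
  refine mem_normalizer_of_conj_mem fun τ hτ => ?_
  have hm : β * τ * β⁻¹ ∈ F.autGroup A := mul_mem (mul_mem hβ (hsyl.1 hτ)) (inv_mem hβ)
  refine mem_sylow_of_normalizes hsyl hm (d.normalizes hF hA hab hm fun a ha => ?_)
    ((hsyl.2.1.map (MulAut.conj β).toMonoidHom).to_le (Subgroup.zpowers_le.2 ⟨τ, hτ, rfl⟩))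
  rw [d.zQ_eq_zpowers hz (fun e => hz1 (Subtype.ext e))] at ha
  obtain ⟨i, hi⟩ := Subgroup.mem_zpowers_iff.1 ha
  obtain rfl : a = z ^ i := Subtype.ext (by rw [Subgroup.coe_zpow]; exact hi.symm)
  obtain ⟨g, hg, hgτ⟩ := mem_autInducedBy.1 hτ
  have hfix : τ (β⁻¹ z) = β⁻¹ z :=
    Subtype.ext (by rw [hgτ, d.central hβz hg, mul_inv_cancel_right])
  rw [map_zpow, Subgroup.coe_zpow]
  refine zQ.zpow_mem ?_ i
  rw [MulAut.mul_apply, MulAut.mul_apply, hfix, MulAut.apply_inv_self]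
  exact hz

/-- Automorphisms normalizing the automizer extend to `S`. -/
theorem Data.exists_extension (d : Data p S Z zQ) (hF : F.IsSaturated p) (hA : F.IsEssential p A)
    {h : MulAut A} (hh : h ∈ F.autGroup A)
    (hN : h ∈ Subgroup.normalizer (autInducedBy S A : Set (MulAut A))) :
    ∃ γ ∈ F.autGroup S, ∀ a : A, ((γ ⟨a, hA.1.1 a.2⟩ : S) : Ω) = (h a : A) := by
  have hAS := hA.1.1
  obtain ⟨ψ, hψ, -, hψe⟩ := exists_extend_of_congr_le
    (fullyNormalized_props d.pgroup hF hA.2.1).2 ((mem_autGroup hAS).1 hh) (by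
      rintro _ ⟨τ, hτ, rfl⟩
      change MulAut.congr h τ ∈ _
      rw [congr_eq_conj]
      exact (Subgroup.mem_normalizer_iff.1 hN τ).1 hτ)
  have hSN : S ≤ normalizerIn S A := le_inf le_rfl (d.normal hA.1)
  set η : ↥S →* Ω := ψ.comp (Subgroup.inclusion hSN) with hη
  have hηS : ∀ x : S, η x ∈ S := fun x => val_mem hψ _
  have hinj : Function.Injective (η.codRestrict S hηS) := fun a b hab =>
    Subgroup.inclusion_injective hSN (F.injective_of_mem hψ (congrArg Subtype.val hab))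
  let γ : MulAut S := MulEquiv.ofBijective (η.codRestrict S hηS)
    (Finite.injective_iff_bijective.1 hinj)
  refine ⟨γ, (mem_autGroup le_rfl).2 (mem_of_agree hSN hψ fun x => rfl), fun a => ?_⟩
  exact hψe a (hSN (hAS a.2))

/-- The involutory torus element. -/
theorem Data.exists_gamma (d : Data p S Z zQ) (hF : F.IsSaturated p) (hA : F.IsEssential p A)
    (hab : ∀ a ∈ A, ∀ b ∈ A, a * b = b * a) {β : MulAut A} (hβ : β ∈ F.autGroup A)
    (hβN : β ∉ Subgroup.normalizer (autInducedBy S A : Set (MulAut A))) {z : Ω} (hz : z ∈ zQ)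
    (hz1 : z ≠ 1) :
    ∃ γ ∈ F.autGroup S, ((γ ⟨z, d.le_S (d.le hz)⟩ : S) : Ω) = z⁻¹ ∧
      ∀ (c : A) (hc : (c : Ω) ∈ Z), ((β⁻¹ c : A) : Ω) ∈ Z →
        ((γ ⟨c, d.le_S hc⟩ : S) : Ω) = c := by
  have hAS := hA.1.1
  have hNA := d.normal hA.1
  set zA : A := ⟨z, d.Z_le hA.1 (d.le hz)⟩ with hzA
  have hzA1 : zA ≠ 1 := fun e => hz1 (congrArg Subtype.val e)
  have hz0 : ((β⁻¹ zA : A) : Ω) ∉ Z := fun hmem =>
    hβN (d.normalizes_of_inv hF hA hab hβ (z := zA) hz hzA1 hmem)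
  have hz1' : ((β zA : A) : Ω) ∉ Z := fun hmem => hβN (by
    have := d.normalizes_of_inv hF hA hab (inv_mem hβ) (z := zA) hz hzA1 (by rwa [inv_inv])
    simpa using inv_mem this)
  obtain ⟨g1, hg1, hg1e⟩ := d.exists_shift (hAS (β zA).2) hz1' hz
  obtain ⟨g2, hg2, hg2e⟩ := d.exists_shift (hAS (β⁻¹ zA).2) hz0 (zQ.inv_mem hz)
  set u : MulAut A := conjAut A (hNA hg1) with hu
  set t : MulAut A := conjAut A (hNA hg2) with ht
  set v : MulAut A := β * t * β⁻¹ with hv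
  have hum : u ∈ F.autGroup A := autInducedBy_le_autGroup hAS (conjAut_mem_autInducedBy hg1 _)
  have hvm : v ∈ F.autGroup A := mul_mem (mul_mem hβ
    (autInducedBy_le_autGroup hAS (conjAut_mem_autInducedBy hg2 _))) (inv_mem hβ)
  have hconjZ : ∀ (g : Ω) (hg : g ∈ S) (a : A), (a : Ω) ∈ Z → conjAut A (hNA hg) a = a :=
    fun g hg a ha => Subtype.ext (by rw [conjAut_apply, d.central ha hg, mul_inv_cancel_right])
  have e1 : u zA = zA := hconjZ g1 hg1 zA (d.le hz)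
  have e2 : u (β zA) = zA * β zA := Subtype.ext (by rw [hu, conjAut_apply, hg1e]; rfl)
  have e3 : v (β zA) = β zA := by
    rw [hv, MulAut.mul_apply, MulAut.mul_apply, MulAut.inv_apply_self,
      show t zA = zA from hconjZ g2 hg2 zA (d.le hz)]
  have e4 : v zA = (β zA)⁻¹ * zA := by
    have : t (β⁻¹ zA) = zA⁻¹ * β⁻¹ zA := Subtype.ext (by rw [ht, conjAut_apply, hg2e]; rfl)
    rw [hv, MulAut.mul_apply, MulAut.mul_apply, this, map_mul, map_inv, MulAut.apply_inv_self]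
  set w : MulAut A := u * v * u with hw
  have f1 : w zA = (β zA)⁻¹ := by
    rw [hw, MulAut.mul_apply, MulAut.mul_apply, e1, e4, map_mul, map_inv, e2, e1]
    exact Subtype.ext (by
      simp only [Subgroup.coe_mul, Subgroup.coe_inv]
      rw [mul_inv_rev, inv_mul_cancel_right])
  have f2 : w (β zA) = zA := by
    rw [hw, MulAut.mul_apply, MulAut.mul_apply, e2, map_mul, e3, e4,
      show (β zA)⁻¹ * zA * β zA = zA from Subtype.ext (by
        simp only [Subgroup.coe_mul, Subgroup.coe_inv]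
        rw [mul_assoc, hab _ zA.2 _ (β zA).2, inv_mul_cancel_left])]
    exact e1
  have hfixc : ∀ (c : A), (c : Ω) ∈ Z → ((β⁻¹ c : A) : Ω) ∈ Z → (w * w) c = c := by
    intro c hc hc'
    have h1 : u c = c := hconjZ g1 hg1 c hc
    have h2 : v c = c := by
      rw [hv, MulAut.mul_apply, MulAut.mul_apply,
        show t (β⁻¹ c) = β⁻¹ c from hconjZ g2 hg2 _ hc', MulAut.apply_inv_self]
    have h3 : w c = c := by rw [hw, MulAut.mul_apply, MulAut.mul_apply, h1, h2, h1]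
    rw [MulAut.mul_apply, h3, h3]
  have hz2 : (w * w) zA = zA⁻¹ := by rw [MulAut.mul_apply, f1, map_inv, f2]
  have hwm : w * w ∈ F.autGroup A := mul_mem (mul_mem (mul_mem hum hvm) hum) (mul_mem (mul_mem hum hvm) hum)
  have hN := d.normalizes hF hA hab hwm fun a ha => by
    rw [d.zQ_eq_zpowers hz hz1] at ha
    obtain ⟨i, hi⟩ := Subgroup.mem_zpowers_iff.1 ha
    obtain rfl : a = zA ^ i := Subtype.ext (by rw [Subgroup.coe_zpow]; exact hi.symm)
    rw [map_zpow, hz2, Subgroup.coe_zpow]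
    exact zQ.zpow_mem (zQ.inv_mem hz) i
  obtain ⟨γ, hγ, hγe⟩ := d.exists_extension hF hA hwm hN
  exact ⟨γ, hγ, (hγe zA).trans (by rw [hz2]; rfl), fun c hc hc' =>
    (hγe c).trans (by rw [hfixc c hc hc'])⟩

/-- Two kernels meet nontrivially. -/
theorem Data.exists_common (d : Data p S Z zQ) (hA : F.IsCentric A)
    (hab : ∀ a ∈ A, ∀ b ∈ A, a * b = b * a) (hidx : (A.subgroupOf S).index = p) (β : MulAut A) :
    ∃ c : A, c ≠ 1 ∧ (c : Ω) ∈ Z ∧ ((β⁻¹ c : A) : Ω) ∈ Z := by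
  haveI := finite_of_le hA.1
  obtain ⟨hi, hcA, -⟩ := d.index_Z hA hab hidx
  set K := Z.subgroupOf A ⊓ (Z.subgroupOf A).comap (β⁻¹ : MulAut A).toMonoidHom with hK
  have hKne : K ≠ ⊥ := by
    intro e
    have h1 := Subgroup.index_inf_le (H := Z.subgroupOf A)
      (K := (Z.subgroupOf A).comap (β⁻¹ : MulAut A).toMonoidHom)
    rw [← hK, e, Subgroup.index_bot, hcA,
      Subgroup.index_comap_of_surjective _ (β⁻¹ : MulAut A).surjective, hi] at h1
    have h2 : p * p < p ^ 3 := by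
      rw [show p ^ 3 = p * p * p by ring]
      exact lt_mul_of_one_lt_right (by have := hp.out.pos; positivity) hp.out.one_lt
    omega
  obtain ⟨⟨c, hc⟩, hc1⟩ := K.ne_bot_iff_exists_ne_one.1 hKne
  exact ⟨c, fun e => hc1 (Subtype.ext e), hc.1, hc.2⟩

/-- The fixed points of the torus element in `Z`. -/
theorem Data.fix_mem (d : Data p S Z zQ) (hodd : p ≠ 2) {γ : MulAut S} {z : Ω} (hz : z ∈ zQ)
    (hz1 : z ≠ 1) (hγz : ((γ ⟨z, d.le_S (d.le hz)⟩ : S) : Ω) = z⁻¹) {c : Ω} (hcZ : c ∈ Z)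
    (hc1 : c ≠ 1) (hγc : ((γ ⟨c, d.le_S hcZ⟩ : S) : Ω) = c) :
    orderOf c = p ∧ c ∉ zQ ∧ ∀ (w : Ω) (hw : w ∈ Z),
      ((γ ⟨w, d.le_S hw⟩ : S) : Ω) * w⁻¹ ∈ zQ ∧
      (((γ ⟨w, d.le_S hw⟩ : S) : Ω) * w⁻¹ ∈ Subgroup.zpowers c → w ∈ Subgroup.zpowers c) := by
  haveI := finite_of_le d.le_S
  have hzo := d.zQ_prime_order hz hz1
  have hsq : ∀ i : ℤ, z ^ i = (z ^ i)⁻¹ → z ^ i = 1 := fun i hi => by
    have h2 : (z ^ i) ^ 2 = 1 := by rw [sq]; exact mul_eq_one_iff_eq_inv.2 hi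
    have h3 : (z ^ i) ^ p = 1 := by
      rw [← zpow_natCast, ← zpow_mul, mul_comm, zpow_mul, zpow_natCast, ← hzo,
        pow_orderOf_eq_one, one_zpow]
    have hcop : Nat.gcd p 2 = 1 := (Nat.coprime_primes hp.out Nat.prime_two).2 hodd
    simpa [hcop] using pow_gcd_eq_one.2 ⟨h3, h2⟩
  have hγzi : ∀ (i : ℤ) (h : z ^ i ∈ S), ((γ ⟨z ^ i, h⟩ : S) : Ω) = (z ^ i)⁻¹ := fun i h => by
    rw [show (⟨z ^ i, h⟩ : S) = ⟨z, d.le_S (d.le hz)⟩ ^ i from Subtype.ext (by simp), map_zpow,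
      Subgroup.coe_zpow, hγz, inv_zpow]
  have hcQ : c ∉ zQ := fun hcQ => by
    rw [d.zQ_eq_zpowers hz hz1] at hcQ
    obtain ⟨i, rfl⟩ := Subgroup.mem_zpowers_iff.1 hcQ
    rw [hγzi] at hγc
    exact hc1 (hsq i hγc.symm)
  have hsup : zQ ⊔ Subgroup.zpowers c = Z := by
    refine Subgroup.eq_of_le_of_card_ge (sup_le d.le (Subgroup.zpowers_le.2 hcZ)) ?_
    haveI : Finite (zQ ⊔ Subgroup.zpowers c : Subgroup Ω) :=
      finite_of_le (sup_le (d.le.trans d.le_S) (Subgroup.zpowers_le.2 (d.le_S hcZ)))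
    obtain ⟨j, hj⟩ := IsPGroup.iff_card.1 (d.pgroup.to_le
      (sup_le (d.le.trans d.le_S) (Subgroup.zpowers_le.2 (d.le_S hcZ))))
    have hlt' : Nat.card zQ < Nat.card (zQ ⊔ Subgroup.zpowers c : Subgroup Ω) := by
      refine lt_of_le_of_ne (Subgroup.card_le_of_le le_sup_left) fun e => hcQ ?_
      rw [Subgroup.eq_of_le_of_card_ge le_sup_left e.ge]
      exact Subgroup.mem_sup_right (Subgroup.mem_zpowers c)
    rw [hj, d.cardQ] at hlt'
    rw [d.cardZ, hj]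
    refine Nat.pow_le_pow_right hp.out.pos ?_
    have : 1 < j := (Nat.pow_lt_pow_iff_right hp.out.one_lt).1 (by simpa using hlt')
    omega
  have hdec : ∀ w ∈ Z, ∃ (i k : ℤ), w = z ^ i * c ^ k := by
    intro w hw
    have hcen : zQ ≤ Subgroup.normalizer ((Subgroup.zpowers c : Subgroup Ω) : Set Ω) := by
      haveI : Finite (Subgroup.zpowers c) := finite_of_le (Subgroup.zpowers_le.2 (d.le_S hcZ))
      refine fun q hq => mem_normalizer_of_conj_mem fun y hy => ?_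
      rw [d.central (Subgroup.zpowers_le.2 hcZ hy) (d.le_S (d.le hq)), mul_inv_cancel_right]
      exact hy
    rw [← hsup] at hw
    rw [← SetLike.mem_coe, Subgroup.coe_mul_of_left_le_normalizer_right _ _ hcen] at hw
    obtain ⟨a, ha, b, hb, rfl⟩ := Set.mem_mul.1 hw
    rw [SetLike.mem_coe, d.zQ_eq_zpowers hz hz1] at ha
    obtain ⟨i, rfl⟩ := Subgroup.mem_zpowers_iff.1 ha
    obtain ⟨k, rfl⟩ := Subgroup.mem_zpowers_iff.1 hb
    exact ⟨i, k, rfl⟩
  refine ⟨?_, hcQ, fun w hw => ?_⟩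
  · have h1 : c ^ p ∈ zQ → orderOf c = p := fun h => orderOf_eq_prime (by
      rw [d.zQ_eq_zpowers hz hz1] at h
      obtain ⟨i, hi⟩ := Subgroup.mem_zpowers_iff.1 h
      rw [← hi]
      refine hsq i ?_
      rw [← hγzi i (S.zpow_mem (d.le_S (d.le hz)) i),
        show (⟨z ^ i, S.zpow_mem (d.le_S (d.le hz)) i⟩ : S) = ⟨c, d.le_S hcZ⟩ ^ p from
          Subtype.ext (by simpa using hi), map_pow, Subgroup.coe_pow, hγc, hi]) hc1
    refine h1 ?_
    haveI : (zQ.subgroupOf Z).Normal := ⟨fun a ha b => by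
      rw [Subgroup.mem_subgroupOf] at ha ⊢
      simp only [Subgroup.coe_mul, Subgroup.coe_inv]
      rw [d.central (d.le ha) (d.le_S b.2), mul_inv_cancel_right]
      exact ha⟩
    have hidx : (zQ.subgroupOf Z).index = p := by
      refine Nat.eq_of_mul_eq_mul_left hp.out.pos ?_
      have := (zQ.subgroupOf Z).card_mul_index
      rwa [Nat.card_congr (Subgroup.subgroupOfEquivOfLe d.le).toEquiv, d.cardQ, d.cardZ, sq] at this
    have := Subgroup.pow_index_mem (zQ.subgroupOf Z) (⟨c, hcZ⟩ : Z)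
    rw [hidx, Subgroup.mem_subgroupOf] at this
    simpa using this
  · obtain ⟨i, k, rfl⟩ := hdec w hw
    have e : ((γ ⟨z ^ i * c ^ k, d.le_S hw⟩ : S) : Ω) * (z ^ i * c ^ k)⁻¹ = (z ^ i)⁻¹ * (z ^ i)⁻¹ := by
      rw [show (⟨z ^ i * c ^ k, d.le_S hw⟩ : S) =
        ⟨z ^ i, S.zpow_mem (d.le_S (d.le hz)) i⟩ * ⟨c, d.le_S hcZ⟩ ^ k from Subtype.ext (by simp),
        map_mul, map_zpow, Subgroup.coe_mul, Subgroup.coe_zpow, hγc, hγzi]
      group
    rw [e]
    refine ⟨zQ.mul_mem (zQ.inv_mem (zQ.zpow_mem hz i)) (zQ.inv_mem (zQ.zpow_mem hz i)), fun hmem => ?_⟩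
    have : z ^ i = 1 := hsq i (by
      by_contra hne
      have h0 : (z ^ i)⁻¹ * (z ^ i)⁻¹ ≠ 1 := fun e0 => hne (by
        rw [mul_eq_one_iff_eq_inv, inv_inv] at e0; exact e0.symm)
      apply hcQ
      have hq := zQ.mul_mem (zQ.inv_mem (zQ.zpow_mem hz i)) (zQ.inv_mem (zQ.zpow_mem hz i))
      obtain ⟨m, hm⟩ := Subgroup.mem_zpowers_iff.1 hmem
      rw [← hm] at hq h0
      have hgen := d.zQ_eq_zpowers hq h0
      haveI : Finite (Subgroup.zpowers c) := finite_of_le (Subgroup.zpowers_le.2 (d.le_S hcZ))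
      have hle : zQ ≤ Subgroup.zpowers c := hgen ▸ Subgroup.zpowers_le.2 (Subgroup.zpow_mem _ (Subgroup.mem_zpowers c) m)
      have hcp : c ^ p ∈ zQ := by
        haveI : (zQ.subgroupOf Z).Normal := ⟨fun a ha b => by
          rw [Subgroup.mem_subgroupOf] at ha ⊢
          simp only [Subgroup.coe_mul, Subgroup.coe_inv]
          rw [d.central (d.le ha) (d.le_S b.2), mul_inv_cancel_right]
          exact ha⟩
        have hidx : (zQ.subgroupOf Z).index = p := by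
          refine Nat.eq_of_mul_eq_mul_left hp.out.pos ?_
          have := (zQ.subgroupOf Z).card_mul_index
          rwa [Nat.card_congr (Subgroup.subgroupOfEquivOfLe d.le).toEquiv, d.cardQ, d.cardZ, sq] at this
        have := Subgroup.pow_index_mem (zQ.subgroupOf Z) (⟨c, hcZ⟩ : Z)
        rw [hidx, Subgroup.mem_subgroupOf] at this
        simpa using this
      have hco : orderOf c = p := orderOf_eq_prime (by
        rw [d.zQ_eq_zpowers hz hz1] at hcp
        obtain ⟨j, hj⟩ := Subgroup.mem_zpowers_iff.1 hcp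
        rw [← hj]
        refine hsq j ?_
        rw [← hγzi j (S.zpow_mem (d.le_S (d.le hz)) j),
          show (⟨z ^ j, S.zpow_mem (d.le_S (d.le hz)) j⟩ : S) = ⟨c, d.le_S hcZ⟩ ^ p from
            Subtype.ext (by simpa using hj), map_pow, Subgroup.coe_pow, hγc, hj]) hc1
      rw [Subgroup.eq_of_le_of_card_ge hle (by rw [Nat.card_zpowers, hco, d.cardQ])]
      exact Subgroup.mem_zpowers c)
    rw [this, one_mul]
    exact Subgroup.zpow_mem _ (Subgroup.mem_zpowers c) k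

/-- The fixed line is invariant under `Aut_F(S)`. -/
theorem Data.aut_fix (d : Data p S Z zQ) (hF : F.IsSaturated p) {γ δ : MulAut S}
    (hγ : γ ∈ F.autGroup S) (hδ : δ ∈ F.autGroup S) {z : Ω} (hz : z ∈ zQ) (hz1 : z ≠ 1)
    (hγz : ((γ ⟨z, d.le_S (d.le hz)⟩ : S) : Ω) = z⁻¹)
    (hγmod : ∀ (w : Ω) (hw : w ∈ Z), ((γ ⟨w, d.le_S hw⟩ : S) : Ω) * w⁻¹ ∈ zQ)
    {c : S} (hc : (c : Ω) ∈ Z) (hγc : γ c = c) : (δ c : Ω) ∈ Z ∧ γ (δ c) = δ c := by
  have hZc : ∀ (α : MulAut S) (w : S), (w : Ω) ∈ Z → ((α w : S) : Ω) ∈ Z := fun α w hw =>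
    d.mem_Z (α w).2 fun g hg => by
      have h1 := congrArg (fun v : S => ((α v : S) : Ω))
        (Subtype.ext (d.central hw (α⁻¹ ⟨g, hg⟩).2) : α⁻¹ ⟨g, hg⟩ * w = w * α⁻¹ ⟨g, hg⟩)
      simpa using h1
  refine ⟨hZc δ c hc, ?_⟩
  haveI := finite_mulAut (le_refl S)
  have hQ : ∀ (α : MulAut S) {x : S}, (x : Ω) ∈ zQ → ((α x : S) : Ω) ∈ zQ := fun α x hx =>
    d.map_zQ le_rfl (d.le.trans d.le_S) d.nonab α hx
  set zS : S := ⟨z, d.le_S (d.le hz)⟩ with hzS
  set ε : MulAut S := γ⁻¹ * δ⁻¹ * γ * δ with hε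
  have hεm : ε ∈ F.autGroup S := mul_mem (mul_mem (mul_mem (inv_mem hγ) (inv_mem hδ)) hγ) hδ
  have hγq : ∀ q : S, (q : Ω) ∈ zQ → γ q = q⁻¹ := fun q hq => by
    rw [d.zQ_eq_zpowers hz hz1] at hq
    obtain ⟨i, hi⟩ := Subgroup.mem_zpowers_iff.1 hq
    obtain rfl : q = zS ^ i := Subtype.ext (by rw [Subgroup.coe_zpow]; exact hi.symm)
    rw [map_zpow, show γ zS = zS⁻¹ from Subtype.ext hγz, inv_zpow]
  have hγiq : ∀ q : S, (q : Ω) ∈ zQ → γ⁻¹ q = q⁻¹ := fun q hq => by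
    conv_lhs => rw [← inv_inv q, ← hγq q hq]
    rw [← map_inv, MulAut.inv_apply_self]
  have hεq : ∀ q : S, (q : Ω) ∈ zQ → ε q = q := fun q hq => by
    rw [hε, MulAut.mul_apply, MulAut.mul_apply, MulAut.mul_apply, hγq _ (hQ δ hq), map_inv,
      MulAut.inv_apply_self, map_inv, hγiq q hq, inv_inv]
  have hεs : ∀ w : S, (w : Ω) ∈ Z → ((ε w * w⁻¹ : S) : Ω) ∈ zQ := by
    intro w hw
    have h1 : ((γ (δ w) * (δ w)⁻¹ : S) : Ω) ∈ zQ := hγmod _ (hZc δ w hw)
    have h2 : ((γ w * w⁻¹ : S) : Ω) ∈ zQ := hγmod _ hw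
    have egen : ∀ q r : S, γ (δ w) = q * δ w → r = γ w * w⁻¹ →
        ε w * w⁻¹ = γ⁻¹ (δ⁻¹ q) * (γ⁻¹ r)⁻¹ := by
      intro q r hq hr
      rw [hε, MulAut.mul_apply, MulAut.mul_apply, MulAut.mul_apply, hq, map_mul, map_mul,
        MulAut.inv_apply_self, mul_assoc, hr, map_mul (γ⁻¹) (γ w), map_inv,
        MulAut.inv_apply_self, mul_inv_rev, inv_inv]
    have e := egen (γ (δ w) * (δ w)⁻¹) _ (inv_mul_cancel_right _ _).symm rfl
    rw [e, Subgroup.coe_mul, Subgroup.coe_inv]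
    exact zQ.mul_mem (hQ _ (hQ _ h1)) (zQ.inv_mem (hQ _ h2))
  have hεp : ∀ w : S, (w : Ω) ∈ Z → (ε ^ p) w = w := by
    intro w hw
    have hit : ∀ i : ℕ, (ε ^ i) w = (ε w * w⁻¹) ^ i * w := by
      intro i
      induction i with
      | zero => simp
      | succ i ih =>
        rw [pow_succ', MulAut.mul_apply, ih, map_mul, map_pow, hεq _ (hεs w hw), pow_succ, mul_assoc,
          inv_mul_cancel_right]
    rw [hit, show (ε w * w⁻¹) ^ p = 1 from Subtype.ext (by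
      have := pow_card_eq_one' (G := zQ) (x := ⟨_, hεs w hw⟩)
      rw [d.cardQ] at this
      simpa using congrArg Subtype.val this), one_mul]
  obtain ⟨e, m, hm, he⟩ := Nat.exists_eq_pow_mul_and_not_dvd (orderOf_pos ε).ne' p hp.out.ne_one
  have hεinn : ε ^ m ∈ Inn S := by
    refine mem_sylow_of_normalizes (fullyAutomized_inn d.pgroup hF) (pow_mem hεm m) ?_ ?_
    · refine mem_normalizer_of_conj_mem ?_
      rintro _ ⟨y, rfl⟩
      exact ⟨(ε ^ m) y, by ext x; simp⟩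
    · obtain ⟨j, -, hj⟩ := (Nat.dvd_prime_pow hp.out).1 (orderOf_dvd_of_pow_eq_one (x := ε ^ m)
        (n := p ^ e) (by rw [← pow_mul, mul_comm, ← he, pow_orderOf_eq_one]))
      exact IsPGroup.of_card (n := j) (by rw [Nat.card_zpowers, hj])
  have hεfix : ∀ w : S, (w : Ω) ∈ Z → ε w = w := by
    intro w hw
    obtain ⟨y, hy⟩ := hεinn
    have h1 : (ε ^ m) w = w := by
      rw [← hy]
      refine Subtype.ext ?_
      simp only [MulAut.conj_apply, Subgroup.coe_mul, Subgroup.coe_inv]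
      rw [d.central hw y.2, mul_inv_cancel_right]
    let K : Subgroup (MulAut S) :=
      { carrier := {f | f w = w}
        one_mem' := rfl
        mul_mem' := fun {a b} ha hb => by
          change a (b w) = w
          rw [hb, ha]
        inv_mem' := fun {a} ha => by
          change a⁻¹ w = w
          conv_lhs => rw [← (ha : a w = w)]
          exact MulAut.inv_apply_self _ a w }
    have hcop : Nat.gcd p m = 1 := hp.out.coprime_iff_not_dvd.2 hm
    have hbez := Nat.gcd_eq_gcd_ab p m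
    rw [hcop] at hbez
    have hK : ε ∈ K := by
      rw [← pow_one ε, ← zpow_natCast, hbez, zpow_add, zpow_mul, zpow_mul, zpow_natCast,
        zpow_natCast]
      exact K.mul_mem (K.zpow_mem (hεp w hw) _) (K.zpow_mem h1 _)
    exact hK
  have h2 := congrArg (fun x => δ (γ x)) (hεfix c hc)
  simp only [hε, MulAut.mul_apply, MulAut.apply_inv_self] at h2
  rwa [hγc] at h2

/-- Some nontrivial subgroup is normal in the system. -/
theorem Data.exists_normal (d : Data p S Z zQ) (hodd : p ≠ 2) (hF : F.IsSaturated p) :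
    ∃ W : Subgroup Ω, W ≠ ⊥ ∧ F.IsNormal W := by
  obtain ⟨z, hz, hz1⟩ := d.exists_z
  have hQbot : zQ ≠ ⊥ := fun e => by rw [e, Subgroup.mem_bot] at hz; exact hz1 hz
  by_cases hex : ∀ E : Subgroup Ω, F.IsEssential p E → ∃ a ∈ E, ∃ b ∈ E, a * b ≠ b * a
  · refine ⟨zQ, hQbot, isNormal_of_essential d.pgroup hF fun P hP => ?_⟩
    rcases hP with rfl | hP
    · exact ⟨d.le.trans d.le_S, fun α _ x hx => d.map_zQ le_rfl (d.le.trans d.le_S) d.nonab α hx⟩
    · have hZP := d.le.trans (d.Z_le hP.1)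
      exact ⟨hZP, fun α _ x hx => d.map_zQ hP.1.1 hZP (hex P hP) α hx⟩
  simp only [not_forall, not_exists, not_and, not_not] at hex
  obtain ⟨A, hA, hab⟩ := hex
  have hidx := d.index_eq hF hA hab
  obtain ⟨-, -, h4⟩ := d.index_Z hA.1 hab hidx
  have hab' : ∀ E : Subgroup Ω, F.IsEssential p E → ∀ a ∈ E, ∀ b ∈ E, a * b = b * a :=
    fun E hE => d.abelian_of_card hF hE h4
  have hAS := hA.1.1
  haveI := finite_mulAut hAS
  obtain ⟨β, hβ, hβN⟩ : ∃ β ∈ F.autGroup A,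
      β ∉ Subgroup.normalizer (autInducedBy S A : Set (MulAut A)) := by
    by_contra hall
    simp only [not_exists, not_and, not_not] at hall
    have hlt := ne_top_of_essential d.pgroup hF hA
    obtain ⟨g, hg, hgA⟩ := SetLike.exists_of_lt hlt
    have hgN : g ∈ normalizerIn S A := ⟨hg, d.normal hA.1 hg⟩
    have hn : ((autInducedBy S A).subgroupOf (F.autGroup A)).Normal := ⟨fun a ha b => by
      rw [Subgroup.mem_subgroupOf] at ha ⊢
      exact (Subgroup.mem_normalizer_iff.1 (hall _ b.2) _).1 ha⟩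
    refine hgA (mem_of_induced_inn (hA.1.2 A (isConj_refl hAS)) hAS hgN ?_)
    exact mem_inn_of_radical (isRadical_of_essential d.pgroup hA) hn
      (isPGroup_subgroupOf (isPGroup_autInducedBy d.pgroup A))
      (α := ⟨conjAut A hgN.2, autInducedBy_le_autGroup hAS (conjAut_mem_autInducedBy hg _)⟩)
      (Subgroup.mem_subgroupOf.2 (conjAut_mem_autInducedBy hg _))
  obtain ⟨γ, hγ, hγz, hγfix⟩ := d.exists_gamma hF hA hab hβ hβN hz hz1
  obtain ⟨c, hc1, hcZ, hcZ'⟩ := d.exists_common hA.1 hab hidx β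
  have hc1' : (c : Ω) ≠ 1 := fun e => hc1 (Subtype.ext e)
  obtain ⟨hco, -, hfix⟩ := d.fix_mem hodd hz hz1 hγz hcZ hc1' (hγfix c hcZ hcZ')
  -- automorphisms of `S` preserve the line
  have hS : ∀ δ ∈ F.autGroup S, ∀ (x : S), (x : Ω) ∈ Subgroup.zpowers (c : Ω) →
      ((δ x : S) : Ω) ∈ Subgroup.zpowers (c : Ω) := by
    intro δ hδ x hx
    obtain ⟨i, hi⟩ := Subgroup.mem_zpowers_iff.1 hx
    obtain rfl : x = (⟨(c : Ω), d.le_S hcZ⟩ : S) ^ i :=
      Subtype.ext (by rw [Subgroup.coe_zpow]; exact hi.symm)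
    obtain ⟨hZ', hfx⟩ := d.aut_fix hF hγ hδ hz hz1 hγz (fun w hw => (hfix w hw).1)
      (c := ⟨(c : Ω), d.le_S hcZ⟩) hcZ (Subtype.ext (hγfix c hcZ hcZ'))
    rw [map_zpow, Subgroup.coe_zpow]
    refine Subgroup.zpow_mem _ ((hfix _ hZ').2 ?_) i
    have e : ((γ ⟨((δ ⟨(c : Ω), d.le_S hcZ⟩ : S) : Ω), d.le_S hZ'⟩ : S) : Ω) =
        ((δ ⟨(c : Ω), d.le_S hcZ⟩ : S) : Ω) := congrArg Subtype.val hfx
    rw [e, mul_inv_cancel]
    exact Subgroup.one_mem _
  refine ⟨Subgroup.zpowers (c : Ω), fun e => hc1' (Subgroup.zpowers_eq_bot.1 e),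
    isNormal_of_essential d.pgroup hF fun P hP => ?_⟩
  rcases hP with rfl | hE
  · exact ⟨Subgroup.zpowers_le.2 (d.le_S hcZ), hS⟩
  have hZP := d.Z_le hE.1
  refine ⟨Subgroup.zpowers_le.2 (hZP hcZ), fun α hα x hx => ?_⟩
  have hPS := hE.1.1
  haveI := finite_mulAut hPS
  by_cases hαN : α ∈ Subgroup.normalizer (autInducedBy S P : Set (MulAut P))
  · obtain ⟨δ, hδ, hδe⟩ := d.exists_extension hF hE hα hαN
    rw [← hδe x]
    exact hS δ hδ _ hx
  -- the common kernel lines of `α` and `α⁻¹` are the chosen one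
  have key : ∀ α' ∈ F.autGroup P, α' ∉ Subgroup.normalizer (autInducedBy S P : Set (MulAut P)) →
      ∀ y : P, y ≠ 1 → (y : Ω) ∈ Z → ((α'⁻¹ y : P) : Ω) ∈ Z →
        Subgroup.zpowers (y : Ω) = Subgroup.zpowers (c : Ω) := by
    intro α' hα' hα'N y hy1 hyZ hyZ'
    obtain ⟨γ', hγ', hγ'z, hγ'fix⟩ := d.exists_gamma hF hE (hab' P hE) hα' hα'N hz hz1
    have hy1' : (y : Ω) ≠ 1 := fun e => hy1 (Subtype.ext e)
    obtain ⟨hyo, -, hfix'⟩ := d.fix_mem hodd hz hz1 hγ'z hyZ hy1' (hγ'fix y hyZ hyZ')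
    have h1 := hS γ' hγ' ⟨(c : Ω), d.le_S hcZ⟩ (Subgroup.mem_zpowers _)
    have h2 : (c : Ω) ∈ Subgroup.zpowers (y : Ω) := by
      refine (hfix' c hcZ).2 ?_
      have h3 := Subgroup.mul_mem _ h1 (Subgroup.inv_mem _ (Subgroup.mem_zpowers (c : Ω)))
      by_cases he : ((γ' ⟨(c : Ω), d.le_S hcZ⟩ : S) : Ω) * (c : Ω)⁻¹ = 1
      · rw [he]; exact Subgroup.one_mem _
      exfalso
      have hgen := d.zQ_eq_zpowers (hfix' c hcZ).1 he
      obtain ⟨-, hcQ, -⟩ := d.fix_mem hodd hz hz1 hγz hcZ hc1' (hγfix c hcZ hcZ')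
      haveI : Finite (Subgroup.zpowers (c : Ω)) := finite_of_le (Subgroup.zpowers_le.2 (d.le_S hcZ))
      apply hcQ
      rw [Subgroup.eq_of_le_of_card_ge ((le_of_eq hgen).trans (Subgroup.zpowers_le.2 h3) : zQ ≤ _)
        (by rw [Nat.card_zpowers, hco, d.cardQ])]
      exact Subgroup.mem_zpowers _
    haveI : Finite (Subgroup.zpowers (y : Ω)) := finite_of_le (Subgroup.zpowers_le.2 (d.le_S hyZ))
    exact (Subgroup.eq_of_le_of_card_ge (Subgroup.zpowers_le.2 h2)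
      (by rw [Nat.card_zpowers, Nat.card_zpowers, hco, hyo])).symm
  have hαN' : α⁻¹ ∉ Subgroup.normalizer (autInducedBy S P : Set (MulAut P)) := fun h =>
    hαN (by simpa using inv_mem h)
  have hidxP := d.index_eq hF hE (hab' P hE)
  obtain ⟨y, hy1, hyZ, hyZ'⟩ := d.exists_common hE.1 (hab' P hE) hidxP α⁻¹
  rw [inv_inv] at hyZ'
  have hgen := key α⁻¹ (inv_mem hα) hαN' y hy1 hyZ (by rwa [inv_inv])
  rw [← hgen] at hx
  obtain ⟨i, hi⟩ := Subgroup.mem_zpowers_iff.1 hx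
  obtain rfl : x = y ^ i := Subtype.ext (by rw [Subgroup.coe_zpow]; exact hi.symm)
  rw [map_zpow, Subgroup.coe_zpow]
  refine Subgroup.zpow_mem _ ?_ i
  have hαy1 : α y ≠ 1 := fun e => hy1 (α.injective (e.trans (map_one α).symm))
  rw [← key α hα hαN (α y) hαy1 hyZ' (by rwa [MulAut.inv_apply_self])]
  exact Subgroup.mem_zpowers _

end Cfsg.Agent.Lib.LocalP2.ExtraIndexP
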