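import Cfsg.Agent.Lib.LocalP2.ExtraIndexP

/-!
An abelian essential subgroup inside a group with commutators in a central subgroup of order `p`
has index dividing `p` there.
-/

set_option autoImplicit false
set_option linter.style.haveILetI false

namespace Cfsg.Agent.Lib.LocalP2.ExtraIndexP

open Cfsg Cfsg.FusionSystem Cfsg.Agent.Lib.Fusion

variable {Ω : Type*} [Group Ω] {p : ℕ} [hp : Fact p.Prime] {S : Subgroup Ω}
  {F : FusionSystem S} [Finite S] {A : Subgroup Ω}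

theorem relIndex_le_of_abelian (hS : IsPGroup p S) (hF : F.IsSaturated p) (hA : F.IsEssential p A)
    (hab : ∀ a ∈ A, ∀ b ∈ A, a * b = b * a) {R zQ : Subgroup Ω} (hRS : R ≤ S) (hAR : A ≤ R)
    (hcardQ : Nat.card zQ = p) (hzR : zQ ≤ R) (hzc : ∀ w ∈ zQ, ∀ g ∈ R, g * w = w * g)
    (hcom : ∀ g ∈ R, ∀ h ∈ R, g * h * g⁻¹ * h⁻¹ ∈ zQ) : A.relIndex R ∣ p := by
  have hAS := hA.1.1
  haveI := finite_mulAut hAS
  by_contra hidx
  have hlt := ne_top_of_essential hS hF hA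
  have hN := inn_subgroupOf_normal A (F.autGroup A)
  obtain ⟨hT, hT1, -⟩ := centric_setup hS hF hlt hA.2.1 hA.1 hN
  set π := QuotientGroup.mk' ((Inn A).subgroupOf (F.autGroup A)) with hπdef
  set T := ((autInducedBy S A).subgroupOf (F.autGroup A)).map π with hTdef
  obtain ⟨-, -, _, E, hE⟩ := id hA
  obtain ⟨-, E0, hE0, hctrl⟩ := exists_controls_of_stronglyEmbedded hT hE
  apply hE0
  have hinn : Inn A = ⊥ := by
    rw [eq_bot_iff]
    rintro _ ⟨y, rfl⟩
    rw [Subgroup.mem_bot]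
    ext a
    simp only [MulAut.conj_apply, MulAut.one_apply, Subgroup.coe_mul, Subgroup.coe_inv]
    rw [hab _ y.2 _ a.2, mul_inv_cancel_right]
  have hπinj : ∀ x : F.autGroup A, π x = 1 → x = 1 := fun x hx => by
    rw [hπdef, QuotientGroup.mk'_apply, QuotientGroup.eq_one_iff, Subgroup.mem_subgroupOf, hinn,
      Subgroup.mem_bot] at hx
    exact Subtype.ext hx
  haveI : Finite zQ := Nat.finite_of_card_ne_zero (by rw [hcardQ]; exact hp.out.ne_zero)
  have hzA : zQ ≤ A := fun w hw =>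
    hA.1.2 A (isConj_refl hAS) ⟨hRS (hzR hw), fun a ha => hzc w hw a (hAR ha)⟩
  have hNA : R ≤ Subgroup.normalizer (A : Set Ω) := fun g hg => by
    haveI := finite_of_le hAS
    refine mem_normalizer_of_conj_mem fun a ha => ?_
    have := A.mul_mem (hzA (hcom g hg a (hAR ha))) ha
    rwa [inv_mul_cancel_right] at this
  have hzpow : ∀ {z : Ω}, z ∈ zQ → z ≠ 1 → zQ = Subgroup.zpowers z := by
    intro z hz hz1
    refine (Subgroup.eq_of_le_of_card_ge (Subgroup.zpowers_le.2 hz) ?_).symm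
    rcases (Nat.dvd_prime hp.out).1 (hcardQ ▸ Subgroup.card_dvd_of_le (Subgroup.zpowers_le.2 hz)) with h | h
    · exact absurd (Subgroup.zpowers_eq_bot.1 (Subgroup.card_eq_one.1 h)) hz1
    · rw [h, hcardQ]
  obtain ⟨z, hz, hz1⟩ : ∃ z ∈ zQ, z ≠ 1 := by
    have h1 : zQ ≠ ⊥ := fun e => by
      rw [e, Subgroup.card_bot] at hcardQ; exact hp.out.ne_one hcardQ.symm
    obtain ⟨w, hw⟩ := zQ.ne_bot_iff_exists_ne_one.1 h1
    exact ⟨w, w.2, fun e => hw (Subtype.ext e)⟩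
  have hfix : ∀ w ∈ A, ∃ g ∈ R, g ∉ A ∧ g * w = w * g := by
    intro w hw
    by_contra hno
    simp only [not_exists, not_and] at hno
    have hker : ∀ g : ↥R, (g : Ω) * w * (g : Ω)⁻¹ * w⁻¹ ∈ zQ := fun g => hcom _ g.2 w (hAR hw)
    let χ : ↥R →* zQ := MonoidHom.mk' (fun g => ⟨_, hker g⟩) fun a b => by
      refine Subtype.ext ?_
      simp only [Subgroup.coe_mul]
      have h1 := (hzc _ (hker b) _) a.2
      have h2 := (hzc _ (hker b) _) (R.mul_mem (R.mul_mem (R.mul_mem a.2 (hAR hw))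
        (R.inv_mem a.2)) (R.inv_mem (hAR hw)))
      calc (a : Ω) * b * w * ((a : Ω) * b)⁻¹ * w⁻¹
          = ((a : Ω) * ((b : Ω) * w * (b : Ω)⁻¹ * w⁻¹)) * w * (a : Ω)⁻¹ * w⁻¹ := by group
        _ = ((b : Ω) * w * (b : Ω)⁻¹ * w⁻¹) * ((a : Ω) * w * (a : Ω)⁻¹ * w⁻¹) := by rw [h1]; group
        _ = ((a : Ω) * w * (a : Ω)⁻¹ * w⁻¹) * ((b : Ω) * w * (b : Ω)⁻¹ * w⁻¹) := h2.symm
    have hk : χ.ker = A.subgroupOf R := by
      ext g
      rw [MonoidHom.mem_ker, Subgroup.mem_subgroupOf, ← Subtype.coe_inj]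
      change (g : Ω) * w * (g : Ω)⁻¹ * w⁻¹ = 1 ↔ _
      rw [mul_inv_eq_one, mul_inv_eq_iff_eq_mul]
      exact ⟨fun h => by_contra fun hgA => hno _ g.2 hgA h, fun h => hab _ h _ hw⟩
    apply hidx
    have h1 : (A.subgroupOf R).index ∣ p := by
      rw [← hk, Subgroup.index_ker, ← hcardQ]
      exact Subgroup.card_subgroup_dvd_card _
    exact h1
  have hcg : ∀ g (hg : g ∈ R), conjAut A (hNA hg) ∈ F.autGroup A := fun g hg =>
    autInducedBy_le_autGroup hAS (conjAut_mem_autInducedBy (hRS hg) (hNA hg))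
  have hTmem : ∀ g (hg : g ∈ R), π ⟨_, hcg g hg⟩ ∈ T := fun g hg =>
    Subgroup.mem_map_of_mem _ (Subgroup.mem_subgroupOf.2 (conjAut_mem_autInducedBy (hRS hg) (hNA hg)))
  have hne1 : ∀ g (hg : g ∈ R), g ∉ A → π ⟨_, hcg g hg⟩ ≠ 1 := by
    intro g hg hgA e
    have e1 := congrArg Subtype.val (hπinj _ e)
    refine hgA (hA.1.2 A (isConj_refl hAS) ⟨hRS hg, fun a ha => ?_⟩)
    have := congrArg Subtype.val (DFunLike.congr_fun e1 ⟨a, ha⟩)
    rw [conjAut_apply] at this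
    simp only [OneMemClass.coe_one, MulAut.one_apply] at this
    exact (mul_inv_eq_iff_eq_mul.1 this).symm
  have hNT : Subgroup.normalizer (T : Set _) ≤ E0 := hctrl T le_rfl hT1
  have hTE : T ≤ E0 := Subgroup.le_normalizer.trans hNT
  have hTs : IsSylowIn p T E0 := hT.mono_right hTE le_top
  rw [eq_top_iff]
  intro y _
  obtain ⟨β, rfl⟩ := QuotientGroup.mk'_surjective _ y
  have hzA : z ∈ A := hzA hz
  obtain ⟨g, hg, hgA, hgw⟩ := hfix (((β : MulAut A) ⟨z, hzA⟩ : A) : Ω) (SetLike.coe_mem _)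
  obtain ⟨g', hg', hg'A, hg'w⟩ := hfix ((((β⁻¹ : F.autGroup A) : MulAut A) ⟨z, hzA⟩ : A) : Ω)
    (SetLike.coe_mem _)
  set t : F.autGroup A := ⟨_, hcg g hg⟩ with ht
  set u : F.autGroup A := ⟨_, hcg g' hg'⟩ with hu
  have hzz : ∀ w ∈ zQ, ∃ i : ℤ, w = z ^ i := fun w hw => by
    rw [hzpow hz hz1] at hw
    obtain ⟨i, hi⟩ := Subgroup.mem_zpowers_iff.1 hw
    exact ⟨i, hi.symm⟩
  have hshift : ∀ (k : Ω) (hk : k ∈ R) (a : A), ∃ i : ℤ,
      conjAut A (hNA hk) a * a⁻¹ = (⟨z, hzA⟩ : A) ^ i := fun k hk a => by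
    obtain ⟨i, hi⟩ := hzz _ (hcom k hk a (hAR a.2))
    exact ⟨i, Subtype.ext (by simpa using hi)⟩
  have hcomm : t * (β * u * β⁻¹) = β * u * β⁻¹ * t := by
    refine Subtype.ext (comm_of_shift (fun a b => Subtype.ext (hab _ a.2 _ b.2)) ?_ ?_)
    · intro a
      obtain ⟨i, hi⟩ := hshift g' hg' ((β⁻¹ : F.autGroup A).1 a)
      have e : ((β * u * β⁻¹ : F.autGroup A) : MulAut A) a * a⁻¹ =
          ((β : MulAut A) ⟨z, hzA⟩) ^ i := by
        rw [← map_zpow, ← hi]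
        simp [u]
      rw [e, map_zpow]
      congr 1
      refine Subtype.ext ?_
      simp only [ht, conjAut_apply]
      rw [hgw, mul_inv_cancel_right]
    · intro a
      obtain ⟨i, hi⟩ := hshift g hg a
      change ((β * u * β⁻¹ : F.autGroup A) : MulAut A) (conjAut A (hNA hg) a * a⁻¹) =
        conjAut A (hNA hg) a * a⁻¹
      rw [hi, map_zpow]
      congr 1
      have e : (u : MulAut A) (((β⁻¹ : F.autGroup A) : MulAut A) ⟨z, hzA⟩) =
          ((β⁻¹ : F.autGroup A) : MulAut A) ⟨z, hzA⟩ := by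
        refine Subtype.ext ?_
        simp only [hu, conjAut_apply]
        rw [hg'w, mul_inv_cancel_right]
      simp only [Subgroup.coe_mul, MulAut.mul_apply]
      rw [e]
      simp
  have hs1 : π (β * u * β⁻¹) ∈ E0 := by
    have hQ : Subgroup.zpowers (π t) ≤ T := Subgroup.zpowers_le.2 (hTmem g hg)
    refine hctrl _ hQ (fun e => hne1 g hg hgA (Subgroup.zpowers_eq_bot.1 e)) ?_
    rw [Subgroup.mem_normalizer_iff]
    have hc : Commute (π (β * u * β⁻¹)) (π t) := by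
      rw [Commute, SemiconjBy, ← map_mul, ← map_mul, hcomm]
    intro x
    constructor
    · intro hx
      obtain ⟨i, rfl⟩ := Subgroup.mem_zpowers_iff.1 hx
      rw [(hc.zpow_right i).eq, mul_inv_cancel_right]
      exact hx
    · intro hx
      obtain ⟨i, hi⟩ := Subgroup.mem_zpowers_iff.1 hx
      refine Subgroup.mem_zpowers_iff.2 ⟨i, ?_⟩
      calc π t ^ i = (π (β * u * β⁻¹))⁻¹ * (π (β * u * β⁻¹) * π t ^ i) := by group
        _ = (π (β * u * β⁻¹))⁻¹ * (π t ^ i * π (β * u * β⁻¹)) := by rw [(hc.zpow_right i).eq]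
        _ = x := by rw [hi]; group
  have hTp : IsPGroup p T := hT.2.1
  have hpg : IsPGroup p (Subgroup.zpowers (π (β * u * β⁻¹))) := by
    refine (hTp.map (MulAut.conj (π β)).toMonoidHom).to_le (Subgroup.zpowers_le.2 ⟨π u, hTmem g' hg', ?_⟩)
    simp [map_mul]
  obtain ⟨e, he, heT⟩ := hTs.exists_conj_le (Subgroup.zpowers_le.2 hs1) hpg
  have h1 := heT _ (Subgroup.mem_zpowers _)
  have hmem := mem_of_moves hT hT1 hctrl (e * π β) fun hbot => hne1 g' hg' hg'A (by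
    have h2 : e * π (β * u * β⁻¹) * e⁻¹ ∈ T ⊓ cj (e * π β) T := ⟨h1, by
      show _ ∈ cj _ T
      rw [mem_cj]
      have h3 : (e * π β)⁻¹ * (e * π (β * u * β⁻¹) * e⁻¹) * (e * π β) = π u := by
        rw [map_mul, map_mul, map_inv]; group
      rw [h3]
      exact hTmem g' hg'⟩
    rw [hbot, Subgroup.mem_bot, conj_eq_one_iff, map_mul, map_mul, map_inv, conj_eq_one_iff] at h2
    exact h2)
  have h4 := E0.mul_mem (E0.inv_mem he) hmem
  rwa [inv_mul_cancel_left] at h4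

end Cfsg.Agent.Lib.LocalP2.ExtraIndexP
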