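import Cfsg.Agent.Lib.LocalP2.FusionGeneric

/-! Generation by the centralizer of the agemo subgroup of `Z(S)` and the normalizer of `J(S)` (helper19). -/

set_option autoImplicit false

namespace Cfsg.Agent.Lib.LocalP2

open Cfsg Cfsg.FusionSystem Cfsg.Agent.Lib.Fusion

universe u

variable {Ω : Type u} [Group Ω] {S : Subgroup Ω} {F : FusionSystem S} {p : ℕ}

/-- The maps common to a system over `U ≤ S` and a system over `S`. -/
def interSys {U : Subgroup Ω} (hU : U ≤ S) (N : FusionSystem U) (E : FusionSystem S) : FusionSystem U where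
  Hom P := N.Hom P ∩ E.Hom P
  le_of_mem h := N.le_of_mem h.1
  injective_of_mem h := N.injective_of_mem h.1
  conj_mem hP hg := ⟨N.conj_mem hP hg, E.conj_mem (hP.trans hU) (hU hg)⟩
  comp_mem hφ hψ h := ⟨N.comp_mem hφ.1 hψ.1 h, E.comp_mem hφ.2 hψ.2 h⟩
  inv_mem := by
    intro P φ hφ
    obtain ⟨ψ, hψ, hψv⟩ := N.inv_mem hφ.1
    obtain ⟨ψ', hψ', hψv'⟩ := E.inv_mem hφ.2
    refine ⟨ψ, ⟨hψ, ?_⟩, hψv⟩
    rwa [show ψ = ψ' from MonoidHom.ext fun x => by
      obtain ⟨y, hy⟩ := x.2
      rw [show x = ⟨φ y, ⟨y, rfl⟩⟩ from Subtype.ext hy.symm, hψv, hψv']]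

/-- A `p`-element fixing the elements of order `p` pointwise acts as a `p`-element. -/
theorem exists_pow_fix_of_fix_omega {M : Type*} [CommGroup M] (f : MulAut M)
    (hf : ∀ m : M, m ^ p = 1 → f m = m) :
    ∀ n : ℕ, ∃ k : ℕ, ∀ m : M, m ^ p ^ n = 1 → (f ^ p ^ k) m = m := by
  intro n
  induction n with
  | zero => exact ⟨0, fun m hm => by simp_all⟩
  | succ n ih =>
    obtain ⟨k, hk⟩ := ih
    refine ⟨k + n, fun m hm => ?_⟩
    set b := f ^ p ^ k with hb
    have hfix : ∀ j : ℕ, ∀ w : M, f w = w → (f ^ j) w = w := by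
      intro j
      induction j with
      | zero => simp
      | succ j ihj => intro w hw; rw [pow_succ, MulAut.mul_apply, hw, ihj w hw]
    have h1 : b (m ^ p ^ n) = m ^ p ^ n :=
      hfix _ _ (hf _ (by rw [← pow_mul, ← pow_succ]; exact hm))
    have hd : (b m / m) ^ p ^ n = 1 := by rw [div_pow, ← map_pow, h1, div_self']
    have hdb : b (b m / m) = b m / m := hk _ hd
    have key : ∀ j : ℕ, (b ^ j) m = m * (b m / m) ^ j := by
      intro j
      induction j with
      | zero => simp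
      | succ j ihj =>
        rw [pow_succ', MulAut.mul_apply, ihj, map_mul, map_pow, hdb, pow_succ (b m / m) j,
          mul_comm ((b m / m) ^ j), ← mul_assoc m, mul_div_cancel]
    rw [pow_add, pow_mul, ← hb, key, hd, mul_one]

/-- Elements acting quadratically fix the `p`-th powers of the conjugates of elements fixed by a Sylow
subgroup. -/
theorem fix_pow_orbit_of_quadratic [Fact p.Prime] {H : Type*} [Group H] [Finite H] {M : Type*} [CommGroup M]
    (hM : IsPGroup p M) [Finite M] (φ : H →* MulAut M) (T : Sylow p H) {z : M} (hz : ∀ t ∈ T, φ t z = z)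
    {a : H} (hq : ∀ m, φ a (φ a m / m) = φ a m / m) (h : H) : φ a ((φ h z) ^ p) = (φ h z) ^ p := by
  let K0 : Subgroup H :=
    { carrier := {g | ∀ m : M, m ^ p = 1 → φ g m = m}
      one_mem' := fun m _ => by simp
      mul_mem' := fun {g g'} hg hg' m hm => by rw [map_mul, MulAut.mul_apply, hg' m hm, hg m hm]
      inv_mem' := fun {g} hg m hm => by
        conv_lhs => rw [← hg m hm]
        rw [map_inv, MulAut.inv_apply_self] }
  have hK0 : K0.Normal := ⟨fun g hg x m hm => by
    rw [map_mul, map_mul, MulAut.mul_apply, MulAut.mul_apply, hg _ (by rw [← map_pow, hm, map_one]), ← MulAut.mul_apply,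
      ← map_mul, mul_inv_cancel, map_one, MulAut.one_apply]⟩
  -- `K0` acts as a `p`-group
  have hfix : ∀ g ∈ K0, φ g z = z := by
    let K1 : Subgroup K0 := (φ.comp K0.subtype).ker
    have hp : IsPGroup p (K0 ⧸ K1) := by
      intro q
      obtain ⟨g, rfl⟩ := QuotientGroup.mk_surjective q
      obtain ⟨n, hn⟩ := IsPGroup.iff_card.1 hM
      obtain ⟨k, hk⟩ := exists_pow_fix_of_fix_omega (p := p) (φ g) g.2 n
      refine ⟨k, ?_⟩
      rw [← QuotientGroup.mk_pow, QuotientGroup.eq_one_iff, MonoidHom.mem_ker]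
      refine MulEquiv.ext fun m => ?_
      rw [map_pow, MulAut.one_apply]
      exact hk m (by rw [← hn]; exact pow_card_eq_one')
    obtain ⟨T0, hT0⟩ := Thompson.exists_sylow_inf_normal T K0
    have htop : K1 ⊔ (T0 : Subgroup K0) = ⊤ := by
      rw [← Subgroup.index_eq_one]
      obtain ⟨j, hj⟩ := IsPGroup.iff_card.1 hp
      obtain ⟨i, -, hi⟩ := (Nat.dvd_prime_pow (Fact.out : p.Prime)).1
        (hj ▸ Subgroup.index_eq_card K1 ▸ Subgroup.index_dvd_of_le (le_sup_left : K1 ≤ K1 ⊔ (T0 : Subgroup K0)))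
      rcases Nat.eq_zero_or_pos i with rfl | hi0
      · simpa using hi
      · refine absurd ((dvd_pow_self p hi0.ne').trans (hi ▸ Subgroup.index_dvd_of_le le_sup_right)) T0.not_dvd_index
    intro g hg
    have hle : K1 ⊔ (T0 : Subgroup K0) ≤ ((MulAction.stabilizer (MulAut M) z).comap φ).comap K0.subtype := by
      refine sup_le (fun x hx => ?_) (fun x hx => ?_)
      · show φ x z = z
        rw [show φ x = 1 from hx, MulAut.one_apply]
      · refine hz x ?_
        have : (x : H) ∈ (T : Subgroup H) ⊓ K0 := hT0 ▸ ⟨x, hx, rfl⟩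
        exact this.1
    exact hle (htop ▸ Subgroup.mem_top (⟨g, hg⟩ : K0))
  -- quadratic action
  set w := φ h z
  set d := φ a w / w
  have key : ∀ (m : M) (j : ℕ), φ (a ^ j) m = m * (φ a m / m) ^ j := by
    intro m j
    induction j with
    | zero => simp
    | succ j ihj =>
      rw [pow_succ', map_mul, MulAut.mul_apply, ihj, map_mul, map_pow (φ a), hq, pow_succ,
        mul_comm ((φ a m / m) ^ j), ← mul_assoc, mul_div_cancel]
  have hap : a ^ p ∈ K0 := fun m hm => by
    rw [key, div_pow, ← map_pow, hm, map_one, div_one, mul_one]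
  have h1 : φ (a ^ p) w = w := by
    have h2 := hfix _ (hK0.conj_mem _ hap h⁻¹)
    rw [map_mul, map_mul, MulAut.mul_apply, MulAut.mul_apply, inv_inv] at h2
    have h3 := congrArg (φ h) h2
    rw [map_inv, MulAut.apply_inv_self] at h3
    exact h3
  rw [key, mul_eq_left, div_pow, div_eq_one, ← map_pow] at h1
  exact h1

/-- The centre of `R` as a subgroup of the ambient group. -/
abbrev centerImg (R : Subgroup Ω) : Subgroup Ω := (Subgroup.center R).map R.subtype

theorem exists_quadratic_maxAb [Finite S] [Fact p.Prime] (hS : IsPGroup p S) {R : Subgroup Ω} (hRS : R ≤ S)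
    (hout : ∃ A, MaxAb A (normalizerIn S R) ∧ ¬ A ≤ R) :
    ∃ A, MaxAb A (normalizerIn S R) ∧ ¬ A ≤ R ∧ centerImg R ≤ Subgroup.normalizer (A : Set Ω) := by
  classical
  set T := normalizerIn S R with hTdef
  have hTS : T ≤ S := normalizerIn_le S R
  have : Finite T := finite_of_le hTS
  have hRT : R ≤ T := le_normalizerIn hRS
  set V := centerImg R with hVdef
  have hV : T ≤ Subgroup.normalizer (V : Set Ω) := by
    intro t ht
    have : Finite V := finite_of_le ((Subgroup.map_subtype_le _).trans hRS)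
    refine mem_normalizer_of_conj_mem ?_
    rintro _ ⟨v, hv, rfl⟩
    refine ⟨conjAut R ht.2 v, (Subgroup.centerCongr (conjAut R ht.2) ⟨v, hv⟩).2, by simp⟩
  obtain ⟨A₀, hA₀⟩ := hout
  have hfin : {A : Subgroup Ω | MaxAb A T ∧ ¬ A ≤ R}.Finite :=
    (finite_subgroups_le (S := S)).subset fun A hA => hA.1.1.trans hTS
  obtain ⟨A, ⟨hAm, hAR⟩, hmax⟩ := Set.exists_max_image _
    (fun A : Subgroup Ω => Nat.card ↥(A ⊓ V)) hfin ⟨A₀, hA₀⟩
  refine ⟨A, hAm, hAR, ?_⟩
  have hVT : V ≤ T := (Subgroup.map_subtype_le _).trans hRT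
  by_contra hnot
  have : IsMulCommutative V := Subgroup.map_isMulCommutative _ _
  have hnot' : ¬ V.subgroupOf T ≤ Subgroup.normalizer ((A.subgroupOf T : Subgroup T) : Set T) := by
    intro h
    refine hnot fun v hv => ?_
    have : Finite A := Finite.of_injective _ (Subgroup.inclusion_injective hAm.1)
    refine mem_normalizer_of_conj_mem fun a ha => ?_
    exact (Subgroup.mem_normalizer_iff.1 (h (show (⟨v, hVT hv⟩ : T) ∈ V.subgroupOf T from hv))
      ⟨a, hAm.1 ha⟩).1 ha
  obtain ⟨A', hA'c, hA'card, hA'V, hA'N, -⟩ := thompson_replacement (G := T) (hS.to_le hTS)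
    (A := A.subgroupOf T) (D := V.subgroupOf T) ((ab_subgroupOf hAm.1).2 hAm.2.1)
    ((ab_subgroupOf hVT).2 inferInstance)
    (by
      intro a ha
      rw [Subgroup.mem_normalizer_iff]
      intro b
      exact Subgroup.mem_normalizer_iff.1 (hV a.2) b) hnot'
  set B := A'.map T.subtype with hB
  have hBm : MaxAb B T := maxAb_of_card (Subgroup.map_subtype_le _) inferInstance (by
    rw [← hAm.card_eq, hB, Subgroup.card_subtype, ← Nat.card_congr (Subgroup.subgroupOfEquivOfLe hAm.1).toEquiv]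
    exact hA'card)
  have hlt : A ⊓ V < B ⊓ V := by
    have h1 := Subgroup.map_lt_map_iff_of_injective (f := T.subtype) T.subtype_injective |>.2 hA'V
    rwa [Subgroup.map_inf _ _ _ T.subtype_injective, Subgroup.map_inf _ _ _ T.subtype_injective,
      Subgroup.map_subgroupOf_eq_of_le hAm.1, Subgroup.map_subgroupOf_eq_of_le hVT] at h1
  have hBR : B ≤ R := by
    by_contra hBR
    have : Finite ↥(B ⊓ V) := Finite.of_injective _ (Subgroup.inclusion_injective (inf_le_left.trans hBm.1))
    exact (Nat.not_lt.2 (hmax B ⟨hBm, hBR⟩)) (lt_of_le_of_ne (Subgroup.card_le_of_le hlt.le)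
      fun e => hlt.ne (Fusion.eq_of_le_of_natCard_le hlt.le e.ge))
  have hBVc : IsMulCommutative (B ⊔ V : Subgroup Ω) := by
    rw [← Subgroup.le_centralizer_iff_isMulCommutative]
    have hBV : B ≤ Subgroup.centralizer (V : Set Ω) := by
      intro b hb
      refine Subgroup.mem_centralizer_iff.2 ?_
      rintro _ ⟨v, hv, rfl⟩
      exact (congrArg Subtype.val (Subgroup.mem_center_iff.1 hv ⟨b, hBR hb⟩)).symm
    have hVV : V ≤ Subgroup.centralizer (V : Set Ω) := Subgroup.le_centralizer_iff_isMulCommutative.2 inferInstance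
    have hBB : B ≤ Subgroup.centralizer (B : Set Ω) := Subgroup.le_centralizer_iff_isMulCommutative.2 inferInstance
    have hVB : V ≤ Subgroup.centralizer (B : Set Ω) := Subgroup.le_centralizer_iff.1 hBV
    rw [Subgroup.le_centralizer_iff]
    refine sup_le ?_ ?_ <;> rw [Subgroup.le_centralizer_iff]
    · exact sup_le hBB hVB
    · exact sup_le hBV hVV
  have hBeq : B = B ⊔ V := by
    have : Finite ↥(B ⊔ V) := Finite.of_injective _ (Subgroup.inclusion_injective (sup_le hBm.1 hVT))
    exact Fusion.eq_of_le_of_natCard_le le_sup_left (hBm.2.2 _ (sup_le hBm.1 hVT) hBVc)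
  refine hnot' fun v hv => hA'N ?_
  have : (v : Ω) ∈ B := hBeq ▸ Subgroup.mem_sup_right hv
  obtain ⟨w, hw, he⟩ := this
  exact Subtype.ext he ▸ hw

/-- `N_S(R)` normalizes `J(R)`. -/
theorem normalizerIn_le_thompson [Finite S] {R : Subgroup Ω} (hR : R ≤ S) :
    normalizerIn S R ≤ normalizerIn S (thompsonSubgroupAOf R) := by
  intro g hg
  have := finite_of_le ((thompson_le R).trans hR)
  refine ⟨hg.1, mem_normalizer_of_conj_mem fun x hx => ?_⟩
  have := thompson_map_iso (conjAut R hg.2) (x := ⟨x, thompson_le R hx⟩) hx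
  simpa using this

/-- `J(P)` is `J(S)`, or `N_S(J(P))` has larger Thompson data than `P`. -/
theorem thompson_eq_or_lt [Finite S] [Fact p.Prime] (hS : IsPGroup p S) {P : Subgroup Ω} (hP : P ≤ S) :
    (thompsonSubgroupAOf P = thompsonSubgroupAOf S ∧ dAb P = dAb S) ∨
      (dAb P < dAb (normalizerIn S (thompsonSubgroupAOf P)) ∨
        (dAb P = dAb (normalizerIn S (thompsonSubgroupAOf P)) ∧ Nat.card (thompsonSubgroupAOf P) <
          Nat.card (thompsonSubgroupAOf (normalizerIn S (thompsonSubgroupAOf P))))) := by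
  set N := normalizerIn S (thompsonSubgroupAOf P) with hN
  have hNS : N ≤ S := normalizerIn_le S _
  have := finite_of_le hP
  have := finite_of_le hNS
  have hPN : P ≤ N := (le_normalizerIn hP).trans (normalizerIn_le_thompson hP)
  rcases (dAb_mono hPN).lt_or_eq with h1 | h1
  · exact Or.inr (Or.inl h1)
  have := finite_of_le ((thompson_le N).trans hNS)
  have hle := thompson_mono hPN h1.ge
  rcases (Subgroup.card_le_of_le hle).lt_or_eq with h2 | h2
  · exact Or.inr (Or.inr ⟨h1, h2⟩)
  have heq := Fusion.eq_of_le_of_natCard_le hle h2.ge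
  have hNeq : N = S := by
    by_contra hne
    obtain ⟨g, hg, hgN⟩ := exists_normalizerIn_not_mem hS (lt_of_le_of_ne hNS hne)
    have := normalizerIn_le_thompson hNS hg
    rw [← heq] at this
    exact hgN this
  exact Or.inl ⟨by rw [heq, hNeq], by rw [h1, hNeq]⟩

theorem thompson_eq_top_of_iso [Finite S] {P Q : Subgroup Ω} (hP : P ≤ S) (hQ : Q ≤ S) (e : P ≃* Q)
    (hJ : thompsonSubgroupAOf P = thompsonSubgroupAOf S) :
    thompsonSubgroupAOf Q = thompsonSubgroupAOf S := by
  have := finite_of_le hP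
  have := finite_of_le hQ
  have := finite_of_le (thompson_le S)
  refine Fusion.eq_of_le_of_natCard_le (thompson_mono hQ ?_) (by rw [← thompson_card_iso e, hJ])
  rw [← dAb_iso e, ← dAb_thompson P, hJ, dAb_thompson S]

/-- The central local step. -/
theorem normalizer_le_of_big [Finite S] [Fact p.Prime] (hS : IsPGroup p S) (hF : F.IsSaturated p)
    {E : FusionSystem S}
    (hCE : ∀ (P : Subgroup Ω), ∀ φ ∈ F.Hom P, powerClosure p 1 (S ⊓ Subgroup.centralizer (S : Set Ω)) ≤ P →
      (∀ x : P, (x : Ω) ∈ powerClosure p 1 (S ⊓ Subgroup.centralizer (S : Set Ω)) → φ x = x) → φ ∈ E.Hom P)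
    {K : Subgroup Ω} (hK : F.IsFullyNormalized K) (hJK : thompsonSubgroupAOf K = K)
    (hZK : S ⊓ Subgroup.centralizer (S : Set Ω) ≤ K)
    (hout : ∃ A, MaxAb A (normalizerIn S K) ∧ ¬ A ≤ K)
    (hfix : ∀ R : Subgroup Ω, R ≤ S → (dAb K < dAb R ∨
      (dAb K = dAb R ∧ Nat.card K < Nat.card (thompsonSubgroupAOf R))) → F.Hom R ⊆ E.Hom R) :
    ∀ P, (normSys F K hK.1).Hom P ⊆ E.Hom P := by
  classical
  have hKS := hK.1
  set U := normalizerIn S K with hU
  have hUS : U ≤ S := normalizerIn_le S K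
  have := finite_of_le hUS
  have := finite_of_le hKS
  set N := normSys F K hKS with hN
  have hNsat : N.IsSaturated p := normSys_saturated hS hF hK
  have hUp : IsPGroup p U := hS.to_le hUS
  set E' := interSys hUS N E with hE'
  suffices h : N ≤ E' from fun P φ hφ => (h P hφ).2
  -- the normal subgroup generated by the conjugates of the `p`-th powers
  obtain ⟨A, hA, hAK, hAN⟩ := exists_quadratic_maxAb hS hKS hout
  obtain ⟨hKA, hKR⟩ := fullyNormalized_props hS hF hK
  obtain ⟨T, hT⟩ := hKA.2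
  have := finite_mulAut hKS
  letI : CommGroup (Subgroup.center K) :=
    { (inferInstance : Group (Subgroup.center K)) with
      mul_comm := fun a b => Subtype.ext ((Subgroup.mem_center_iff.1 b.2) a.1) }
  let ρ : F.autGroup K →* MulAut (Subgroup.center K) := (centerRes K).comp (F.autGroup K).subtype
  have hρ : ∀ (h : F.autGroup K) (v : Subgroup.center K), ((ρ h v : Subgroup.center K) : K) = (h : MulAut K) v :=
    fun _ _ => rfl
  let orb : Set Ω := {y | ∃ (h : F.autGroup K) (v : Subgroup.center K),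
    ((v : K) : Ω) ∈ S ⊓ Subgroup.centralizer (S : Set Ω) ∧ y = (((ρ h v) ^ p : Subgroup.center K) : K)}
  set M := Subgroup.closure orb with hM
  have horbK : ∀ y ∈ orb, y ∈ centerImg K := by
    rintro _ ⟨h, v, -, rfl⟩
    exact ⟨_, ((ρ h v) ^ p).2, rfl⟩
  have hMK : M ≤ K := ((Subgroup.closure_le _).2 horbK).trans (Subgroup.map_subtype_le _)
  have hMinv : ∀ κ ∈ F.autGroup K, ∀ m : K, (m : Ω) ∈ M → ((κ m : K) : Ω) ∈ M := by
    intro κ hκ m hm
    have hle : M ≤ ((M.subgroupOf K).comap κ.toMonoidHom).map K.subtype := by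
      refine (Subgroup.closure_le _).2 ?_
      rintro _ ⟨h, v, hv, rfl⟩
      refine ⟨(((ρ h v) ^ p : Subgroup.center K) : K), ?_, rfl⟩
      show ((κ (((ρ h v) ^ p : Subgroup.center K) : K) : K) : Ω) ∈ M
      refine Subgroup.subset_closure ⟨⟨κ, hκ⟩ * h, v, hv, ?_⟩
      rw [map_mul, MulAut.mul_apply, ← map_pow (ρ ⟨κ, hκ⟩)]
      rfl
    obtain ⟨m', hm', he⟩ := hle hm
    rw [show m = m' from Subtype.ext he.symm]
    exact hm'
  have hKU : K ≤ U := le_normalizerIn hKS
  have hMn : N.IsNormal M := by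
    refine isNormal_iff.2 ⟨hMK.trans hKU, fun P φ hφ => extendsOver_top_iff.2 ?_⟩
    obtain ⟨ψ, hψ, hψP, κ, hκ, hκv⟩ := isNormal_aut (normSys_isNormal hKS) hφ
    have hκF : κ ∈ F.autGroup K := (mem_autGroup hKS).2
      (mem_of_agree le_sup_right hψ.1 fun x => (hκv x).symm)
    have hle : P ⊔ M ≤ P ⊔ K := sup_le_sup_left hMK P
    refine ⟨_, restrict_mem hle hψ, fun x => hψP x, ?_⟩
    have := finite_of_le (hMK.trans hKS)
    refine Fusion.eq_of_le_of_natCard_le ?_ ?_
    · rintro _ ⟨x, hx, rfl⟩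
      show ψ (Subgroup.inclusion le_sup_right (⟨x, hMK hx⟩ : K)) ∈ M
      rw [hκv]
      exact hMinv κ hκF ⟨x, hMK hx⟩ hx
    · rw [Subgroup.card_map_of_injective (N.injective_of_mem (restrict_mem hle hψ)),
        Nat.card_congr (Subgroup.subgroupOfEquivOfLe (le_sup_right : M ≤ P ⊔ M)).toEquiv]
  -- the powers of central elements lie in it
  have hZM : powerClosure p 1 (S ⊓ Subgroup.centralizer (S : Set Ω)) ≤ M := by
    refine (Subgroup.closure_le _).2 ?_
    rintro _ ⟨z, hz, rfl⟩
    refine Subgroup.subset_closure ⟨1, ⟨⟨z, hZK hz⟩, zpow_central hKS hz (hZK hz)⟩, hz, ?_⟩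
    rw [map_one, MulAut.one_apply, pow_one]
    simp
  -- a quadratic abelian subgroup centralizes it
  have hAM : A ≤ Subgroup.centralizer (M : Set Ω) := by
    rw [Subgroup.le_centralizer_iff, hM, Subgroup.closure_le]
    rintro _ ⟨h, v, hv, rfl⟩
    refine Subgroup.mem_centralizer_iff.2 fun a ha => ?_
    have haS : a ∈ S := hUS (hA.1 ha)
    have haN : a ∈ Subgroup.normalizer (K : Set Ω) := (hA.1 ha).2
    have hind := conjAut_mem_autInducedBy haS haN
    let a' : F.autGroup K := ⟨conjAut K haN, autInducedBy_le_autGroup hKS hind⟩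
    have ha' : ∀ w : Subgroup.center K, (((ρ a' w : Subgroup.center K) : K) : Ω) = a * ((w : K) : Ω) * a⁻¹ :=
      fun w => by rw [hρ]; exact conjAut_apply _ _ _
    have hfixT : ∀ t ∈ T, ρ t v = v := by
      intro t ht
      replace ht : t ∈ (T : Subgroup (F.autGroup K)) := ht
      rw [hT, Subgroup.mem_subgroupOf] at ht
      obtain ⟨g, hg, hgt⟩ := mem_autInducedBy.1 ht
      apply Subtype.ext
      apply Subtype.ext
      rw [hρ, hgt, Subgroup.mem_centralizer_iff.1 hv.2 g hg, mul_inv_cancel_right]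
    have hq : ∀ w, ρ a' (ρ a' w / w) = ρ a' w / w := by
      intro w
      apply Subtype.ext
      apply Subtype.ext
      rw [ha']
      have hd : (((ρ a' w / w : Subgroup.center K) : K) : Ω) = a * (w : K) * a⁻¹ * ((w : K) : Ω)⁻¹ := by
        rw [div_eq_mul_inv]
        show (((ρ a' w : Subgroup.center K) : K) : Ω) * _ = _
        rw [ha']; rfl
      rw [hd]
      have hwN := hAN (show ((w : K) : Ω) ∈ centerImg K from ⟨w, w.2, rfl⟩)
      have hw : a * ((w : K) : Ω) * a⁻¹ * ((w : K) : Ω)⁻¹ ∈ A := by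
        rw [mul_assoc, mul_assoc, ← mul_assoc ((w : K) : Ω)]
        exact A.mul_mem ha ((Subgroup.mem_normalizer_iff.1 hwN _).1 (A.inv_mem ha))
      have := hA.2.1
      rw [show a * _ = _ * a from congrArg Subtype.val (mul_comm' (⟨a, ha⟩ : A) ⟨_, hw⟩), mul_inv_cancel_right]
    have h1 := fix_pow_orbit_of_quadratic ((hS.to_le hKS).to_subgroup _) ρ T hfixT hq h
    have h2 := congrArg (fun w : Subgroup.center K => ((w : K) : Ω)) h1
    simp only [ha'] at h2
    exact mul_inv_eq_iff_eq_mul.1 h2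
  have hKM : K ≤ Subgroup.centralizer (M : Set Ω) := by
    rw [Subgroup.le_centralizer_iff, hM, Subgroup.closure_le]
    intro y hy
    obtain ⟨c, hc, rfl⟩ := horbK y hy
    exact Subgroup.mem_centralizer_iff.2 fun k hk => congrArg Subtype.val (Subgroup.mem_center_iff.1 hc ⟨k, hk⟩)
  -- overgroups of `K` and `A` are bigger
  have hbig2 : ∀ X : Subgroup Ω, K ≤ X → A ≤ X → X ≤ U → F.Hom X ⊆ E.Hom X := by
    intro X hKX hAX hXU
    have := finite_of_le (hXU.trans hUS)
    refine hfix X (hXU.trans hUS) ?_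
    rcases (dAb_mono hKX).lt_or_eq with h1 | h1
    · exact Or.inl h1
    refine Or.inr ⟨h1, ?_⟩
    have := finite_of_le ((thompson_le X).trans (hXU.trans hUS))
    have hKJ : K ≤ thompsonSubgroupAOf X := hJK ▸ thompson_mono hKX h1.ge
    have hAJ : A ≤ thompsonSubgroupAOf X :=
      maxAb_le_thompson (maxAb_of_card hAX hA.2.1 ((dAb_mono hXU).trans hA.card_eq.ge))
    refine lt_of_le_of_ne (Subgroup.card_le_of_le hKJ) fun hc => hAK ?_
    rw [Fusion.eq_of_le_of_natCard_le hKJ hc.ge]
    exact hAJ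
  refine le_of_aut hUp hNsat (fun α hα => ?_) fun R hR _ hbig α hα => ?_
  · have hα' := (mem_autGroup le_rfl).1 hα
    exact ⟨hα', hbig2 U hKU hA.1 le_rfl hα'.1⟩
  have hRU := hR.1
  have := finite_of_le hRU
  by_cases hMR : M ≤ R
  · refine aut_mem_of_quot (E := E') hUp hNsat (fun P φ h => h.1) hMn ?_ hR hMR hbig (fun γ hγ hfix' => ?_) α hα
    · intro P φ hφ
      obtain ⟨hφN, -, -, ψ, hψ, hψP, -⟩ := hφ
      refine ⟨hφN, ?_⟩
      have hψE : ψ ∈ E.Hom _ := hbig2 _
        ((show K ≤ centralizerIn U M from fun x hx => ⟨hKU hx, hKM hx⟩).trans (le_sup_right.trans le_sup_right))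
        ((show A ≤ centralizerIn U M from fun x hx => ⟨hA.1 hx, hAM hx⟩).trans (le_sup_right.trans le_sup_right))
        (src_le hψ) hψ.1
      exact mem_of_agree le_sup_left hψE fun x => (hψP x).symm
    · refine ⟨γ, ?_, fun x => by rw [inv_mul_cancel]; exact M.one_mem⟩
      have hγ' := (mem_autGroup hRU).1 hγ
      exact ⟨hγ', hCE R _ hγ'.1 (hZM.trans hMR) fun x hx => hfix' x (hZM hx)⟩
  · obtain ⟨ψ, hψ, hψR, -⟩ := isNormal_aut hMn ((mem_autGroup hRU).1 hα)
    have := finite_of_le (sup_le hRU hMn.1)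
    have hlt : Nat.card R < Nat.card (R ⊔ M : Subgroup Ω) :=
      lt_of_le_of_ne (Subgroup.card_le_of_le le_sup_left) fun hh =>
        hMR (le_trans le_sup_right (Fusion.eq_of_le_of_natCard_le le_sup_left hh.ge).ge)
    exact isIso_of_agree le_sup_left (hbig _ hlt hψ) fun x => (hψR x).symm

/-- Glauberman's generation theorem: the centralizer of the agemo subgroup of `Z(S)` and the normalizer of `J(S)`
generate the system. -/
theorem le_of_agemo_center_of_thompson [Finite S] [Fact p.Prime] (hS : IsPGroup p S) (hF : F.IsSaturated p)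
    {E : FusionSystem S}
    (hCE : ∀ (P : Subgroup Ω), ∀ φ ∈ F.Hom P, powerClosure p 1 (S ⊓ Subgroup.centralizer (S : Set Ω)) ≤ P →
      (∀ x : P, (x : Ω) ∈ powerClosure p 1 (S ⊓ Subgroup.centralizer (S : Set Ω)) → φ x = x) → φ ∈ E.Hom P)
    (hNE : Loc F E (thompsonSubgroupAOf S)) : F ≤ E := by
  classical
  by_contra hne
  let Fail : Subgroup Ω → Prop := fun P => ¬ F.Hom P ⊆ E.Hom P
  have hne' : {P | Fail P}.Nonempty := by
    by_contra h
    exact hne fun P => by_contra fun hP => h ⟨P, hP⟩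
  have hfin : {P | Fail P}.Finite := (finite_subgroups_le (S := S)).subset fun P (hP : Fail P) => by
    obtain ⟨φ, hφ, -⟩ := Set.not_subset.1 hP
    exact src_le hφ
  obtain ⟨P₀, hP₀, hmax⟩ := Set.exists_max_image _ (meas S) hfin hne'
  set m := meas S P₀ with hm
  have hfix : ∀ {R : Subgroup Ω}, m < meas S R → F.Hom R ⊆ E.Hom R := fun {R} hR =>
    by_contra fun h => (hmax R h).not_gt hR
  obtain ⟨φ, hφ, hφE⟩ := Set.not_subset.1 hP₀
  have hPS := src_le hφ
  have hJS : thompsonSubgroupAOf S ≤ S := thompson_le S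
  have hJn : S ≤ normalizerIn S (thompsonSubgroupAOf S) := le_normalizerIn le_rfl |>.trans (normalizerIn_le_thompson le_rfl)
  -- maps of subgroups with the Thompson subgroup of `S`
  have htop : ∀ {P Q : Subgroup Ω} (e : P ≃* Q), IsIso F e →
      thompsonSubgroupAOf P = thompsonSubgroupAOf S → IsIso E e := by
    intro P Q e he hJ
    have hPS := he.src_le
    have hQJ := thompson_eq_top_of_iso hPS he.tgt_le e hJ
    refine hNE P (mem_normalizerHom_of_self_map (hPS.trans hJn) hJS he
      (fun x => hJn (val_mem he x)) (X := P) (sup_le le_rfl (hJ ▸ thompson_le P)) he (fun x => rfl) fun v => ?_)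
    show ((e _ : Q) : Ω) ∈ _
    have h1 := thompson_map_iso e (x := ⟨v, (hJ ▸ thompson_le P) v.2⟩) (hJ.symm.le v.2)
    exact hQJ.le h1
  -- a fully normalized conjugate with a failing automorphism
  obtain ⟨Q, hPQ, hQ⟩ := exists_fullyNormalized (F := F) hPS
  have hQS := hQ.1
  have := finite_of_le hQS
  obtain ⟨f, hf⟩ := isConj_iff_iso.1 hPQ
  have hQm : meas S Q = m := by rw [← meas_iso hPS hQS f]
  obtain ⟨α, hα, hαE⟩ : ∃ α ∈ F.autGroup Q, ¬ IsIso E α := by
    by_contra hcon
    push Not at hcon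
    by_cases hP : P₀ = S
    · exact hφE (mem_of_agree le_rfl (htop (toIso φ hφ rfl) (isIso_toIso φ hφ rfl) (by rw [hP])) fun x => rfl)
    set P₂ := φ.range
    let g : P₀ ≃* P₂ := toIso φ hφ rfl
    have hg : IsIso F g := isIso_toIso φ hφ rfl
    have hP₂S := hg.tgt_le
    have key : ∀ {R : Subgroup Ω} (e : R ≃* Q), IsIso F e → R ≠ S → IsIso E e := by
      intro R e he hRne
      have hRS := he.src_le
      obtain ⟨γ, hγ, ψ, hψ, hψN, hψe⟩ := exists_extend_fullyNormalized hS hF hQ he
      obtain ⟨x, hx, hxR⟩ := exists_normalizerIn_not_mem hS (lt_of_le_of_ne hRS hRne)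
      have hlt : R < normalizerIn S R := lt_of_le_not_ge (le_normalizerIn hRS) fun h => hxR (h hx)
      have hψE := hfix (by
        rw [← hQm, ← meas_iso hRS hQS e]
        exact meas_lt_of_lt (normalizerIn_le S R) hlt) hψ
      have h1 : IsIso E (e.trans γ) := isIso_of_agree (le_normalizerIn hRS) hψE fun x => (hψe x _).symm
      have h2 := h1.trans (hcon γ hγ).symm
      convert h2 using 2
      ext x
      simp
    have hP₂ : P₂ ≠ S := fun h => hP (by
      have h1 : Nat.card P₀ = Nat.card P₂ := Nat.card_congr g.toEquiv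
      exact Fusion.eq_of_le_of_natCard_le hPS (by rw [h1, h]))
    have h2 : IsIso E (f.trans (g.symm.trans f).symm) :=
      (key f hf hP).trans (key _ (hg.symm.trans hf) hP₂).symm
    refine hφE (mem_of_agree le_rfl h2 fun x => ?_)
    simp [g]
  have hcen : ∀ R : Subgroup Ω, F.IsFullyNormalized R → meas S R = m →
      (∃ β ∈ F.autGroup R, ¬ IsIso E β) → centralizerIn S R ≤ R := by
    rintro R hR hRm ⟨β, hβ, hβE⟩ c hc
    by_contra hcR
    obtain ⟨-, hRR⟩ := fullyNormalized_props hS hF hR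
    have hβ' : IsIso F β := (mem_autGroup hR.1).1 hβ
    obtain ⟨χ, hχ, hχe⟩ := receptive_extend hRR hβ'
    have hlt : R < extender S R (R.subtype.comp β.toMonoidHom) := lt_of_le_of_ne (le_extender hβ') fun e =>
      hcR (e ▸ centralizerIn_le_extender S R _ hc)
    exact hβE (isIso_of_agree hlt.le
      (hfix (hRm ▸ meas_lt_of_lt ((extender_le _ _ _).trans (normalizerIn_le S R)) hlt) hχ)
      fun x => (hχe x _).symm)
  set J := thompsonSubgroupAOf Q with hJdef
  have hJQ : J ≤ Q := thompson_le Q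
  have hJS' : J ≤ S := hJQ.trans hQS
  rcases thompson_eq_or_lt hS hQS with ⟨h, -⟩ | hlarge
  · exact hαE (htop α ((mem_autGroup hQS).1 hα) h)
  have hNm : m < meas S (normalizerIn S J) := by
    rw [← hQm]
    exact meas_lt hQS (normalizerIn_le S J) (hlarge.imp_right (And.imp_right Or.inl))
  -- move `J` to a fully normalized conjugate
  obtain ⟨K, hJKc, hK⟩ := exists_fullyNormalized (F := F) hJS'
  have hKS := hK.1
  have := finite_of_le hKS
  obtain ⟨e, he⟩ := isConj_iff_iso.1 hJKc
  obtain ⟨γ, hγ, χ, hχ, hχN, hχe⟩ := exists_extend_fullyNormalized hS hF hK he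
  have hQN : Q ≤ normalizerIn S J := (le_normalizerIn hQS).trans (normalizerIn_le_thompson hQS)
  set Q' := (Q.subgroupOf (normalizerIn S J)).map χ with hQ'
  obtain ⟨e2, he2, he2v⟩ : ∃ e2 : Q ≃* Q', IsIso F e2 ∧ ∀ x : Q, (e2 x : Ω) = χ ⟨x, hQN x.2⟩ :=
    exists_iso_restrict hQN hχ
  have hQ'S : Q' ≤ S := he2.tgt_le
  have := finite_of_le hQ'S
  have he2E : IsIso E e2 := isIso_of_agree hQN (hfix hNm hχ) he2v
  set β : MulAut Q' := e2.symm.trans (α.trans e2) with hβdef
  have hβ : IsIso F β := he2.symm.trans (((mem_autGroup hQS).1 hα).trans he2)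
  have hβE : ¬ IsIso E β := by
    intro h
    refine hαE ?_
    have h' := (he2E.trans h).trans he2E.symm
    convert h' using 2
    ext x
    simp [hβdef]
  have hQ'fn : F.IsFullyNormalized Q' := by
    refine ⟨hQ'S, fun R hR => (hQ.2 R (isConj_trans (isConj_iff_iso.2 ⟨e2, he2⟩) hR)).trans ?_⟩
    have hsub : normalizerIn S Q ≤ normalizerIn S J := normalizerIn_le_thompson hQS
    have := finite_of_le (normalizerIn_le S Q')
    rw [← Nat.card_congr (Subgroup.subgroupOfEquivOfLe hsub).toEquiv,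
      ← Subgroup.card_map_of_injective (F.injective_of_mem hχ)]
    refine Subgroup.card_le_of_le ?_
    rintro _ ⟨g, hg, rfl⟩
    refine ⟨val_mem hχ g, mem_normalizer_of_conj_mem ?_⟩
    rintro _ ⟨x, hx, rfl⟩
    exact ⟨g * x * g⁻¹, (conj_mem_of_mem_normalizer (g := (g : Ω)) hg.2 hx : _), by rw [map_mul, map_mul, map_inv]⟩
  have hQ'm : meas S Q' = m := by rw [← meas_iso hQS hQ'S e2, hQm]
  have hKJ : thompsonSubgroupAOf Q' = K := by
    symm
    have := finite_of_le ((thompson_le Q').trans hQ'S)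
    refine Fusion.eq_of_le_of_natCard_le ?_ ?_
    · intro k hk
      set j := e.symm ((γ : MulAut K).symm ⟨k, hk⟩)
      have hjQ : (j : Ω) ∈ Q := thompson_le Q j.2
      have h1 := thompson_map_iso e2 (x := ⟨j, hjQ⟩) j.2
      rw [he2v] at h1
      rw [hχe j] at h1
      simpa [j] using h1
    · rw [← thompson_card_iso e2, Nat.card_congr e.toEquiv]
  have hKQ' : K ≤ Q' := hKJ ▸ thompson_le Q'
  have hC' := hcen Q' hQ'fn hQ'm ⟨β, (mem_autGroup hQ'S).2 hβ, hβE⟩
  have hZK : S ⊓ Subgroup.centralizer (S : Set Ω) ≤ K := fun z hz =>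
    hKJ ▸ mem_thompson_of_central hz hQ'S (hC' ⟨hz.1, Subgroup.centralizer_le hQ'S hz.2⟩)
  have hJK : thompsonSubgroupAOf K = K := by rw [← hKJ, thompson_thompson]
  have hdK : dAb K = dAb Q' := by rw [← hKJ, dAb_thompson]
  have hout : ∃ A, MaxAb A (normalizerIn S K) ∧ ¬ A ≤ K := by
    by_contra hcon
    push Not at hcon
    have := finite_of_le (normalizerIn_le S K)
    rcases thompson_eq_or_lt hS hQ'S with ⟨h1, -⟩ | h1
    · exact hαE (htop α ((mem_autGroup hQS).1 hα) (thompson_eq_top_of_iso hQ'S hQS e2.symm h1))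
    rw [hKJ] at h1
    obtain ⟨B, hB⟩ := exists_maxAb (normalizerIn S K)
    have hd : dAb (normalizerIn S K) ≤ dAb Q' := by
      rw [← hdK, ← hB.card_eq]; exact card_le_dAb (hcon B hB) hB.2.1
    rcases h1 with h1 | ⟨-, h1⟩
    · exact hd.not_gt h1
    · exact (Subgroup.card_le_of_le (thompson_le_of_maxAb hcon)).not_gt h1
  refine hβE (normalizer_le_of_big hS hF hCE hK hJK hZK hout (fun R hR h => hfix ?_) Q' ?_)
  · rw [← hQ'm]
    refine meas_lt hQ'S hR ?_
    rw [← hdK, hKJ]
    exact h.imp_right (And.imp_right Or.inl)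
  · have hQ'N : Q' ≤ normalizerIn S K :=
      (le_normalizerIn hQ'S).trans (hKJ ▸ normalizerIn_le_thompson hQ'S)
    rw [normSys_isNormalizerSystem hKS]
    refine mem_normalizerHom_of_self_map hQ'N hKS hβ (fun x => hQ'N (β x).2) (X := Q')
      (sup_le le_rfl hKQ') hβ (fun x => rfl) fun v => ?_
    have h1 := thompson_map_iso β (x := ⟨v, hKQ' v.2⟩) (by rw [hKJ]; exact v.2)
    rw [hKJ] at h1
    exact h1

end Cfsg.Agent.Lib.LocalP2
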