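import Cfsg.Agent.Lib.LocalP2.FusionFunctor

/-! Control of weak closure of central elements (helper19). -/

set_option autoImplicit false

namespace Cfsg.Agent.Lib.LocalP2

open Cfsg Cfsg.FusionSystem Cfsg.Agent.Lib.Fusion

universe u

/-- `E` consists of the maps of `F` extending to a map fixing the central element `z`. -/
def FixAdm {Ω : Type u} [Group Ω] {S : Subgroup Ω} (D : Subgroup Ω) (F E : FusionSystem S) : Prop :=
  D = S ∧ ∃ z ∈ S, (∀ g ∈ S, g * z = z * g) ∧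
    ∀ P φ, φ ∈ E.Hom P ↔ φ ∈ F.Hom P ∧ ExtendsOver F (Subgroup.zpowers z) ⊥ φ

variable {Ω : Type u} [Group Ω] {S : Subgroup Ω} {F : FusionSystem S} {p : ℕ}

theorem central_normalizes {z : Ω} (hzc : ∀ g ∈ S, g * z = z * g) {g : Ω} (hg : g ∈ S) :
    ∃ h : g ∈ Subgroup.normalizer (Subgroup.zpowers z : Set Ω),
      conjAut (Subgroup.zpowers z) h ∈ (⊥ : Subgroup (MulAut (Subgroup.zpowers z))) := by
  have hfix : ∀ x ∈ Subgroup.zpowers z, g * x * g⁻¹ = x := by
    rintro x ⟨k, rfl⟩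
    show g * z ^ k * g⁻¹ = z ^ k
    rw [((show Commute g z from hzc g hg).zpow_right k).eq, mul_inv_cancel_right]
  have h : g ∈ Subgroup.normalizer (Subgroup.zpowers z : Set Ω) := by
    refine Subgroup.mem_normalizer_iff.2 fun x => ⟨fun hx => by rwa [hfix x hx], fun hx => ?_⟩
    have h1 := hfix _ hx
    have h2 : g * x * g⁻¹ = x := by simpa using h1
    rwa [h2] at hx
  exact ⟨h, Subgroup.mem_bot.2 (MulEquiv.ext fun x => Subtype.ext (by
    rw [conjAut_apply, hfix x x.2, MulAut.one_apply]))⟩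

/-- The system of maps extending to a map fixing `z`. -/
def fixSys (F : FusionSystem S) {z : Ω} (hz : z ∈ S) (hzc : ∀ g ∈ S, g * z = z * g) : FusionSystem S :=
  extSystem F S (Subgroup.zpowers z) ⊥ le_rfl (Subgroup.zpowers_le.2 hz) fun _ hg => central_normalizes hzc hg

theorem fixSys_adm (F : FusionSystem S) {z : Ω} (hz : z ∈ S) (hzc : ∀ g ∈ S, g * z = z * g) :
    FixAdm S F (fixSys F hz hzc) :=
  ⟨rfl, z, hz, hzc, fun _ _ => ⟨fun h => ⟨h.1, h.2.2.2⟩, fun h => ⟨h.1, src_le h.1, val_mem h.1, h.2⟩⟩⟩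

variable (W : ∀ (Q : Type u) [Group Q], Subgroup Q)

theorem adm_fix [Fact p.Prime]
    (hW2 : ∀ (Q R : Type u) [Group Q] [Group R] [Finite Q], IsPGroup p Q → ∀ φ : Q ≃* R,
      (W Q).map φ.toMonoidHom = W R)
    (hWZ : ∀ (Q : Type u) [Group Q] [Finite Q], IsPGroup p Q → Subgroup.center Q ≤ W Q)
    (hC : ∀ (G : Type u) [Group G] [Finite G] (P : Sylow p G), pCore p G ⊓ Subgroup.center G =
      pCore p G ⊓ (Subgroup.center ↥(Subgroup.normalizer (wOn W (P : Subgroup G) : Set G))).map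
        (Subgroup.normalizer (wOn W (P : Subgroup G) : Set G)).subtype) :
    Adm p (@wOn W) (@FixAdm) where
  le := by
    rintro Ω _ S D F E ⟨-, z, -, -, hE⟩ P φ hφ
    exact ((hE P φ).1 hφ).1
  closed := by
    rintro Ω _ S D F E ⟨rfl, -⟩
    exact stronglyClosed_self
  descend := by
    rintro Ω _ S D _ F E hS hF ⟨rfl, z, hz, hzc, hE⟩ V hV
    have := finite_of_le hV.1
    have hzT : z ∈ normalizerIn D V := ⟨hz, mem_normalizer_of_conj_mem fun x hx => by
      rw [← hzc x (hV.1 hx), mul_inv_cancel_right]; exact hx⟩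
    have hT : D ⊓ normalizerIn D V = normalizerIn D V := inf_eq_right.2 (normalizerIn_le D V)
    have hzc' : ∀ g ∈ normalizerIn D V, g * z = z * g := fun g hg => hzc g hg.1
    refine ⟨fixSys (normSys F V hV.1) hzT hzc', by rw [hT]; exact fixSys_adm _ hzT hzc', fun P φ hφ => ?_,
      fun P φ hφ hφE hψ => ?_⟩
    · obtain ⟨hφ', -, -, ψ, hψ, hψP, κ, hκ, hψz⟩ := hφ
      exact (hE P φ).2 ⟨hφ'.1, ψ, hψ.1, hψP, κ, hκ, hψz⟩
    · obtain ⟨ψ, hψE, hψP, hψV⟩ := hψ
      obtain ⟨hψF, hext⟩ := (hE _ ψ).1 hψE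
      obtain ⟨χ, hχ, hχψ, hχz⟩ := extendsOver_bot_iff.1 hext
      refine ⟨hφ, hφ.2.1, hφ.2.2.1, extendsOver_bot_iff.2 ?_⟩
      have hle : P ⊔ Subgroup.zpowers z ≤ P ⊔ V ⊔ Subgroup.zpowers z :=
        sup_le_sup_right le_sup_left _
      refine ⟨χ.comp (Subgroup.inclusion hle), ?_, fun x => ?_, fun x => hχz x⟩
      · have hPT : P ⊔ Subgroup.zpowers z ≤ normalizerIn D V := sup_le hφ.2.1 (Subgroup.zpowers_le.2 hzT)
        have hval : ∀ x, (χ.comp (Subgroup.inclusion hle)) x ∈ normalizerIn D V := sup_map_le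
          (fun x => by
            show χ (Subgroup.inclusion le_sup_left (Subgroup.inclusion le_sup_left x)) ∈ _
            rw [hχψ, hψP]; exact hφ.2.2.1 x)
          (fun x => by
            show χ (Subgroup.inclusion le_sup_right x) ∈ _
            rw [hχz]; exact Subgroup.zpowers_le.2 hzT x.2)
        rw [normSys_isNormalizerSystem hV.1]
        refine mem_normalizerHom_of_self_map hPT hV.1 (restrict_mem hle hχ) hval
          (X := P ⊔ V ⊔ Subgroup.zpowers z) (sup_le hle (le_sup_right.trans le_sup_left)) hχ (fun x => rfl) fun v => ?_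
        show χ (Subgroup.inclusion le_sup_left (Subgroup.inclusion le_sup_right v)) ∈ V
        rw [hχψ]
        exact hψV v
      · show χ (Subgroup.inclusion le_sup_left (Subgroup.inclusion le_sup_left x)) = φ x
        rw [hχψ, hψP]
  constrained := by
    rintro Ω _ S D _ F E hS hFc ⟨rfl, z, hz, hzc, hE⟩ hyp
    obtain ⟨G, _, ι, hmod⟩ := exists_model hS hFc
    obtain ⟨hfin, ⟨hι, hreal⟩, ⟨T, hT⟩, hCG⟩ := hmod
    set w := wOn W D with hw
    have hwS : w ≤ D := wOn_le W D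
    have := finite_of_le hwS
    set z' : G := ι ⟨z, hz⟩ with hz'
    have hQT : ∀ y ∈ pCore p G, y ∈ (T : Subgroup G) := fun y hy =>
      (Hall.pCore_le_sylow T) hy
    have hzQ : z' ∈ pCore p G := hCG (Subgroup.mem_centralizer_iff.2 fun y hy => by
      obtain ⟨x, rfl⟩ : y ∈ ι.range := hT ▸ hQT y hy
      rw [hz', ← map_mul, ← map_mul]
      exact congrArg ι (Subtype.ext (hzc x x.2)))
    have hzw : z ∈ w := ⟨⟨z, hz⟩, hWZ ↥D hS (Subgroup.mem_center_iff.2 fun g => Subtype.ext (hzc g g.2)), rfl⟩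
    have hwT : wOn W (T : Subgroup G) = (w.subgroupOf D).map ι := wOn_model hW2 hS hι hT
    set N := Subgroup.normalizer (wOn W (T : Subgroup G) : Set G) with hN
    have hzN : z' ∈ N := by
      refine Subgroup.le_normalizer ?_
      rw [hwT]
      exact ⟨_, hzw, rfl⟩
    -- elements of `N` centralize `z'`
    have hcomm : ∀ g ∈ N, g * z' = z' * g := by
      intro g hg
      let eD : D ≃* ι.range := MonoidHom.ofInjective hι
      have hmem : ∀ x : w, g * ι ⟨x, hwS x.2⟩ * g⁻¹ ∈ (w.subgroupOf D).map ι := fun x => by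
        rw [← hwT]
        refine conj_mem_of_mem_normalizer hg ?_
        rw [hwT]
        exact ⟨_, x.2, rfl⟩
      let φ : w →* Ω := D.subtype.comp (eD.symm.toMonoidHom.comp
        (((MulAut.conj g).toMonoidHom.comp (ι.comp (Subgroup.inclusion hwS))).codRestrict ι.range
          fun x => Subgroup.map_le_range ι _ (hmem x)))
      have hφv : ∀ x : w, φ x ∈ D := fun x => (eD.symm _).2
      have hφι : ∀ x : w, ι ⟨φ x, hφv x⟩ = g * ι ⟨x, hwS x.2⟩ * g⁻¹ := fun x =>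
        congrArg Subtype.val (eD.apply_symm_apply ⟨_, Subgroup.map_le_range ι _ (hmem x)⟩)
      have hφ : φ ∈ F.Hom w := (hreal w hwS φ hφv).2 ⟨g, hφι⟩
      have hφw : ∀ x : w, φ x ∈ w := fun x => by
        obtain ⟨y, hy, hye⟩ := hmem x
        rw [← hφι x] at hye
        rw [show φ x = (y : Ω) from (congrArg Subtype.val (hι hye)).symm]
        exact hy
      have hn : w ≤ normalizerIn D w := le_normalizerIn hwS
      obtain ⟨-, hext⟩ := (hE w φ).1 (hyp w (mem_normalizerHom_of_self_map hn hwS hφ (fun x => hn (hφw x))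
        (sup_le le_rfl le_rfl) hφ (fun x => rfl) hφw))
      obtain ⟨ψ, -, hψw, hψz⟩ := extendsOver_bot_iff.1 hext
      have h1 : φ ⟨z, hzw⟩ = z :=
        (hψw ⟨z, hzw⟩).symm.trans (hψz ⟨z, Subgroup.mem_zpowers z⟩)
      have h2 : g * z' * g⁻¹ = z' := by
        rw [hz', ← hφι ⟨z, hzw⟩]
        exact congrArg ι (Subtype.ext h1)
      exact mul_inv_eq_iff_eq_mul.1 h2
    have hzZ : z' ∈ Subgroup.center G := by
      have h1 : z' ∈ pCore p G ⊓ (Subgroup.center ↥N).map N.subtype :=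
        ⟨hzQ, ⟨z', hzN⟩, Subgroup.mem_center_iff.2 fun g => Subtype.ext (hcomm g g.2), rfl⟩
      rw [hN, ← hC G T] at h1
      exact h1.2
    intro P φ hφ
    refine (hE P φ).2 ⟨hφ, extendsOver_bot_iff.2 ?_⟩
    obtain ⟨g, hg⟩ := (hreal P (src_le hφ) φ (val_mem hφ)).1 hφ
    set X := P ⊔ Subgroup.zpowers z with hX
    have hXD : X ≤ D := sup_le (src_le hφ) (Subgroup.zpowers_le.2 hz)
    let f : X →* G := (MulAut.conj g).toMonoidHom.comp (ι.comp (Subgroup.inclusion hXD))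
    have hf : ∀ x, f x ∈ ι.range := fun x => by
      refine sup_induction (p := fun x => f x ∈ ι.range) (fun a => ⟨_, hg a⟩) ?_
        (fun a b ha hb => by rw [map_mul]; exact ι.range.mul_mem ha hb)
        (fun a ha => by rw [map_inv]; exact ι.range.inv_mem ha) x
      rintro ⟨a, k, rfl⟩
      refine ⟨⟨z, hz⟩ ^ k, ?_⟩
      show ι (⟨z, hz⟩ ^ k) = g * ι ⟨z ^ k, _⟩ * g⁻¹
      have h1 : (⟨z ^ k, D.zpow_mem hz k⟩ : D) = ⟨z, hz⟩ ^ k := Subtype.ext (by simp)
      rw [show (⟨z ^ k, _⟩ : D) = ⟨z, hz⟩ ^ k from h1, map_zpow, ← hz',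
        ((show Commute g z' from Subgroup.mem_center_iff.1 hzZ g).zpow_right k).eq, mul_inv_cancel_right]
    let ψ : X →* Ω := D.subtype.comp ((MonoidHom.ofInjective hι).symm.toMonoidHom.comp (f.codRestrict _ hf))
    have hψv : ∀ x, ψ x ∈ D := fun x => ((MonoidHom.ofInjective hι).symm _).2
    have hψι : ∀ x, ι ⟨ψ x, hψv x⟩ = g * ι ⟨x, hXD x.2⟩ * g⁻¹ := fun x =>
      congrArg Subtype.val ((MonoidHom.ofInjective hι).apply_symm_apply ⟨f x, hf x⟩)
    refine ⟨ψ, (hreal X hXD ψ hψv).2 ⟨g, hψι⟩, fun x => ?_, fun x => ?_⟩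
    · exact congrArg Subtype.val (hι ((hψι _).trans (hg x).symm) :
        (⟨ψ (Subgroup.inclusion le_sup_left x), hψv _⟩ : D) = ⟨φ x, val_mem hφ x⟩)
    · obtain ⟨k, hk⟩ := x.2
      have hxD : (x : Ω) ∈ D := hXD (le_sup_right (a := P) x.2)
      refine congrArg Subtype.val (hι ((hψι _).trans ?_) :
        (⟨ψ (Subgroup.inclusion le_sup_right x), hψv _⟩ : D) = ⟨x, hxD⟩)
      show g * ι ⟨x, hxD⟩ * g⁻¹ = ι ⟨x, hxD⟩
      rw [show (⟨x, hxD⟩ : D) = ⟨z, hz⟩ ^ k from Subtype.ext (by simp [← hk]), map_zpow, ← hz',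
        ((show Commute g z' from Subgroup.mem_center_iff.1 hzZ g).zpow_right k).eq, mul_inv_cancel_right]
  quot := by
    rintro Ω _ S D _ F E hS hF ⟨rfl, z, hz, hzc, hE⟩ C hCcl hCn _ hker hθ
    classical
    set θ := QuotientGroup.mk' (C.subgroupOf D) with hθdef
    set Fb := factorSystem F hCcl θ hker ⊤ hθ
    set zb := θ ⟨z, hz⟩ with hzb
    have hzbT : zb ∈ (⊤ : Subgroup (D ⧸ C.subgroupOf D)) := Subgroup.mem_top _
    have hzbc : ∀ g ∈ (⊤ : Subgroup (D ⧸ C.subgroupOf D)), g * zb = zb * g := by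
      intro g _
      obtain ⟨s, rfl⟩ := QuotientGroup.mk'_surjective _ g
      rw [hzb, ← map_mul, ← map_mul]
      exact congrArg θ (Subtype.ext (hzc s s.2))
    have him : imageAlong θ D = ⊤ := top_unique fun y _ => by
      obtain ⟨s, rfl⟩ := QuotientGroup.mk'_surjective (C.subgroupOf D) y
      exact mem_imageAlong.2 ⟨s, s.2, rfl⟩
    refine ⟨fixSys Fb hzbT hzbc, by rw [him]; exact fixSys_adm Fb hzbT hzbc, ?_, ?_⟩
    · intro P' φ hφ φ' hφ'
      obtain ⟨hφF, hext⟩ := (hE _ φ).1 hφ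
      obtain ⟨χ, hχ, hχφ, hχz⟩ := extendsOver_bot_iff.1 hext
      set X' := P' ⊔ Subgroup.zpowers zb with hX'
      have hXle : preimageAlong θ X' ≤ preimageAlong θ P' ⊔ Subgroup.zpowers z := by
        intro x hx
        obtain ⟨hxS, hxX⟩ := mem_preimageAlong.1 hx
        obtain ⟨a, ha, b, hb, hab⟩ := mem_sup_of_normalizes (N := Subgroup.zpowers zb)
          (fun g _ => (central_normalizes hzbc (Subgroup.mem_top g)).1) hxX
        obtain ⟨k, rfl⟩ := hb
        have h1 : x * (z ^ k)⁻¹ ∈ preimageAlong θ P' := mem_preimageAlong.2 ⟨D.mul_mem hxS (D.inv_mem (D.zpow_mem hz k)), by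
          rw [show (⟨x * (z ^ k)⁻¹, _⟩ : D) = ⟨x, hxS⟩ * (⟨z, hz⟩ ^ k)⁻¹ from Subtype.ext (by simp),
            map_mul, map_inv, map_zpow, ← hab, ← hzb, mul_inv_cancel_right]
          exact ha⟩
        have := Subgroup.mul_mem_sup h1 (Subgroup.zpow_mem _ (Subgroup.mem_zpowers z) k)
        simpa using this
      have hχr := restrict_mem hXle hχ
      obtain ⟨χ', hχ'⟩ := exists_induced hCcl hker (hθ.symm ▸ le_top : X' ≤ θ.range) hχr
      have hφ'F : φ' ∈ Fb.Hom P' := ⟨le_top, φ, hφF, hφ'⟩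
      refine ⟨hφ'F, le_top, fun _ => Subgroup.mem_top _, extendsOver_bot_iff.2
        ⟨χ', ⟨le_top, _, hχr, hχ'⟩, ?_, ?_⟩⟩
      · obtain ⟨a₁, a₂, a₃, ae⟩ := hφ'
        obtain ⟨b₁, b₂, b₃, be⟩ := hχ'
        intro y
        obtain ⟨x, hx⟩ := exists_lift (hθ.symm ▸ le_top : P' ≤ θ.range) y
        have hxX : (x : Ω) ∈ preimageAlong θ X' := by
          obtain ⟨h1, h2⟩ := mem_preimageAlong.1 x.2
          exact mem_preimageAlong.2 ⟨h1, Subgroup.mem_sup_left h2⟩
        calc χ' (Subgroup.inclusion le_sup_left y) = χ' ⟨_, b₃ ⟨x, hxX⟩⟩ := congrArg χ' (Subtype.ext hx.symm)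
          _ = θ ⟨_, b₂ ⟨x, hxX⟩⟩ := be ⟨x, hxX⟩
          _ = θ ⟨φ x, a₂ x⟩ := congrArg θ (Subtype.ext (hχφ x))
          _ = φ' ⟨_, a₃ x⟩ := (ae x).symm
          _ = φ' y := congrArg φ' (Subtype.ext hx)
      · obtain ⟨b₁, b₂, b₃, be⟩ := hχ'
        rintro ⟨y, k, rfl⟩
        have hzX : z ^ k ∈ preimageAlong θ X' := mem_preimageAlong.2 ⟨D.zpow_mem hz k, Subgroup.mem_sup_right ⟨k, by
          show zb ^ k = θ _
          rw [show (⟨z ^ k, D.zpow_mem hz k⟩ : D) = ⟨z, hz⟩ ^ k from Subtype.ext (by simp), map_zpow]⟩⟩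
        have hzk : θ ⟨z ^ k, D.zpow_mem hz k⟩ = zb ^ k := by
          rw [show (⟨z ^ k, D.zpow_mem hz k⟩ : D) = ⟨z, hz⟩ ^ k from Subtype.ext (by simp), map_zpow]
        calc χ' (Subgroup.inclusion le_sup_right ⟨zb ^ k, k, rfl⟩) = χ' ⟨_, b₃ ⟨_, hzX⟩⟩ :=
              congrArg χ' (Subtype.ext hzk.symm)
          _ = θ ⟨_, b₂ ⟨_, hzX⟩⟩ := be ⟨_, hzX⟩
          _ = θ ⟨z ^ k, D.zpow_mem hz k⟩ := congrArg θ (Subtype.ext
              (hχz ⟨z ^ k, k, rfl⟩))
          _ = zb ^ k := hzk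
    · intro R hR hCR γ hγ hfix hin
      have hRS := hR.1
      refine ⟨γ, (hE R _).2 ⟨(mem_autGroup hRS).1 hγ, ?_⟩, fun x => by rw [inv_mul_cancel]; exact C.one_mem⟩
      obtain ⟨-, hRR⟩ := fullyNormalized_props hS hF hR
      obtain ⟨χ, hχ, hχe⟩ := receptive_extend hRR ((mem_autGroup hRS).1 hγ : IsIso F γ)
      have hzN : z ∈ extender D R (R.subtype.comp γ.toMonoidHom) :=
        centralizerIn_le_extender D R _ (mem_centralizerIn.2 ⟨hz, fun x hx => hzc x (hRS hx)⟩)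
      set X := R ⊔ Subgroup.zpowers z with hX
      have hXN : X ≤ extender D R (R.subtype.comp γ.toMonoidHom) :=
        sup_le (le_extender ((mem_autGroup hRS).1 hγ)) (Subgroup.zpowers_le.2 hzN)
      set χ₀ := χ.comp (Subgroup.inclusion hXN) with hχ₀
      have hχ₀F : χ₀ ∈ F.Hom X := restrict_mem hXN hχ
      have hχ₀R : ∀ x : R, χ₀ (Subgroup.inclusion le_sup_left x) = γ x := fun x => hχe x _
      refine extendsOver_bot_iff.2 ⟨χ₀, hχ₀F, hχ₀R, ?_⟩
      suffices hmain : χ₀ ⟨z, le_sup_right (a := R) (Subgroup.mem_zpowers z)⟩ = z by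
        rintro ⟨a, k, rfl⟩
        rw [show Subgroup.inclusion (le_sup_right : Subgroup.zpowers z ≤ X) ⟨z ^ k, k, rfl⟩ =
          ⟨z, le_sup_right (a := R) (Subgroup.mem_zpowers z)⟩ ^ k from Subtype.ext (by simp), map_zpow, hmain]
      -- `χ₀ z ≡ z` modulo `C`
      have hXD : X ≤ D := sup_le hRS (Subgroup.zpowers_le.2 hz)
      have hpre : preimageAlong θ (imageAlong θ X) ≤ X :=
        (preimage_imageAlong_le hker X).trans (sup_le le_rfl (hCR.trans le_sup_left))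
      have hχp := restrict_mem hpre hχ₀F
      obtain ⟨χ', hχ'⟩ := exists_induced hCcl hker (imageAlong_le_range θ X) hχp
      obtain ⟨-, -, -, hext'⟩ := hin _ (show χ' ∈ Fb.Hom _ from ⟨le_top, _, hχp, hχ'⟩)
      obtain ⟨ψ', -, hψ', hψ'z⟩ := extendsOver_bot_iff.1 hext'
      obtain ⟨b₁, b₂, b₃, be⟩ := hχ'
      have hzX : z ∈ X := le_sup_right (a := R) (Subgroup.mem_zpowers z)
      have hzpre : z ∈ preimageAlong θ (imageAlong θ X) :=
        mem_preimageAlong.2 ⟨hz, mem_imageAlong.2 ⟨_, hzX, rfl⟩⟩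
      have hzmod : θ ⟨χ₀ ⟨z, hzX⟩, val_mem hχ₀F _⟩ = θ ⟨z, hz⟩ := by
        calc θ ⟨χ₀ ⟨z, hzX⟩, val_mem hχ₀F _⟩ = χ' ⟨_, b₃ ⟨z, hzpre⟩⟩ := (be ⟨z, hzpre⟩).symm
          _ = ψ' (Subgroup.inclusion le_sup_left ⟨zb, b₃ ⟨z, hzpre⟩⟩) := (hψ' _).symm
          _ = ψ' (Subgroup.inclusion le_sup_right ⟨zb, Subgroup.mem_zpowers zb⟩) := rfl
          _ = zb := hψ'z _
      have hcmem : z⁻¹ * χ₀ ⟨z, hzX⟩ ∈ C := by
        refine (hker (⟨z, hz⟩⁻¹ * ⟨χ₀ ⟨z, hzX⟩, val_mem hχ₀F _⟩)).1 ?_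
        rw [map_mul, map_inv, hzmod, inv_mul_cancel]
      -- the automorphism induced on `C⟨z⟩` stabilizes a chain
      set Y := C ⊔ Subgroup.zpowers z with hY
      have hYX : Y ≤ X := sup_le (hCR.trans le_sup_left) le_sup_right
      have hYD : Y ≤ D := hYX.trans hXD
      have := finite_of_le hYD
      have := finite_of_le hCn.1
      have hself : ∀ x : Y, (x : Ω)⁻¹ * χ₀ ⟨x, hYX x.2⟩ ∈ C := by
        intro x
        refine sup_induction (p := fun x : ↥Y => (x : Ω)⁻¹ * χ₀ ⟨x, hYX x.2⟩ ∈ C) (fun c => ?_) ?_ ?_ ?_ x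
        · show (c : Ω)⁻¹ * χ₀ (Subgroup.inclusion le_sup_left (⟨c, hCR c.2⟩ : R)) ∈ C
          rw [hχ₀R, hfix ⟨c, hCR c.2⟩ c.2, inv_mul_cancel]
          exact C.one_mem
        · rintro ⟨a, k, rfl⟩
          have hk : χ₀ ⟨z ^ k, hYX (le_sup_right (a := C) ⟨k, rfl⟩)⟩ = χ₀ ⟨z, hzX⟩ ^ k := by
            rw [← map_zpow]; exact congrArg χ₀ (Subtype.ext (by simp))
          show (z ^ k)⁻¹ * χ₀ ⟨z ^ k, _⟩ ∈ C
          rw [hk]
          have hcm : Commute z⁻¹ (χ₀ ⟨z, hzX⟩) :=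
            ((show Commute (χ₀ ⟨z, hzX⟩) z from hzc _ (val_mem hχ₀F _)).symm).inv_left
          rw [← inv_zpow, ← hcm.mul_zpow]
          exact C.zpow_mem hcmem k
        · intro a b ha hb
          show ((a : Ω) * b)⁻¹ * χ₀ ⟨(a : Ω) * b, _⟩ ∈ C
          rw [show (⟨(a : Ω) * b, _⟩ : X) = ⟨a, hYX a.2⟩ * ⟨b, hYX b.2⟩ from rfl, map_mul]
          have hn := le_normalizer_of_stronglyClosed hCcl (hYD b.2)
          have h1 := conj_mem_of_mem_normalizer (inv_mem hn) ha
          have h2 := C.mul_mem h1 hb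
          convert h2 using 1
          group
        · intro a ha
          show ((a : Ω)⁻¹)⁻¹ * χ₀ ⟨(a : Ω)⁻¹, _⟩ ∈ C
          rw [show (⟨(a : Ω)⁻¹, _⟩ : X) = ⟨a, hYX a.2⟩⁻¹ from rfl, map_inv]
          have hn := le_normalizer_of_stronglyClosed hCcl (hYD a.2)
          have h1 := conj_mem_of_mem_normalizer hn (C.inv_mem ha)
          convert h1 using 1
          group
      have hYval : ∀ x : Y, χ₀ ⟨x, hYX x.2⟩ ∈ Y := fun x => by
        have := Y.mul_mem x.2 (le_sup_left (b := Subgroup.zpowers z) (hself x))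
        simpa using this
      obtain ⟨β, hβ, hβv⟩ := exists_aut_of_self_map (restrict_mem hYX hχ₀F) hYval
      have hnD : D ≤ Subgroup.normalizer (C : Set Ω) := le_normalizer_of_stronglyClosed hCcl
      have hYn : normalizerIn D Y = D := le_antisymm (normalizerIn_le D Y) fun g hg => ⟨hg,
        mem_normalizer_of_conj_mem fun x hx => by
          obtain ⟨c, hc, w, hw, rfl⟩ := mem_sup_of_normalizes
            (fun c hc => (central_normalizes hzc (hCn.1 hc)).1) hx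
          rw [← conj_mul]
          refine Subgroup.mul_mem_sup (conj_mem_of_mem_normalizer (hnD hg) hc) ?_
          exact conj_mem_of_mem_normalizer (central_normalizes hzc hg).1 hw⟩
      have hYfn : F.IsFullyNormalized Y := ⟨hYD, fun Q _ => by
        have := finite_of_le (normalizerIn_le D Y)
        rw [hYn]; exact Subgroup.card_le_of_le (normalizerIn_le D Q)⟩
      obtain ⟨T, hT⟩ := (fullyNormalized_props hS hF hYfn).1.2
      have := finite_mulAut hYD
      let Dch : ℕ → Subgroup Y := fun i => if i = 0 then ⊥ else if i = 1 then C.subgroupOf Y else ⊤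
      obtain ⟨K, hKn, hKp, hKmem⟩ := chainStabilizer (F.autGroup Y) 2 Dch (by simp [Dch]) (by simp [Dch])
        (by
          intro a ha i x hx
          rcases i with _ | _ | i
          · simp only [Dch, if_true, Subgroup.mem_bot] at hx ⊢
            rw [hx, map_one]
          · simp only [Dch, Nat.zero_add, one_ne_zero, if_false, if_true, Subgroup.mem_subgroupOf] at hx ⊢
            exact map_mem_of_stronglyClosed hCcl ((mem_autGroup hYD).1 ha) x hx
          · simp [Dch])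
        (hS.to_le hYD)
      have hβK : (⟨β, hβ⟩ : F.autGroup Y) ∈ K := by
        refine (hKmem _).2 fun i hi x hx => ?_
        rcases i with _ | _ | i
        · simp only [Dch, Nat.zero_add, one_ne_zero, if_false, if_true, Subgroup.mem_subgroupOf] at hx
          simp only [Dch, if_true, Subgroup.mem_bot, mul_inv_eq_one]
          refine Subtype.ext ((hβv x).trans ?_)
          exact (hχ₀R ⟨x, hCR hx⟩).trans (hfix ⟨x, hCR hx⟩ hx)
        · simp only [Dch, Nat.zero_add, one_ne_zero, if_false, if_true, Subgroup.mem_subgroupOf]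
          show ((β x : Y) : Ω) * (x : Ω)⁻¹ ∈ C
          have h1 := conj_mem_of_mem_normalizer (hnD (hYD x.2)) (hself x)
          rw [hβv x, MonoidHom.comp_apply]
          convert h1 using 1
          show χ₀ ⟨x, hYX x.2⟩ * (x : Ω)⁻¹ = _
          group
        · omega
      have hmemT := hKp.le_sylow_of_normal T hβK
      rw [hT, Subgroup.mem_subgroupOf] at hmemT
      obtain ⟨s, hs, hse⟩ := exists_of_mem_autInducedBy hmemT
      have h1 := hse ⟨z, le_sup_right (a := C) (Subgroup.mem_zpowers z)⟩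
      rw [hzc s (normalizerIn_le _ _ hs), mul_inv_cancel_right] at h1
      exact (hβv _).symm.trans h1

end Cfsg.Agent.Lib.LocalP2
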