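import Cfsg.Agent.Lib.LocalP2.RelativeZJ
import Cfsg.Agent.Lib.LocalP2.FusionZJ
import Cfsg.Agent.Lib.KInf.NPCSec
import Cfsg.Agent.S0659

/-! A relative Glauberman–Thompson theorem in characteristic `p` (helper19). -/

set_option autoImplicit false
open Subgroup
open scoped commutatorElement

namespace Cfsg.Agent.Lib.LocalP2

open Cfsg

universe u

theorem hasNormalPComplement_of_isPGroup {G : Type*} [Group G] [Finite G] {p : ℕ} [hp : Fact p.Prime]
    (h : IsPGroup p G) : HasNormalPComplement p G := by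
  rw [Lib.Transfer.hasNormalPComplement_iff, Lib.Transfer.pResidual_eq_bot h, card_bot]
  exact hp.out.not_dvd_one

theorem eq_top_of_normalizer_le {p : ℕ} [hp : Fact p.Prime] (hp2 : p ≠ 2)
    {W : ∀ {Ω : Type u} [Group Ω], Subgroup Ω → Subgroup Ω}
    (himg : ∀ {Ω : Type u} [Group Ω] {S D : Subgroup Ω} [Finite S] (_ : D ≤ S) {L : Type u} [Group L]
      {ι : S →* L}, Function.Injective ι → W ((D.subgroupOf S).map ι) = ((W D).subgroupOf S).map ι)
    (hle : ∀ {Ω : Type u} [Group Ω] (P : Subgroup Ω), W P ≤ P)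
    (hnorm : ∀ {L : Type u} [Group L] [Finite L] (T : Sylow p L) {D : Subgroup L},
      IsStronglyClosed D (T : Subgroup L) → centralizer (pCore p L : Set L) ≤ pCore p L →
      (∀ (P : Subgroup L) [P.Normal], IsPGroup p P → IsPStableOn p P) → (W D).Normal)
    (n : ℕ) : ∀ (G : Type u) [Group G] [Finite G] (T : Sylow p G) (D : Subgroup G), Nat.card G = n →
      IsStronglyClosed D (T : Subgroup G) → centralizer (pCore p G : Set G) ≤ pCore p G →
      normalizer (W D : Set G) ≤ (T : Subgroup G) → (T : Subgroup G) = ⊤ := by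
  induction n using Nat.strongRecOn with | ind n ih => ?_
  intro G _ _ T D hn hD hc hN
  classical
  by_contra hT
  have hQS := Hall.pCore_le_sylow (p := p) T
  -- the maximality of `T`
  have hmax : ∀ L : Subgroup G, (T : Subgroup G) ≤ L → L ≠ ⊤ → L = T := by
    intro L hL hne
    have hQL : pCore p G ≤ L := hQS.trans hL
    have hDL : D ≤ L := hD.1.trans hL
    have h1 : (pCore p G).subgroupOf L ≤ pCore p L :=
      Hall.le_pCore ((Hall.isPGroup_pCore p).comap_of_injective L.subtype L.subtype_injective)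
    have hcL : centralizer (pCore p L : Set L) ≤ pCore p L := fun x hx => h1 (by
      refine mem_subgroupOf.mpr (hc (mem_centralizer_iff.mpr fun y hy => ?_))
      exact congrArg Subtype.val (mem_centralizer_iff.mp hx ⟨y, hQL hy⟩ (h1 hy)))
    have hWL : W D ≤ L := (hle D).trans hDL
    have hTe := ih _ (hn ▸ Lib.Coprime.card_lt_of_ne_top hne) L (T.subtype hL) (D.subgroupOf L) rfl
      (by
        rw [Sylow.coe_subtype]
        exact ⟨comap_mono hD.1, fun x hx g hg => hD.2 x hx g hg⟩) hcL (by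
        have h2 := himg (S := L) (D := D) hDL (ι := MonoidHom.id L) Function.injective_id
        rw [Subgroup.map_id, Subgroup.map_id] at h2
        rw [h2, Sylow.coe_subtype]
        intro x hx
        refine mem_subgroupOf.mpr (hN (Fusion.mem_normalizer_of_conj_mem fun y hy => ?_))
        have h3 : x * ⟨y, hWL hy⟩ * x⁻¹ ∈ (W D).subgroupOf L := Fusion.conj_mem_of_mem_normalizer hx hy
        exact h3)
    rw [Sylow.coe_subtype, subgroupOf_eq_top] at hTe
    exact le_antisymm hTe hL
  set H := pCore p G with hH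
  have hHp : IsPGroup p H := Hall.isPGroup_pCore p
  set π := QuotientGroup.mk' H with hπd
  have hπ : Function.Surjective π := QuotientGroup.mk'_surjective H
  set Tb : Sylow p (G ⧸ H) := T.mapSurjective hπ
  have hTb : (Tb : Subgroup (G ⧸ H)) = (T : Subgroup G).map π := Sylow.coe_mapSurjective hπ T
  have hTb1 : (Tb : Subgroup (G ⧸ H)) ≠ ⊥ := by
    intro h
    rw [hTb, Subgroup.map_eq_bot_iff, QuotientGroup.ker_mk'] at h
    have e : (T : Subgroup G) = H := le_antisymm h hQS
    refine hT (top_le_iff.1 ((le_of_eq ?_).trans hN))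
    refine (Subgroup.eq_top_iff' _).2 (fun g => Fusion.mem_normalizer_of_conj_mem fun x hx => ?_) |>.symm
    have hgD : D.map (MulAut.conj g).toMonoidHom ≤ (T : Subgroup G) := by
      rintro _ ⟨y, hy, rfl⟩
      rw [e]
      exact (inferInstance : H.Normal).conj_mem y (e ▸ hD.1 hy) g
    have hge := eq_of_le_of_card_ge (closed_conj T hD le_rfl hgD)
      (card_map_of_injective (MulAut.conj g).injective).ge
    have := himg (S := (⊤ : Subgroup G)) (D := D) le_top (ι := (MulAut.conj g).toMonoidHom.comp (⊤ : Subgroup G).subtype)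
      ((MulAut.conj g).injective.comp Subtype.coe_injective)
    rw [← map_map, ← map_map, map_subgroupOf_eq_of_le le_top, map_subgroupOf_eq_of_le le_top, hge] at this
    rw [this]
    exact ⟨x, hx, rfl⟩
  have hcore : ∀ A : Subgroup (G ⧸ H), A.Normal → IsPGroup p A → A = ⊥ := by
    intro A hA hAp
    have h1 : A.comap π ≤ H := by
      have := hA.comap π
      exact Hall.le_pCore (hAp.comap_of_ker_isPGroup π (by rw [QuotientGroup.ker_mk']; exact hHp))
    rw [eq_bot_iff, ← map_comap_eq_self_of_surjective hπ A]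
    exact (map_mono h1).trans (QuotientGroup.map_mk'_self H).le
  have hmaxb : ∀ L : Subgroup (G ⧸ H), (Tb : Subgroup (G ⧸ H)) ≤ L → L ≠ ⊤ → L = Tb := by
    intro L hL hne
    rw [hTb] at hL ⊢
    rw [← map_comap_eq_self_of_surjective hπ L, hmax _ (map_le_iff_le_comap.1 hL) fun h => hne (by
      rw [← map_comap_eq_self_of_surjective hπ L, h, map_top_of_surjective π hπ])]
  -- the quotient has a normal p-complement
  have hq : HasNormalPComplement p (G ⧸ H) := by
    refine Cfsg.Agent.S0659.result hp2 Tb ?_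
    set N := normalizer (centerThompsonAOf (Tb : Subgroup (G ⧸ H)) : Set (G ⧸ H)) with hNd
    have hne : N ≠ ⊤ := fun h => zj_ne_bot Tb.2 le_rfl hTb1
      (hcore _ (normalizer_eq_top_iff.1 h) (Tb.2.to_le (zj_le _)))
    have hle' : (Tb : Subgroup (G ⧸ H)) ≤ N := fun g hg =>
      normalizerIn_le_zj le_rfl ⟨hg, le_normalizer hg⟩
    refine hasNormalPComplement_of_isPGroup ?_
    rw [hmaxb N hle' hne]
    exact Tb.2
  -- the complement is abelian
  set M := pResidual p (G ⧸ H) with hM
  have hMp : ¬ p ∣ Nat.card M := Lib.Transfer.hasNormalPComplement_iff.1 hq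
  have hMcop : (Nat.card Tb).Coprime (Nat.card M) := by
    obtain ⟨k, hk⟩ := IsPGroup.iff_card.1 Tb.2
    exact hk ▸ (hp.out.coprime_iff_not_dvd.2 hMp).pow_left k
  have hTM : (Tb : Subgroup (G ⧸ H)) ≤ normalizer (M : Set (G ⧸ H)) := le_top.trans (normalizer_eq_top M).ge
  have hab : ∀ x ∈ M, ∀ y ∈ M, x * y = y * x := by
    by_cases hM1 : M = ⊥
    · intro x hx y hy
      rw [hM1, mem_bot] at hx hy
      rw [hx, hy]
    obtain ⟨q, hq', hqd⟩ := Nat.exists_prime_and_dvd (fun h => hM1 (card_eq_one.1 h) : Nat.card M ≠ 1)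
    have := Fact.mk hq'
    obtain ⟨Q, hQ⟩ := Lib.Coprime.exists_invariant_sylow hTM hMcop
      (Or.inl (by have := Tb.2.isNilpotent; infer_instance)) q
    set Q' := (Q : Subgroup M).map M.subtype with hQ'
    have hQ'p : IsPGroup q Q' := Q.2.map _
    have hQne : Q' ≠ ⊥ := by
      rw [hQ', Ne, Subgroup.map_eq_bot_iff_of_injective _ M.subtype_injective]
      exact Q.ne_bot_of_dvd_card hqd
    set Z := Q' ⊓ centralizer (Q' : Set (G ⧸ H)) with hZ
    have hZn : (Tb : Subgroup (G ⧸ H)) ≤ normalizer (Z : Set (G ⧸ H)) := fun t ht => by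
      refine Fusion.mem_normalizer_of_conj_mem fun z hz => mem_inf.mpr
        ⟨Fusion.conj_mem_of_mem_normalizer (hQ ht) hz.1, mem_centralizer_iff.mpr fun y hy => ?_⟩
      have hy' : t⁻¹ * y * t ∈ Q' := by
        have := Fusion.conj_mem_of_mem_normalizer (inv_mem (hQ ht)) hy
        rwa [inv_inv] at this
      calc y * (t * z * t⁻¹) = t * (t⁻¹ * y * t * z) * t⁻¹ := by group
        _ = t * (z * (t⁻¹ * y * t)) * t⁻¹ := by rw [mem_centralizer_iff.mp hz.2 _ hy']
        _ = _ := by group
    have hZne : Z ≠ ⊥ := by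
      intro hz
      have : Nontrivial Q' := (nontrivial_iff_ne_bot _).2 hQne
      obtain ⟨z, hz1⟩ := (nontrivial_iff_exists_ne_one (center Q')).1 hQ'p.center_nontrivial
      refine hz1.2 (Subtype.ext (mem_bot.1 ?_))
      rw [← hz]
      exact ⟨z.2, mem_centralizer_iff.2 fun y hy => congrArg Subtype.val (mem_center_iff.1 hz1.1 ⟨y, hy⟩)⟩
    have hZM : Z ≤ M := inf_le_left.trans (map_subtype_le _)
    have htop : (Tb : Subgroup (G ⧸ H)) ⊔ Z = ⊤ := by
      by_contra hne
      have h1 := hmaxb _ le_sup_left hne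
      apply hZne
      rw [eq_bot_iff, ← Lib.Coprime.inf_eq_bot_of_coprime hMcop]
      exact le_inf ((le_sup_right : Z ≤ _).trans h1.le) hZM
    have hMZ : M = Z := by
      symm
      refine eq_of_le_of_card_ge hZM (le_of_eq ?_)
      have h1 := Lib.Coprime.card_sup_of_coprime hZn (hMcop.coprime_dvd_right (card_dvd_of_le hZM))
      have h2 := Lib.Coprime.card_sup_of_coprime hTM hMcop
      rw [htop] at h1
      have h3 : (Tb : Subgroup (G ⧸ H)) ⊔ M = ⊤ := by
        rw [sup_comm]; exact Lib.Transfer.pResidual_sup_sylow Tb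
      rw [h3, h1] at h2
      exact (mul_left_cancel₀ Nat.card_pos.ne' h2).symm
    intro x hx y hy
    rw [hMZ] at hx hy
    exact mem_centralizer_iff.1 hy.2 x hx.1
  -- 2-subgroups are abelian
  have hab2 : KInf.AbTwo G := by
    intro U hU x hx y hy
    have hmem : ∀ g ∈ U, π g ∈ M := fun g hg => by
      obtain ⟨a, ha⟩ := hU ⟨g, hg⟩
      have ha' : g ^ 2 ^ a = 1 := congrArg Subtype.val ha
      refine Lib.Transfer.mem_pResidual ?_
      refine Nat.Coprime.coprime_dvd_left (orderOf_dvd_of_pow_eq_one (n := 2 ^ a) (by rw [← map_pow, ha', map_one])) ?_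
      exact ((Nat.coprime_primes Nat.prime_two hp.out).2 (Ne.symm hp2)).pow_left a
    have h1 : π ⁅x, y⁆ = 1 := by
      rw [map_commutatorElement, commutatorElement_eq_one_iff_commute]
      exact hab _ (hmem x hx) _ (hmem y hy)
    have h2 : ⁅x, y⁆ ∈ H := (QuotientGroup.eq_one_iff _).1 h1
    have h3 : ⁅x, y⁆ ∈ U := by
      rw [commutatorElement_def]
      exact mul_mem (mul_mem (mul_mem hx hy) (inv_mem hx)) (inv_mem hy)
    obtain ⟨a, ha⟩ := hU ⟨_, h3⟩
    obtain ⟨b, hb⟩ := hHp ⟨_, h2⟩
    have h4 : orderOf ⁅x, y⁆ ∣ 1 := by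
      rw [← (((Nat.coprime_primes Nat.prime_two hp.out).2 (Ne.symm hp2)).pow a b).gcd_eq_one]
      exact Nat.dvd_gcd (orderOf_dvd_of_pow_eq_one (congrArg Subtype.val ha))
        (orderOf_dvd_of_pow_eq_one (congrArg Subtype.val hb))
    exact commutatorElement_eq_one_iff_commute.1 (orderOf_eq_one_iff.mp (Nat.dvd_one.mp h4))
  have hn' := hnorm T hD hc fun V _ hV =>
    isPStableOn_of_normalizerPStable (KInf.isNormalizerPStable_of_abTwo hp2 hab2) V hV
  exact hT (top_le_iff.1 ((normalizer_eq_top (H := W D)).ge.trans hN))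

end Cfsg.Agent.Lib.LocalP2
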