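import Cfsg.Agent.S5195
import Cfsg.Agent.Lib.LocalP2.FusionGeneric

/-! Non-inner local systems above a normal subgroup on which `F` acts as `S` (helper19). -/

set_option autoImplicit false

namespace Cfsg.Agent.Lib.LocalP2

open Cfsg Cfsg.FusionSystem Cfsg.Agent.Lib.Fusion

universe u

variable {Ω : Type u} [Group Ω] {S : Subgroup Ω} {F : FusionSystem S} {p : ℕ}

theorem le_normalizer_autInduced {Q : Subgroup Ω} [Finite S] (hQn : F.IsNormal Q) {g : Ω} (hg : g ∈ S) :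
    ∃ h : g ∈ Subgroup.normalizer (Q : Set Ω), conjAut Q h ∈ autInducedBy S Q :=
  ⟨le_normalizer_of_stronglyClosed (stronglyClosed_of_isNormal hQn) hg,
    conjAut_mem_autInducedBy hg _⟩

theorem normalizerIn_eq_top [Finite S] {Q : Subgroup Ω} (hQ : F.StronglyClosed Q) : normalizerIn S Q = S :=
  le_antisymm (normalizerIn_le S Q) fun _ hg => ⟨hg, le_normalizer_of_stronglyClosed hQ hg⟩

theorem exists_not_pgroup_above (p : ℕ) [Fact p.Prime] : ∀ (n : ℕ) {Ω : Type u} [Group Ω] {S : Subgroup Ω}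
    [Finite S], Nat.card S = n → IsPGroup p S → ∀ F : FusionSystem S, F.IsSaturated p → (p ≠ 2 ∨ S4Model F) →
    ∀ {Q : Subgroup Ω}, F.IsNormal Q → Q ≠ S → F.autGroup Q ≤ autInducedBy S Q →
    ¬ F ≤ innerFusionSystem S →
    ∃ V : Subgroup Ω, Q < V ∧ V ≤ S ∧ normalizerIn S V = S ∧ ¬ IsPGroup p (F.autGroup V) := by
  intro n
  induction n using Nat.strong_induction_on with
  | _ n ih => ?_
  intro Ω _ S _ hn hS F hF hp Q hQ hQS hQact hne
  classical
  by_cases hQ1 : Q = ⊥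
  · subst hQ1
    by_contra hcon
    push Not at hcon
    refine hne fun P φ hφ => ?_
    have h := S5195.aux p n hn hS F hF hp fun V hV hV1 hVc => hcon V (bot_lt_iff_ne_bot.2 hV1) hV (by
      refine le_antisymm (normalizerIn_le S V) fun g hg => ⟨hg, ?_⟩
      have := finite_of_le hV
      refine mem_normalizer_of_conj_mem fun x hx => ?_
      exact ((inferInstance : (V.subgroupOf S).Normal).conj_mem ⟨x, hV hx⟩ hx ⟨g, hg⟩ : _))
    rwa [h] at hφ
  have hQS' := hQ.1
  have hQcl := stronglyClosed_of_isNormal hQ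
  have hnQ := le_normalizer_of_stronglyClosed hQcl
  -- the central part of `Q`
  set Z := Q ⊓ Subgroup.centralizer (S : Set Ω) with hZ
  have hZS : Z ≤ S := inf_le_left.trans hQS'
  have hZc : ∀ z ∈ Z, ∀ g ∈ S, g * z = z * g := fun z hz g hg => Subgroup.mem_centralizer_iff.1 hz.2 g hg
  have hfix : ∀ z ∈ Z, Fixed F z := by
    intro z hz R φ hφ hzR
    obtain ⟨ψ, hψ, hψR, κ, -, hκ⟩ := isNormal_aut hQ hφ
    have hκF : κ ∈ F.autGroup Q := (mem_autGroup hQS').2
      (mem_of_agree le_sup_right hψ fun x => (hκ x).symm)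
    obtain ⟨s, hs', hsκ⟩ := exists_of_mem_autInducedBy (hQact hκF)
    have hs : s ∈ S := normalizerIn_le S Q hs'
    calc φ ⟨z, hzR⟩ = ψ (Subgroup.inclusion le_sup_left (⟨z, hzR⟩ : R)) := (hψR _).symm
      _ = ψ (Subgroup.inclusion le_sup_right (⟨z, hz.1⟩ : Q)) := rfl
      _ = s * z * s⁻¹ := (hκ _).trans (hsκ _)
      _ = z := by rw [hZc z hz s hs, mul_inv_cancel_right]
  have hcent : F.IsCentral Z := by
    have := isCentral_closure hS hF (W := (Z : Set Ω)) fun w hw =>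
      ⟨⟨hZS hw, hw.2⟩, hfix w hw⟩
    rwa [Subgroup.closure_eq] at this
  have hcl : F.StronglyClosed Z := stronglyClosed_of_isNormal (isNormal_of_isCentral hcent)
  have hQsn : (Q.subgroupOf S).Normal := ⟨fun c hc g =>
    (conj_mem_of_mem_normalizer (hnQ g.2) (hc : (c : Ω) ∈ Q) : ((g * c * g⁻¹ : S) : Ω) ∈ Q)⟩
  set Zs := Z.subgroupOf S with hZs
  have hZsn : Zs.Normal := ⟨fun c hc g => by
    have h1 : g * c = c * g := Subtype.ext (hZc _ hc g g.2)
    rw [h1, mul_inv_cancel_right]; exact hc⟩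
  obtain ⟨z₀, hz₀, hz₀1⟩ : ∃ z ∈ Z, z ≠ 1 := by
    obtain ⟨z, hz, hzc, hz1⟩ := Thompson.exists_central_order_p hS (N := Q.subgroupOf S) (fun h => hQ1
      (le_bot_iff.1 fun x hx => by
        have h1 : (⟨x, hQS' hx⟩ : S) ∈ Q.subgroupOf S := hx
        rw [h, Subgroup.mem_bot] at h1
        exact Subgroup.mem_bot.2 (congrArg Subtype.val h1)))
    refine ⟨z, ⟨hz, Subgroup.mem_centralizer_iff.2 fun g hg =>
      congrArg Subtype.val (Subgroup.mem_center_iff.1 hzc ⟨g, hg⟩)⟩, fun h => ?_⟩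
    rw [show z = 1 from Subtype.ext h, orderOf_one] at hz1
    exact (Fact.out : p.Prime).ne_one hz1.symm
  let θ : S →* S ⧸ Zs := QuotientGroup.mk' Zs
  have hker : ∀ s : S, θ s = 1 ↔ (s : Ω) ∈ Z := fun s => QuotientGroup.eq_one_iff s
  have hθ : θ.range = (⊤ : Subgroup (S ⧸ Zs)) := MonoidHom.range_eq_top.2 (QuotientGroup.mk'_surjective Zs)
  let E := factorSystem F hcl θ hker ⊤ hθ
  have hEs : E.IsSaturated p := saturated_of_surjectiveMorphism hS hF
    (isSurjectiveMorphism_of_factor hS hF hcl (isFactorSystem_factorSystem hcl θ hker ⊤ hθ))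
  have hlt : Nat.card (⊤ : Subgroup (S ⧸ Zs)) < n := by
    rw [Subgroup.card_top, ← hn, Subgroup.card_eq_card_quotient_mul_card_subgroup Zs]
    refine lt_mul_of_one_lt_right Nat.card_pos (Finite.one_lt_card_iff_nontrivial.2
      ((Subgroup.nontrivial_iff_exists_ne_one Zs).2 ⟨⟨z₀, hZS hz₀⟩, hz₀, fun h => hz₀1 (congrArg Subtype.val h)⟩))
  set Qb := imageAlong θ Q with hQb
  have hQpre : preimageAlong θ Qb ≤ Q := (preimage_imageAlong_le hker Q).trans (sup_le le_rfl inf_le_left)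
  have hQpre' : Q ≤ preimageAlong θ Qb := fun x hx =>
    mem_preimageAlong.2 ⟨hQS' hx, mem_imageAlong.2 ⟨⟨x, hQS' hx⟩, hx, rfl⟩⟩
  -- `Qb` is normal in the factor system
  have hQbn : E.IsNormal Qb := by
    refine isNormal_iff.2 ⟨le_top, fun P' φ' hφ' => extendsOver_top_iff.2 ?_⟩
    obtain ⟨-, φ, hφ, a₁, a₂, a₃, ae⟩ := hφ'
    obtain ⟨ψ, hψ, hψφ, κ, -, hκ⟩ := isNormal_aut hQ hφ
    have hle : preimageAlong θ (P' ⊔ Qb) ≤ preimageAlong θ P' ⊔ Q := by
      intro x hx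
      obtain ⟨hxS, hxX⟩ := mem_preimageAlong.1 hx
      have : Qb.Normal := by
        rw [hQb, show imageAlong θ Q = (Q.subgroupOf S).map θ from rfl]
        exact hQsn.map θ (QuotientGroup.mk'_surjective Zs)
      obtain ⟨a, ha, b, hb, hab⟩ := Subgroup.mem_sup_of_normal_right.1 hxX
      obtain ⟨q, hq, rfl⟩ := mem_imageAlong.1 hb
      have h1 : x * (q : Ω)⁻¹ ∈ preimageAlong θ P' := mem_preimageAlong.2 ⟨S.mul_mem hxS (S.inv_mem q.2), by
        rw [show (⟨x * (q : Ω)⁻¹, _⟩ : S) = ⟨x, hxS⟩ * q⁻¹ from rfl, map_mul, map_inv, ← hab, mul_inv_cancel_right]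
        exact ha⟩
      have := Subgroup.mul_mem_sup h1 hq
      simpa using this
    obtain ⟨χ', hχ'⟩ := exists_induced hcl hker (hθ.symm ▸ le_top : P' ⊔ Qb ≤ θ.range) (restrict_mem hle hψ)
    refine ⟨χ', ⟨le_top, _, restrict_mem hle hψ, hχ'⟩, ?_, ?_⟩
    · obtain ⟨b₁, b₂, b₃, be⟩ := hχ'
      intro y
      obtain ⟨x, hx⟩ := exists_lift (hθ.symm ▸ le_top : P' ≤ θ.range) y
      have hxX : (x : Ω) ∈ preimageAlong θ (P' ⊔ Qb) := by
        obtain ⟨h1, h2⟩ := mem_preimageAlong.1 x.2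
        exact mem_preimageAlong.2 ⟨h1, Subgroup.mem_sup_left h2⟩
      calc χ' (Subgroup.inclusion le_sup_left y) = χ' ⟨_, b₃ ⟨x, hxX⟩⟩ := congrArg χ' (Subtype.ext hx.symm)
        _ = θ ⟨_, b₂ ⟨x, hxX⟩⟩ := be ⟨x, hxX⟩
        _ = θ ⟨φ x, a₂ x⟩ := congrArg θ (Subtype.ext (hψφ x))
        _ = φ' ⟨_, a₃ x⟩ := (ae x).symm
        _ = φ' y := congrArg φ' (Subtype.ext hx)
    · obtain ⟨b₁, b₂, b₃, be⟩ := hχ'
      refine Fusion.eq_of_le_of_natCard_le ?_ ?_
      · rintro _ ⟨⟨y, hy⟩, hyQ, rfl⟩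
        obtain ⟨q, hq, rfl⟩ := mem_imageAlong.1 hyQ
        have hqX : (q : Ω) ∈ preimageAlong θ (P' ⊔ Qb) :=
          mem_preimageAlong.2 ⟨q.2, Subgroup.mem_sup_right (mem_imageAlong.2 ⟨q, hq, rfl⟩)⟩
        refine mem_imageAlong.2 ⟨⟨_, b₂ ⟨q, hqX⟩⟩, ?_, (be ⟨q, hqX⟩).symm⟩
        show ψ (Subgroup.inclusion le_sup_right (⟨q, hq⟩ : Q)) ∈ Q
        rw [hκ]; exact (κ _).2
      · rw [Subgroup.card_map_of_injective (E.injective_of_mem
            (show χ' ∈ E.Hom _ from ⟨le_top, _, restrict_mem hle hψ, b₁, b₂, b₃, be⟩)),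
          Nat.card_congr (Subgroup.subgroupOfEquivOfLe (le_sup_right : Qb ≤ P' ⊔ Qb)).toEquiv]
  have hQbS : Qb ≠ ⊤ := fun h => hQS (le_antisymm hQS' fun x hx =>
    hQpre (mem_preimageAlong.2 ⟨hx, h ▸ Subgroup.mem_top _⟩))
  have hQbact : E.autGroup Qb ≤ autInducedBy ⊤ Qb := by
    intro α hα
    obtain ⟨-, φ, hφ, b₁, b₂, b₃, be⟩ := (mem_autGroup (le_top : Qb ≤ ⊤)).1 hα
    have := finite_of_le hQS'
    have hφQ : φ.comp (Subgroup.inclusion hQpre') ∈ F.Hom Q := restrict_mem hQpre' hφ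
    obtain ⟨β, hβ, hβv⟩ := exists_aut_of_self_map hφQ fun x => hQcl.2 Q le_rfl _ hφQ x
    obtain ⟨s, hs', hsβ⟩ := exists_of_mem_autInducedBy (hQact hβ)
    have hs : s ∈ S := normalizerIn_le S Q hs'
    have hval : ∀ y : Qb, ((α y : Qb) : S ⧸ Zs) = θ ⟨s, hs⟩ * y * (θ ⟨s, hs⟩)⁻¹ := by
      intro y
      obtain ⟨q, hq, hqy⟩ := mem_imageAlong.1 y.2
      rw [show y = ⟨_, b₃ ⟨q, hQpre' hq⟩⟩ from Subtype.ext hqy.symm]
      refine (be ⟨q, hQpre' hq⟩).trans ?_
      rw [← map_inv, ← map_mul, ← map_mul]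
      refine congrArg θ (Subtype.ext ?_)
      show φ ⟨q, hQpre' hq⟩ = s * (q : Ω) * s⁻¹
      exact (hβv ⟨q, hq⟩).symm.trans (hsβ ⟨q, hq⟩)
    have hQbnS : θ ⟨s, hs⟩ ∈ Subgroup.normalizer (Qb : Set (S ⧸ Zs)) := mem_normalizer_of_conj_mem fun y hy => by
      rw [← hval ⟨y, hy⟩]; exact (α _).2
    have : α = conjAut Qb hQbnS := MulEquiv.ext fun y => Subtype.ext (by rw [hval, conjAut_apply])
    rw [this]
    exact conjAut_mem_autInducedBy (Subgroup.mem_top _) _
  have hEne : ¬ E ≤ innerFusionSystem ⊤ := by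
    intro hE
    refine hne fun P φ hφ => ?_
    have h := eq_inner_of_pgroups hS hF fun R hR => ?_
    · rwa [h] at hφ
    obtain ⟨hRc, -, -⟩ := centric_radical_of_top_or_essential hS hF hR
    have hZR : Z ≤ R := fun z hz => centralizer_le_of_isCentric hRc
      (mem_centralizerIn.2 ⟨hZS hz, fun x hx => hZc z hz x (hRc.1 hx)⟩)
    refine isPGroup_aut_of_inner_mod (T := Z) hS hRc.1 hZR θ (fun s hs => (hker s).1 hs)
      (fun α hα x hx => ?_) (fun α hα => ⟨1, S.one_mem, fun x hx => ?_⟩) fun α hα => ?_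
    · have := hfix _ hx R _ ((mem_autGroup hRc.1).1 hα) x.2
      exact (show ((α x : R) : Ω) = x from this) ▸ hx
    · have := hfix _ hx R _ ((mem_autGroup hRc.1).1 hα) x.2
      simpa using this
    · have hle : preimageAlong θ (imageAlong θ R) ≤ R :=
        (preimage_imageAlong_le hker R).trans (sup_le le_rfl hZR)
      obtain ⟨φ', hφ'⟩ := exists_induced hcl hker (imageAlong_le_range θ R)
        (restrict_mem hle ((mem_autGroup hRc.1).1 hα))
      obtain ⟨-, g, -, hg⟩ := hE _ (show φ' ∈ E.Hom _ from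
        ⟨le_top, _, restrict_mem hle ((mem_autGroup hRc.1).1 hα), hφ'⟩)
      obtain ⟨s, rfl⟩ := QuotientGroup.mk'_surjective Zs g
      refine ⟨s, fun x => ?_⟩
      obtain ⟨b₁, b₂, b₃, be⟩ := hφ'
      have hx : (x : Ω) ∈ preimageAlong θ (imageAlong θ R) :=
        mem_preimageAlong.2 ⟨hRc.1 x.2, ⟨x, hRc.1 x.2⟩, x.2, rfl⟩
      exact (be ⟨x, hx⟩).symm.trans (hg _)
  obtain ⟨V', hQV', -, hV'n, hV'p⟩ := ih _ hlt rfl ((hS.to_quotient Zs).to_subgroup ⊤) E hEs
    (hp.imp_right (S4Model_factor hcl hker hfix hθ)) hQbn hQbS hQbact hEne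
  set V := preimageAlong θ V' with hV
  have hVS : V ≤ S := preimageAlong_le θ V'
  have := finite_of_le hVS
  have hQV : Q ≤ V := fun x hx => mem_preimageAlong.2
    ⟨hQS' hx, hQV'.le (mem_imageAlong.2 ⟨⟨x, hQS' hx⟩, hx, rfl⟩)⟩
  refine ⟨V, lt_of_le_of_ne hQV fun h => hQV'.ne (le_antisymm hQV'.le fun y hy => ?_), hVS, ?_, fun hpV => hV'p ?_⟩
  · obtain ⟨s, rfl⟩ := QuotientGroup.mk'_surjective Zs y
    exact mem_imageAlong.2 ⟨s, h.ge (mem_preimageAlong.2 ⟨s.2, hy⟩), rfl⟩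
  · refine le_antisymm (normalizerIn_le S V) fun g hg => (normalizer_preimage (s := ⟨g, hg⟩) hθ le_top).2 ?_
    exact hV'n.ge (Subgroup.mem_top _)
  · intro α'
    obtain ⟨-, φ, hφ, b₁, b₂, b₃, be⟩ := (mem_autGroup (le_top : V' ≤ ⊤)).1 α'.2
    have hself : ∀ x, φ x ∈ V := fun x => mem_preimageAlong.2 ⟨b₂ x, by
      rw [← be x]
      exact ((α' : MulAut V') ⟨_, b₃ x⟩).2⟩
    obtain ⟨β, hβ, hβv⟩ := exists_aut_of_self_map hφ hself
    have hpow : ∀ (j : ℕ) (x : V), ((α' : MulAut V') ^ j) ⟨θ ⟨x, hVS x.2⟩, b₃ x⟩ =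
        ⟨θ ⟨(β ^ j) x, hVS ((β ^ j) x).2⟩, b₃ _⟩ := by
      intro j
      induction j with
      | zero => intro x; simp
      | succ j ihj =>
        intro x
        simp only [pow_succ', MulAut.mul_apply, ihj]
        exact Subtype.ext ((be ((β ^ j) x)).trans (congrArg θ (Subtype.ext (hβv ((β ^ j) x)).symm)))
    obtain ⟨k, hk⟩ := hpV ⟨β, hβ⟩
    refine ⟨k, Subtype.ext (MulEquiv.ext fun y => ?_)⟩
    obtain ⟨x, hx⟩ := exists_lift (hθ.symm ▸ le_top : V' ≤ θ.range) y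
    obtain rfl : y = ⟨_, b₃ x⟩ := Subtype.ext hx.symm
    have hk' : β ^ p ^ k = 1 := congrArg Subtype.val hk
    rw [SubmonoidClass.coe_pow, hpow, OneMemClass.coe_one, MulAut.one_apply]
    simp [hk']

/-- The system of maps acting on `Q` inside `K`, over `S`. -/
theorem kSys_saturated [Finite S] [Fact p.Prime] (hS : IsPGroup p S) (hF : F.IsSaturated p) {Q : Subgroup Ω}
    (hQ : Q ≤ S) (hQn : normalizerIn S Q = S) (K : Subgroup (MulAut Q)) (hK : autInducedBy S Q ≤ K)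
    (hext : KExtends F Q K) (hcl : ∀ g ∈ S, ∃ h : g ∈ Subgroup.normalizer (Q : Set Ω), conjAut Q h ∈ K) :
    (extSystem F S Q K le_rfl hQ hcl).IsSaturated p := by
  refine kSystem_saturated hS hF hQ hext (le_antisymm (fun g hg => ⟨⟨hg, (hQn.ge hg).2⟩, hK ?_⟩)
    fun g hg => hg.1.1) _ fun P φ => Iff.rfl
  exact conjAut_mem_autInducedBy hg _

/-- A sparse system is constrained. -/
theorem constrained_of_sparse [Finite S] [Fact p.Prime] (hS : IsPGroup p S) (hF : F.IsSaturated p)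
    (hp : p ≠ 2 ∨ S4Model F) (hne : ¬ F ≤ innerFusionSystem S)
    (hsp : ∀ E : FusionSystem S, E.IsSaturated p → E ≤ F → F ≤ E ∨ E ≤ innerFusionSystem S) :
    F.IsConstrained p := by
  classical
  set C := F.core
  have hC : F.IsNormal C := isNormal_core
  have hCS := hC.1
  have := finite_of_le hCS
  have hcl := stronglyClosed_of_isNormal hC
  have hnC := le_normalizer_of_stronglyClosed hcl
  have hconj : ∀ R, F.IsConj C R → R = C := fun R hR => by
    obtain ⟨e, he⟩ := isConj_iff_iso.1 hR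
    refine Fusion.eq_of_le_of_natCard_le ?_ (Nat.card_congr e.toEquiv).le
    intro r hr
    have := map_mem_of_normal hC he (e.symm ⟨r, hr⟩) (e.symm ⟨r, hr⟩).2
    simpa using this
  by_cases hcen : centralizerIn S C ≤ C
  · exact ⟨hF, C, hC, hCS, fun R hR => by rw [hconj R hR]; exact hcen⟩
  exfalso
  have hCn : normalizerIn S C = S := normalizerIn_eq_top hcl
  have hCfn : F.IsFullyNormalized C := ⟨hCS, fun R hR => by rw [hconj R hR]⟩
  obtain ⟨hCA, hCR⟩ := fullyNormalized_props hS hF hCfn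
  set K := autInducedBy S C with hKdef
  have hext : KExtends F C K := by
    intro Q' e he
    obtain ⟨ψ, hψ, hψe⟩ := receptive_extend hCR he
    refine ⟨1, one_mem _, _, ψ, hψ, ?_, le_extender he, fun x hx => by rw [hψe x hx]; rfl⟩
    rintro g ⟨hg, hgK⟩
    exact (mem_extender_iso e).2 ⟨hg, hgK⟩
  have hclK : ∀ g ∈ S, ∃ h : g ∈ Subgroup.normalizer (C : Set Ω), conjAut C h ∈ K := fun g hg =>
    le_normalizer_autInduced hC hg
  set E₁ := extSystem F S C K le_rfl hCS hclK with hE₁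
  rcases hsp E₁ (kSys_saturated hS hF hCS hCn K le_rfl hext hclK) (fun P φ h => h.1) with hall | hin
  · -- every map acts on `C` as an element of `S`
    have hact : F.autGroup C ≤ autInducedBy S C := fun α hα => by
      obtain ⟨-, -, -, ψ, -, hψP, κ, hκ, hκv⟩ := hall C ((mem_autGroup hCS).1 hα)
      have : α = κ := MulEquiv.ext fun x => Subtype.ext
        (((hψP x).symm.trans rfl).trans (hκv x))
      rwa [this]
    have hCne : C ≠ S := fun h => hcen (h.symm ▸ centralizerIn_le S C)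
    obtain ⟨V, hCV, hVS, hVn, hVp⟩ := exists_not_pgroup_above p _ rfl hS F hF hp hC hCne hact hne
    have := finite_of_le hVS
    have hVfn : F.IsFullyNormalized V := ⟨hVS, fun R _ => by
      rw [hVn]; exact Subgroup.card_le_of_le (normalizerIn_le S R)⟩
    have hclV : ∀ g ∈ S, ∃ h : g ∈ Subgroup.normalizer (V : Set Ω), conjAut V h ∈ (⊤ : Subgroup (MulAut V)) :=
      fun g hg => ⟨(hVn.ge hg).2, Subgroup.mem_top _⟩
    rcases hsp (extSystem F S V ⊤ le_rfl hVS hclV)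
        (kSys_saturated hS hF hVS hVn ⊤ le_top (kExtends_top hS hF hVfn) hclV) (fun P φ h => h.1) with hV | hV
    · exact hCV.not_ge (le_core (isNormal_iff.2 ⟨hVS, fun P φ hφ => (hV P hφ).2.2.2⟩))
    · refine hVp ((isPGroup_autInducedBy hS V).to_le fun α hα => ?_)
      have hα' := (mem_autGroup hVS).1 hα
      obtain ⟨-, g, hg, hgα⟩ := hV V ⟨hα', hVS, val_mem hα', extendsOver_top_iff.2 ⟨_,
        restrict_mem (sup_le le_rfl le_rfl) hα', fun x => rfl,
        (map_eq_iff_exists_aut (F.injective_of_mem (restrict_mem (sup_le le_rfl le_rfl) hα'))).2 ⟨α, fun x => rfl⟩⟩⟩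
      have hgN : g ∈ Subgroup.normalizer (V : Set Ω) := (hVn.ge hg).2
      rw [show α = conjAut V hgN from MulEquiv.ext fun x => Subtype.ext (by
        rw [conjAut_apply]; exact hgα x)]
      exact conjAut_mem_autInducedBy hg hgN
  · -- otherwise `C C_S(C)` is normal
    set D := C ⊔ centralizerIn S C with hD
    have hDS : D ≤ S := sup_le hCS (centralizerIn_le S C)
    have := finite_of_le hDS
    have := finite_of_le (centralizerIn_le S C)
    have hDn : normalizerIn S D = S := by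
      refine le_antisymm (normalizerIn_le S _) fun g hg => ⟨hg, mem_normalizer_of_conj_mem fun x hx => ?_⟩
      obtain ⟨c, hc, d, hd, rfl⟩ := mem_sup_of_normalizes
        (fun c hc => mem_normalizer_of_conj_mem (P := centralizerIn S C) fun d hd => by
          rw [(mem_centralizerIn.1 hd).2 c hc, mul_inv_cancel_right]; exact hd) hx
      rw [← conj_mul]
      refine Subgroup.mul_mem_sup (conj_mem_of_mem_normalizer (hnC hg) hc) (mem_centralizerIn.2
        ⟨S.mul_mem (S.mul_mem hg hd.1) (S.inv_mem hg), fun u hu => ?_⟩)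
      have hu' : g⁻¹ * u * g ∈ C := by
        have := conj_mem_of_mem_normalizer (inv_mem (hnC hg)) hu
        simpa using this
      have h1 := (mem_centralizerIn.1 hd).2 _ hu'
      calc u * (g * d * g⁻¹) = g * (g⁻¹ * u * g * d) * g⁻¹ := by group
        _ = g * (d * (g⁻¹ * u * g)) * g⁻¹ := by rw [h1]
        _ = _ := by group
    let E₂ : FusionSystem S := extSystem F S D ⊤ le_rfl hDS fun g hg => ⟨(hDn.ge hg).2, Subgroup.mem_top _⟩
    have hle : F ≤ E₂ := by
      refine le_of_aut hS hF (fun α hα => ?_) fun R hR _ hbig α hα => ?_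
      · have hα' := (mem_autGroup le_rfl).1 hα
        have hsup : S ⊔ D ≤ S := sup_le le_rfl hDS
        refine ⟨hα', le_rfl, fun x => (α x).2, extendsOver_top_iff.2 ⟨_, restrict_mem hsup hα', fun x => rfl, ?_⟩⟩
        refine Fusion.eq_of_le_of_natCard_le ?_ ?_
        · rintro _ ⟨x, hx, rfl⟩
          obtain ⟨c, hc, d, hd, hcd⟩ := mem_sup_of_normalizes (fun c hc => mem_normalizer_of_conj_mem
            (P := centralizerIn S C) fun d hd => by
              rw [(mem_centralizerIn.1 hd).2 c hc, mul_inv_cancel_right]; exact hd) hx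
          show ((α ⟨x, hsup x.2⟩ : S) : Ω) ∈ D
          rw [show (⟨x, hsup x.2⟩ : S) = ⟨c, hCS hc⟩ * ⟨d, hd.1⟩ from Subtype.ext hcd.symm, map_mul, Subgroup.coe_mul]
          refine Subgroup.mul_mem_sup (map_mem_of_normal hC hα' _ hc) (mem_centralizerIn.2 ⟨(α _).2, fun u hu => ?_⟩)
          obtain ⟨w, hw⟩ : ∃ w : S, ((α w : S) : Ω) = u := ⟨α.symm ⟨u, hCS hu⟩, by simp⟩
          have hwC : (w : Ω) ∈ C := by
            have := map_mem_of_normal hC ((mem_autGroup le_rfl).1 (inv_mem hα)) ⟨u, hCS hu⟩ hu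
            rwa [show (⟨u, hCS hu⟩ : S) = α w from Subtype.ext hw.symm, MonoidHom.comp_apply,
              MulEquiv.coe_toMonoidHom, MulAut.inv_apply_self] at this
          have h1 : w * ⟨d, hd.1⟩ = ⟨d, hd.1⟩ * w := Subtype.ext ((mem_centralizerIn.1 hd).2 _ hwC)
          have h2 := congrArg (fun y : S => ((α y : S) : Ω)) h1
          simpa [hw] using h2
        · rw [Subgroup.card_map_of_injective (F.injective_of_mem (restrict_mem hsup hα')),
            Nat.card_congr (Subgroup.subgroupOfEquivOfLe (le_sup_right : D ≤ S ⊔ D)).toEquiv]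
      have hRS := hR.1
      have := finite_of_le hRS
      by_cases hCR : C ≤ R
      · refine aut_mem_of_quot (E := E₂) hS hF (fun P φ h => h.1) hC
          (fun P φ hφ => ⟨hφ.1, src_le hφ.1, val_mem hφ.1, extendsOver_top_iff.2 hφ.2.2.2⟩) hR hCR hbig
          (fun γ hγ hfix => ?_) α hα
        refine ⟨γ, ?_, fun x => by rw [inv_mul_cancel]; exact C.one_mem⟩
        have hγ' := (mem_autGroup hRS).1 hγ
        obtain ⟨-, g, hg, hgγ⟩ := hin R ⟨hγ', hRS, val_mem hγ', _, restrict_mem (sup_le le_rfl hCR) hγ',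
          fun x => rfl, 1, one_mem _, fun x => hfix ⟨x, hCR x.2⟩ x.2⟩
        exact conj_map_mem hRS hg hgγ
      · obtain ⟨ψ, hψ, hψR, -⟩ := isNormal_aut hC ((mem_autGroup hRS).1 hα)
        have := finite_of_le (sup_le hRS hCS)
        have hlt : Nat.card R < Nat.card (R ⊔ C : Subgroup Ω) :=
          lt_of_le_of_ne (Subgroup.card_le_of_le le_sup_left) fun hh =>
            hCR (le_trans le_sup_right (Fusion.eq_of_le_of_natCard_le le_sup_left hh.ge).ge)
        exact isIso_of_agree le_sup_left (hbig _ hlt hψ) fun x => (hψR x).symm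
    have hDnorm : F.IsNormal D := isNormal_iff.2 ⟨hDS, fun P φ hφ => (hle P hφ).2.2.2⟩
    exact hcen (le_sup_right.trans (le_core hDnorm))

end Cfsg.Agent.Lib.LocalP2
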