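import Cfsg.Agent.Lib.Fusion.Chain
import Cfsg.Agent.Lib.Thompson.PGroup
import Cfsg.Agent.Lib.PGroupFrattini

/-!
Tools for strongly closed subgroups with commutator subgroup of order `p`: chains, strong closure at an
automizer, counting with commutator pairings.
-/

set_option autoImplicit false

namespace Cfsg.Agent.Lib.LocalP2.GenExtra

open Cfsg Cfsg.FusionSystem Cfsg.Agent.Lib.Fusion
open scoped commutatorElement

/-- A nontrivial power of an element of prime order generates. -/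
theorem MetaOddLike.exists_pow {G : Type*} [Group G] {p : ℕ} (hp : p.Prime) {u d : G}
    (hu : u ∈ Subgroup.zpowers d) (hd : d ^ p = 1) (hu1 : u ≠ 1) : ∃ k : ℕ, u ^ k = d := by
  have : Fact p.Prime := ⟨hp⟩
  have hd1 : d ≠ 1 := fun h => hu1 (by simpa [h] using hu)
  have hup : u ^ p = 1 := by
    obtain ⟨i, rfl⟩ := Subgroup.mem_zpowers_iff.1 hu
    rw [← zpow_natCast, ← zpow_mul, mul_comm, zpow_mul, zpow_natCast, hd, one_zpow]
  have hdo := orderOf_eq_prime hd hd1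
  have : Finite (Subgroup.zpowers d) := Nat.finite_of_card_ne_zero
    (by rw [Nat.card_zpowers, hdo]; exact hp.ne_zero)
  have he : Subgroup.zpowers u = Subgroup.zpowers d := eq_of_le_of_natCard_le
    (Subgroup.zpowers_le.2 hu) (by rw [Nat.card_zpowers, Nat.card_zpowers, hdo, orderOf_eq_prime hup hu1])
  exact Submonoid.mem_powers_iff _ _ |>.1
    (((orderOf_pos_iff.1 (orderOf_eq_prime hup hu1 ▸ hp.pos)).mem_powers_iff_mem_zpowers).2
      (he ▸ Subgroup.mem_zpowers d))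

section Chains

variable {X : Type*} [Group X] {p : ℕ}

/-- The automorphisms in `A` acting trivially on the factors of `1 ≤ U ≤ V ≤ W ≤ X`. -/
def Stab (U V W : Subgroup X) (α : MulAut X) : Prop :=
  (∀ x ∈ U, α x = x) ∧ (∀ x ∈ V, α x * x⁻¹ ∈ U) ∧ (∀ x ∈ W, α x * x⁻¹ ∈ V) ∧ ∀ x, α x * x⁻¹ ∈ W

theorem exists_pgroup_of_chain [Finite X] [Fact p.Prime] (hX : IsPGroup p X) (A : Subgroup (MulAut X))
    {U V W : Subgroup X} (hUV : U ≤ V) (hVW : V ≤ W) :
    ∃ T : Subgroup (MulAut X), T ≤ A ∧ IsPGroup p T ∧ ∀ α ∈ A, Stab U V W α → α ∈ T := by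
  let M0 : Submonoid (MulAut X) :=
    { carrier := {α | α ∈ A ∧ (∀ x ∈ U, α x ∈ U) ∧ (∀ x ∈ V, α x ∈ V) ∧ ∀ x ∈ W, α x ∈ W}
      one_mem' := ⟨one_mem A, fun _ h => h, fun _ h => h, fun _ h => h⟩
      mul_mem' := fun {a b} ha hb => ⟨mul_mem ha.1 hb.1, fun x hx => ha.2.1 _ (hb.2.1 x hx),
        fun x hx => ha.2.2.1 _ (hb.2.2.1 x hx), fun x hx => ha.2.2.2 _ (hb.2.2.2 x hx)⟩ }
  let M : Subgroup (MulAut X) :=
    { M0 with
      inv_mem' := fun {α} hα => by
        have h : α⁻¹ = α ^ (orderOf α - 1) := by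
          rw [eq_comm, ← mul_eq_one_iff_eq_inv, ← pow_succ,
            Nat.sub_add_cancel (orderOf_pos α), pow_orderOf_eq_one]
        rw [h]
        exact M0.pow_mem hα _ }
  let D : ℕ → Subgroup X := fun i => match i with
    | 0 => ⊥
    | 1 => U
    | 2 => V
    | 3 => W
    | _ => ⊤
  obtain ⟨K, -, hKp, hK⟩ := chainStabilizer (p := p) M 4 D rfl rfl (fun α hα i x hx => by
    match i with
    | 0 => rw [Subgroup.mem_bot.1 hx, map_one]; exact one_mem _
    | 1 => exact hα.2.1 x hx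
    | 2 => exact hα.2.2.1 x hx
    | 3 => exact hα.2.2.2 x hx
    | _ + 4 => exact Subgroup.mem_top _) hX
  refine ⟨K.map M.subtype, fun α ⟨β, _, h⟩ => h ▸ β.2.1, hKp.map _, fun α hαA hα => ?_⟩
  have hM : α ∈ M := by
    refine ⟨hαA, fun x hx => by rwa [hα.1 x hx], fun x hx => ?_, fun x hx => ?_⟩
    · have h := mul_mem (hUV (hα.2.1 x hx)) hx
      rwa [inv_mul_cancel_right] at h
    · have h := mul_mem (hVW (hα.2.2.1 x hx)) hx
      rwa [inv_mul_cancel_right] at h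
  refine ⟨⟨α, hM⟩, (hK _).2 fun i hi x hx => ?_, rfl⟩
  match i with
  | 0 =>
    show α x * x⁻¹ ∈ ⊥
    rw [hα.1 x hx, mul_inv_cancel]; exact one_mem _
  | 1 => exact hα.2.1 x hx
  | 2 => exact hα.2.2.1 x hx
  | 3 => exact hα.2.2.2 x
  | n + 4 => omega

/-- A fixed generating set is fixed pointwise. -/
theorem fix_closure (α : MulAut X) {s : Set X} (h : ∀ x ∈ s, α x = x) :
    ∀ x ∈ Subgroup.closure s, α x = x := fun _ hx =>
  (Subgroup.closure_le (K := MonoidHom.eqLocus α.toMonoidHom (MonoidHom.id X))).2 h hx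

/-- `H ≤ [H, X] Z` forces `H ≤ Z` in a nilpotent group. -/
theorem le_of_le_commutator [Group.IsNilpotent X] {H Z : Subgroup X} [Z.Normal]
    (h : H ≤ ⁅H, (⊤ : Subgroup X)⁆ ⊔ Z) : H ≤ Z := by
  set π := QuotientGroup.mk' Z with hπ
  have hsurj : Function.Surjective π := QuotientGroup.mk'_surjective Z
  have h1 : H.map π ≤ ⁅H.map π, (⊤ : Subgroup (X ⧸ Z))⁆ := by
    refine (Subgroup.map_mono h).trans ?_
    rw [Subgroup.map_sup, Subgroup.map_commutator, Subgroup.map_top_of_surjective π hsurj,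
      show Z.map π = ⊥ by rw [Subgroup.map_eq_bot_iff, hπ, QuotientGroup.ker_mk'], sup_bot_eq]
  have h2 : ∀ n, H.map π ≤ Subgroup.lowerCentralSeries (⊤ : Subgroup (X ⧸ Z)) n := by
    intro n
    induction n with
    | zero => rw [Subgroup.lowerCentralSeries_zero]; exact le_top
    | succ n ih =>
      rw [Subgroup.lowerCentralSeries_succ]
      exact h1.trans (Subgroup.commutator_mono ih le_rfl)
  obtain ⟨n, hn⟩ := Subgroup.nilpotent_iff_lowerCentralSeries.1
    (inferInstance : Group.IsNilpotent (X ⧸ Z))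
  have h3 := h2 n
  rw [hn, le_bot_iff, Subgroup.map_eq_bot_iff, hπ, QuotientGroup.ker_mk'] at h3
  exact h3

end Chains

section Counting

variable {Ω : Type*} [Group Ω] {p : ℕ} [Fact p.Prime]

theorem card_lt_mul_le {S : Subgroup Ω} [Finite S] (hS : IsPGroup p S) {H K : Subgroup Ω} (hKS : K ≤ S)
    (h : H < K) : p * Nat.card H ≤ Nat.card K := by
  have := finite_of_le hKS
  have := finite_of_le (h.le.trans hKS)
  obtain ⟨a, ha⟩ := IsPGroup.iff_card.1 (hS.to_le (h.le.trans hKS))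
  obtain ⟨b, hb⟩ := IsPGroup.iff_card.1 (hS.to_le hKS)
  have hlt : Nat.card H < Nat.card K :=
    not_le.1 fun hle => h.ne (eq_of_le_of_natCard_le h.le hle)
  rw [ha, hb] at hlt ⊢
  rw [← pow_succ']
  exact Nat.pow_le_pow_right (Fact.out : p.Prime).pos
    ((Nat.pow_lt_pow_iff_right (Fact.out : p.Prime).one_lt).1 hlt)

variable {P : Subgroup Ω} [Finite P] {d : Ω}

/-- The commutator pairing bounds the index of a centralizer. -/
theorem card_mul_centre_le (hPp : IsPGroup p P) (hdP : d ∈ P) (hd : orderOf d = p)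
    (hcomm : ∀ x ∈ P, ∀ y ∈ P, ⁅x, y⁆ ∈ Subgroup.zpowers d) {W : Subgroup Ω} (hW : W ≤ P)
    (hZW : P ⊓ Subgroup.centralizer (P : Set Ω) ≤ W) :
    Nat.card P * Nat.card ↥(P ⊓ Subgroup.centralizer (P : Set Ω)) ≤
      Nat.card ↥(P ⊓ Subgroup.centralizer (W : Set Ω)) * Nat.card W := by
  classical
  set Z := P ⊓ Subgroup.centralizer (P : Set Ω) with hZ
  have hZP : Z ≤ P := inf_le_left
  obtain ⟨s, hs, hgen, hcard⟩ := Thompson.exists_generators hPp
    (Z := Z.subgroupOf P) (A := W.subgroupOf P) fun x hx => hZW hx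
  set L := (Subgroup.zpowers d).subgroupOf P
  have hLc : Nat.card L = p := by
    rw [Nat.card_congr (Subgroup.subgroupOfEquivOfLe (Subgroup.zpowers_le.2 hdP)).toEquiv,
      Nat.card_zpowers, hd]
  have hrel := Thompson.relIndex_centralizer_le (Z := L) (H := (⊤ : Subgroup P)) s fun t _ h _ => by
    show ((h * t * h⁻¹ * t⁻¹ : P) : Ω) ∈ Subgroup.zpowers d
    simpa [commutatorElement_def] using hcomm _ h.2 _ t.2
  rw [Subgroup.relIndex_top_right, hLc] at hrel
  set C := Subgroup.centralizer (s : Set P)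
  have hC : C.map P.subtype ≤ P ⊓ Subgroup.centralizer (W : Set Ω) := by
    rintro _ ⟨x, hx, rfl⟩
    refine ⟨x.2, Subgroup.mem_centralizer_iff.2 fun w hw => ?_⟩
    have hle : Subgroup.closure (s : Set P) ⊔ Z.subgroupOf P ≤ Subgroup.centralizer {x} := by
      refine sup_le ((Subgroup.closure_le _).2 fun y hy => ?_) fun z hz => ?_
      · exact Subgroup.mem_centralizer_singleton_iff.2 (Subgroup.mem_centralizer_iff.1 hx y hy)
      · exact Subgroup.mem_centralizer_singleton_iff.2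
          (Subtype.ext (Subgroup.mem_centralizer_iff.1 hz.2 x x.2).symm)
    exact congrArg Subtype.val
      (Subgroup.mem_centralizer_singleton_iff.1 (hle (hgen (x := ⟨w, hW hw⟩) hw)))
  have : Finite ↥(P ⊓ Subgroup.centralizer (W : Set Ω)) := finite_of_le inf_le_left
  have hCle : Nat.card C ≤ Nat.card ↥(P ⊓ Subgroup.centralizer (W : Set Ω)) := by
    rw [← Subgroup.card_map_of_injective (K := C) P.subtype_injective]
    exact Subgroup.card_le_of_le hC
  rw [Nat.card_congr (Subgroup.subgroupOfEquivOfLe hZP).toEquiv,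
    Nat.card_congr (Subgroup.subgroupOfEquivOfLe hW).toEquiv] at hcard
  calc Nat.card P * Nat.card Z = Nat.card C * C.index * Nat.card Z := by rw [Subgroup.card_mul_index]
    _ ≤ Nat.card C * p ^ s.card * Nat.card Z := by gcongr
    _ = Nat.card C * (p ^ s.card * Nat.card Z) := by ring
    _ ≤ _ := Nat.mul_le_mul hCle hcard

/-- A self-centralizing abelian subgroup is at most halfway between the centre and the group. -/
theorem card_sq_le (hPp : IsPGroup p P) (hdP : d ∈ P) (hd : orderOf d = p)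
    (hcomm : ∀ x ∈ P, ∀ y ∈ P, ⁅x, y⁆ ∈ Subgroup.zpowers d) {Q : Subgroup Ω} (hQ : Q ≤ P)
    (hab : ∀ x ∈ Q, ∀ y ∈ Q, x * y = y * x) :
    Nat.card Q * Nat.card Q ≤ Nat.card ↥(P ⊓ Subgroup.centralizer (P : Set Ω)) * Nat.card P := by
  classical
  set Z := P ⊓ Subgroup.centralizer (P : Set Ω) with hZ
  have hZP : Z ≤ P := inf_le_left
  set Q' := Q.subgroupOf P
  obtain ⟨s, -, hgen, hcard⟩ := Thompson.exists_generators hPp
    (Z := Q') (A := (⊤ : Subgroup P)) le_top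
  set L := (Subgroup.zpowers d).subgroupOf P
  have hLc : Nat.card L = p := by
    rw [Nat.card_congr (Subgroup.subgroupOfEquivOfLe (Subgroup.zpowers_le.2 hdP)).toEquiv,
      Nat.card_zpowers, hd]
  have hrel := Thompson.relIndex_centralizer_le (Z := L) (H := Q') s fun t _ h _ => by
    show ((h * t * h⁻¹ * t⁻¹ : P) : Ω) ∈ Subgroup.zpowers d
    simpa [commutatorElement_def] using hcomm _ h.2 _ t.2
  rw [hLc] at hrel
  set C := Subgroup.centralizer (s : Set P)
  have hC : (C ⊓ Q') ≤ Z.subgroupOf P := by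
    rintro x ⟨hx, hxQ⟩
    refine ⟨x.2, Subgroup.mem_centralizer_iff.2 fun y hy => ?_⟩
    have hle : Subgroup.closure (s : Set P) ⊔ Q' ≤ Subgroup.centralizer {x} := by
      refine sup_le ((Subgroup.closure_le _).2 fun z hz => ?_) fun z hz => ?_
      · exact Subgroup.mem_centralizer_singleton_iff.2 (Subgroup.mem_centralizer_iff.1 hx z hz)
      · exact Subgroup.mem_centralizer_singleton_iff.2 (Subtype.ext (hab _ hz _ hxQ))
    exact congrArg Subtype.val
      (Subgroup.mem_centralizer_singleton_iff.1 (hle (hgen (Subgroup.mem_top ⟨y, hy⟩))))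
  have hQc : Nat.card Q' = Nat.card Q := Nat.card_congr (Subgroup.subgroupOfEquivOfLe hQ).toEquiv
  have hZc : Nat.card (Z.subgroupOf P) = Nat.card Z :=
    Nat.card_congr (Subgroup.subgroupOfEquivOfLe hZP).toEquiv
  have h1 : Nat.card Q ≤ Nat.card Z * p ^ s.card := by
    rw [← hQc, ← Subgroup.card_mul_index (C.subgroupOf Q'), ← hZc]
    refine Nat.mul_le_mul ?_ hrel
    rw [← Subgroup.card_map_of_injective (K := C.subgroupOf Q') Q'.subtype_injective,
      Subgroup.subgroupOf_map_subtype]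
    exact Subgroup.card_le_of_le hC
  rw [Subgroup.card_top, hQc] at hcard
  calc Nat.card Q * Nat.card Q ≤ Nat.card Z * p ^ s.card * Nat.card Q := Nat.mul_le_mul_right _ h1
    _ = Nat.card Z * (p ^ s.card * Nat.card Q) := by ring
    _ ≤ _ := Nat.mul_le_mul_left _ hcard

end Counting

section Closure

variable {Ω : Type*} [Group Ω] {S : Subgroup Ω} [Finite S] {F : FusionSystem S} {p : ℕ}
  [Fact p.Prime] {P R : Subgroup Ω}

/-- Strong closure at the automizer of a fully normalized subgroup. -/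
theorem exists_move (hS : IsPGroup p S) (hF : F.IsSaturated p) (hP : F.StronglyClosed P)
    (hR : F.IsFullyNormalized R) {ψ : MulAut R} (hψ : ψ ∈ F.autGroup R) {g : Ω} (hg : g ∈ P)
    (hgN : g ∈ Subgroup.normalizer (R : Set Ω)) (h : ψ * conjAut R hgN * ψ⁻¹ ∈ autInducedBy S R) :
    ∃ g', ∃ hg' : g' ∈ Subgroup.normalizer (R : Set Ω), g' ∈ P ∧
      conjAut R hg' = ψ * conjAut R hgN * ψ⁻¹ ∧
        ∀ (j : ℕ) (hj : g ^ j ∈ R), g' ^ j = (ψ ⟨g ^ j, hj⟩ : Ω) := by
  have hψ' : IsIso F ψ := (mem_autGroup hR.1).1 hψ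
  obtain ⟨Ψ, hΨ, hΨe⟩ := receptive_extend (fullyNormalized_props hS hF hR).2 hψ'
  have hgE : g ∈ extender S R (R.subtype.comp ψ.toMonoidHom) :=
    (mem_extender_iso ψ).2 ⟨⟨hP.1 hg, hgN⟩, by rw [congr_eq_conj]; exact h⟩
  obtain ⟨hh, heq⟩ := extension_conj (e := ψ) (le_extender hψ') hΨe (g := ⟨g, hgE⟩) hgN
  refine ⟨Ψ ⟨g, hgE⟩, hh, map_mem_of_stronglyClosed hP hΨ _ hg, by rw [← heq, congr_eq_conj],
    fun j hj => ?_⟩
  rw [← map_pow, ← hΨe ⟨g ^ j, hj⟩ (pow_mem hgE j)]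
  rfl

/-- Two conjugates of elements of `Aut_P(R)` lying in a common `p`-group move simultaneously into
`Aut_P(R)`. -/
theorem exists_common (hS : IsPGroup p S) (hF : F.IsSaturated p) (hP : F.StronglyClosed P)
    (hR : F.IsFullyNormalized R) {T : Subgroup (MulAut R)} (hT : T ≤ F.autGroup R) (hTp : IsPGroup p T)
    {φ₁ φ₂ : MulAut R} (hφ₁ : φ₁ ∈ F.autGroup R) (hφ₂ : φ₂ ∈ F.autGroup R) {g₁ g₂ : Ω}
    (hg₁ : g₁ ∈ P) (hg₂ : g₂ ∈ P) (hg₁N : g₁ ∈ Subgroup.normalizer (R : Set Ω))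
    (hg₂N : g₂ ∈ Subgroup.normalizer (R : Set Ω)) (h₁ : φ₁ * conjAut R hg₁N * φ₁⁻¹ ∈ T)
    (h₂ : φ₂ * conjAut R hg₂N * φ₂⁻¹ ∈ T) :
    ∃ θ ∈ F.autGroup R, ∃ x y, ∃ (hx : x ∈ Subgroup.normalizer (R : Set Ω))
      (hy : y ∈ Subgroup.normalizer (R : Set Ω)), x ∈ P ∧ y ∈ P ∧
        conjAut R hx = θ * (φ₁ * conjAut R hg₁N * φ₁⁻¹) * θ⁻¹ ∧
        conjAut R hy = θ * (φ₂ * conjAut R hg₂N * φ₂⁻¹) * θ⁻¹ := by
  have := finite_mulAut hR.1
  obtain ⟨-, hsyl⟩ := isFullyAutomized_iff.1 (fullyNormalized_props hS hF hR).1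
  obtain ⟨θ, hθ, hθT⟩ := hsyl.exists_conj_le hT hTp
  have hgen : ∀ (φ : MulAut R) (_ : φ ∈ F.autGroup R) (g : Ω) (hg : g ∈ P)
      (hgN : g ∈ Subgroup.normalizer (R : Set Ω)), φ * conjAut R hgN * φ⁻¹ ∈ T →
      ∃ x, ∃ hx : x ∈ Subgroup.normalizer (R : Set Ω), x ∈ P ∧
        conjAut R hx = θ * (φ * conjAut R hgN * φ⁻¹) * θ⁻¹ := by
    intro φ hφ g hg hgN h
    obtain ⟨x, hx, hxP, hxe, -⟩ := exists_move hS hF hP hR (mul_mem hθ hφ) hg hgN (by
      have := hθT _ h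
      simpa [mul_assoc, mul_inv_rev] using this)
    exact ⟨x, hx, hxP, by rw [hxe, mul_inv_rev]; simp [mul_assoc]⟩
  obtain ⟨x, hx, hxP, hxe⟩ := hgen φ₁ hφ₁ g₁ hg₁ hg₁N h₁
  obtain ⟨y, hy, hyP, hye⟩ := hgen φ₂ hφ₂ g₂ hg₂ hg₂N h₂
  exact ⟨θ, hθ, x, y, hx, hy, hxP, hyP, hxe, hye⟩

end Closure

end Cfsg.Agent.Lib.LocalP2.GenExtra
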