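import Mathlib
import Cfsg.Agent.Lib.Transfer.Alperin
import Cfsg.Agent.Lib.Transfer.Tate
import Cfsg.Agent.Lib.PGroupFrattini
import Cfsg.Agent.Lib.LocalFusion.Ito
import Cfsg.Agent.Lib.Coprime.Action

/-! H-subgroups of fixed order in a Sylow subgroup, smallest prime (helper19). -/

namespace Cfsg.Agent.Lib.LocalP2

open Subgroup
open scoped commutatorElement

variable {G : Type*} [Group G] [Finite G] {p : ℕ} [Fact p.Prime]

/-- An H-subgroup inside a p-group is normalized by it. -/
theorem hsub_le_normalizer {E P : Subgroup G} (hP : IsPGroup p P) (hEP : E ≤ P)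
    (hH : ∀ g : G, E.map (MulAut.conj g).toMonoidHom ⊓ normalizer (E : Set G) ≤ E) :
    P ≤ normalizer (E : Set G) := by
  by_contra hne
  set T := P ⊓ normalizer (E : Set G) with hT
  have hTlt : T < P := lt_of_le_of_ne inf_le_left fun h => hne (h ▸ inf_le_right)
  obtain ⟨n, hn, hnT⟩ := SetLike.exists_of_lt (Lib.Transfer.lt_inf_normalizer hP hTlt)
  refine hnT ⟨hn.1, ?_⟩
  have hle : ∀ e ∈ E, n * e * n⁻¹ ∈ E := fun e he => by
    refine hH n ⟨⟨e, he, rfl⟩, ?_⟩
    exact ((Subgroup.mem_normalizer_iff.1 hn.2 e).1 ⟨hEP he, le_normalizer he⟩).2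
  have heq : E.map (MulAut.conj n).toMonoidHom = E := by
    refine Subgroup.eq_of_le_of_card_ge ?_ ?_
    · rintro _ ⟨e, he, rfl⟩; exact hle e he
    · rw [card_map_of_injective (MulAut.conj n).injective]
  show n ∈ normalizer (E : Set G)
  rw [Subgroup.mem_normalizer_iff]
  refine fun y => ⟨hle y, fun hy => ?_⟩
  rw [← heq] at hy
  obtain ⟨e, he, hee⟩ := hy
  have : e = y := (MulAut.conj n).injective hee
  exact this ▸ he

/-- An H-subgroup inside a Sylow subgroup is strongly closed in it. -/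
theorem hsub_strongly_closed {E P : Subgroup G} (hP : IsPGroup p P) (hEP : E ≤ P)
    (hH : ∀ g : G, E.map (MulAut.conj g).toMonoidHom ⊓ normalizer (E : Set G) ≤ E)
    {g y : G} (hy : y ∈ E) (hgy : g * y * g⁻¹ ∈ P) : g * y * g⁻¹ ∈ E :=
  hH g ⟨⟨y, hy, rfl⟩, hsub_le_normalizer hP hEP hH hgy⟩

/-- A `p'`-element of order prime to `p - 1` centralizes every cyclic p-group it normalizes. -/
theorem centralize_of_cyclic {E : Subgroup G} (hE : IsPGroup p E) [IsCyclic E] {g : G}
    (hg : g ∈ normalizer (E : Set G)) (hgp : (orderOf g).Coprime p) (hg1 : (orderOf g).Coprime (p - 1)) :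
    ∀ y ∈ E, g * y * g⁻¹ = y := by
  have hp : p.Prime := Fact.out
  intro y hy
  set α := normalizerMonoidHom E ⟨g, hg⟩ with hα
  have hdvd : orderOf α ∣ orderOf g := by
    have h1 := orderOf_map_dvd (normalizerMonoidHom E) ⟨g, hg⟩
    rwa [orderOf_mk] at h1
  have hcop : (Nat.card (MulAut E)).Coprime (orderOf g) := by
    rw [IsCyclic.card_mulAut]
    obtain ⟨k, hk⟩ := IsPGroup.iff_card.1 hE
    rw [hk]
    rcases k with _ | k
    · simp
    · rw [Nat.totient_prime_pow_succ hp]
      exact Nat.Coprime.mul_left (Nat.Coprime.pow_left k hgp.symm) hg1.symm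
  have hα1 : α = 1 := orderOf_eq_one_iff.1 (Nat.eq_one_of_dvd_coprimes hcop (_root_.orderOf_dvd_natCard _) hdvd)
  have h2 := congrArg Subtype.val (DFunLike.congr_fun hα1 (⟨y, hy⟩ : E))
  simpa [hα] using h2

/-- A `p'`-element of order prime to `p - 1` acts trivially on an invariant section of order `p`. -/
theorem trivial_on_prime_section {R R₀ : Subgroup G} (hR : IsPGroup p R) (hR₀ : R₀ ≤ R)
    (hidx : R₀.relIndex R = p) {g : G} (hg : g ∈ normalizer (R : Set G))
    (hinv : ∀ x ∈ R₀, g * x * g⁻¹ ∈ R₀) (hgp : (orderOf g).Coprime p)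
    (hg1 : (orderOf g).Coprime (p - 1)) :
    ∀ x ∈ R, g * x * g⁻¹ * x⁻¹ ∈ R₀ := by
  have hp : p.Prime := Fact.out
  haveI hn : (R₀.subgroupOf R).Normal := by
    haveI := hR.isNilpotent
    refine Subgroup.normal_of_index_eq_minFac_card ?_
    obtain ⟨k, hk⟩ := IsPGroup.iff_card.1 hR
    show R₀.relIndex R = _
    rw [hidx, hk]
    rcases k with _ | k
    · exfalso
      have h1 := relIndex_dvd_card R₀ R
      rw [hidx, hk, pow_zero] at h1
      exact hp.one_lt.ne' (Nat.dvd_one.1 h1)
    · rw [Nat.pow_minFac k.succ_ne_zero, hp.minFac_eq]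
  set α := normalizerMonoidHom R ⟨g, hg⟩ with hα
  have hval : ∀ x : R, ((α x : R) : G) = g * x * g⁻¹ := fun x => by simp [hα]
  have hmap : (R₀.subgroupOf R).map (α : R →* R) = R₀.subgroupOf R := by
    refine Subgroup.eq_of_le_of_card_ge ?_ (le_of_eq ?_)
    swap
    · exact Nat.card_congr ((R₀.subgroupOf R).equivMapOfInjective (α : R →* R) α.injective).toEquiv
    rintro _ ⟨x, hx, rfl⟩
    rw [mem_subgroupOf, MonoidHom.coe_coe, hval]
    exact hinv _ hx
  set β : MulAut (R ⧸ R₀.subgroupOf R) := QuotientGroup.congr _ _ α hmap with hβ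
  have hpow : ∀ (n : ℕ) (x : R), (β ^ n) (x : R ⧸ R₀.subgroupOf R) = ((α ^ n) x : R) := by
    intro n
    induction n with
    | zero => intro x; simp
    | succ n ih =>
      intro x
      rw [pow_succ, MulAut.mul_apply, show β (x : R ⧸ R₀.subgroupOf R) = ((α x : R) : R ⧸ R₀.subgroupOf R) from rfl, ih,
        pow_succ α n, MulAut.mul_apply]
  have hdvd : orderOf β ∣ orderOf g := by
    have h1 : orderOf α ∣ orderOf g := by
      have h1 := orderOf_map_dvd (normalizerMonoidHom R) ⟨g, hg⟩
      rwa [orderOf_mk] at h1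
    refine (orderOf_dvd_of_pow_eq_one ?_).trans h1
    ext q
    obtain ⟨x, rfl⟩ := QuotientGroup.mk_surjective q
    rw [hpow, pow_orderOf_eq_one]
    rfl
  have hcard : Nat.card (R ⧸ R₀.subgroupOf R) = p := hidx
  haveI : IsCyclic (R ⧸ R₀.subgroupOf R) := isCyclic_of_prime_card hcard
  have hcop : (Nat.card (MulAut (R ⧸ R₀.subgroupOf R))).Coprime (orderOf g) := by
    rw [IsCyclic.card_mulAut, hcard, Nat.totient_prime hp]
    exact hg1.symm
  have hβ1 : β = 1 := orderOf_eq_one_iff.1 (Nat.eq_one_of_dvd_coprimes hcop (_root_.orderOf_dvd_natCard _) hdvd)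
  intro x hx
  have h2 := hpow 1 ⟨x, hx⟩
  rw [pow_one, hβ1, MulAut.one_apply, pow_one, QuotientGroup.eq, mem_subgroupOf] at h2
  have h3 : x⁻¹ * (g * x * g⁻¹) ∈ R₀ := by simpa [hval, mul_assoc] using h2
  have hxN : x ∈ normalizer (R₀ : Set G) := (Subgroup.normal_subgroupOf_iff_le_normalizer hR₀).1 hn hx
  have h4 := (Subgroup.mem_normalizer_iff.1 hxN _).1 h3
  simpa [mul_assoc] using h4

/-- A p'-element moving a Sylow p-subgroup trivially modulo its Frattini subgroup at every Alperin step: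
the group has a normal p-complement. -/
theorem hasNormalPComplement_of_fusion_mod_frattini (P : Sylow p G)
    (h : ∀ R : Subgroup G, R ≤ (P : Subgroup G) → ∀ g ∈ normalizer (R : Set G), (orderOf g).Coprime p →
      ∀ x ∈ R, g * x * g⁻¹ * x⁻¹ ∈ (frattini (P : Subgroup G)).map (P : Subgroup G).subtype) :
    HasNormalPComplement p G := by
  set Φ := (frattini (P : Subgroup G)).map (P : Subgroup G).subtype with hΦdef
  have hP : IsPGroup p (P : Subgroup G) := P.2
  have hΦP : Φ ≤ (P : Subgroup G) := map_subtype_le _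
  have hPn : (P : Subgroup G) ≤ normalizer (Φ : Set G) := by
    have := (le_normalizer_map (H := frattini (P : Subgroup G)) (P : Subgroup G).subtype)
    rwa [normalizer_eq_top, ← MonoidHom.range_eq_map, range_subtype] at this
  have hcomm : ∀ a ∈ (P : Subgroup G), ∀ b ∈ (P : Subgroup G), a * b * a⁻¹ * b⁻¹ ∈ Φ := fun a ha b hb =>
    ⟨⟨a, ha⟩ * ⟨b, hb⟩ * ⟨a, ha⟩⁻¹ * ⟨b, hb⟩⁻¹,
      Lib.PGroupFrattini.commutator_le_frattini hP
        (by rw [← commutatorElement_def]; exact commutator_mem_commutator (mem_top _) (mem_top _)),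
      by simp⟩
  -- one Alperin step
  have hstep : ∀ (D : Subgroup G), D ≤ (P : Subgroup G) →
      ¬ p ∣ ((P : Subgroup G) ⊓ normalizer (D : Set G)).relIndex (normalizer (D : Set G)) →
      ∀ g ∈ normalizer (D : Set G), ∀ x ∈ D, g * x * g⁻¹ * x⁻¹ ∈ Φ := by
    intro D hDP htame
    set N := normalizer (D : Set G) with hN
    let W : Subgroup G :=
      { carrier := {g | g ∈ N ∧ ∀ x ∈ D, g * x * g⁻¹ * x⁻¹ ∈ Φ}
        one_mem' := ⟨one_mem _, fun x _ => by simp⟩
        mul_mem' := by
          rintro a b ⟨ha, ha'⟩ ⟨hb, hb'⟩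
          refine ⟨mul_mem ha hb, fun x hx => ?_⟩
          have hbx : b * x * b⁻¹ ∈ D := (Subgroup.mem_normalizer_iff.1 hb x).1 hx
          have := mul_mem (ha' _ hbx) (hb' x hx)
          simpa [mul_assoc] using this
        inv_mem' := by
          rintro a ⟨ha, ha'⟩
          refine ⟨inv_mem ha, fun x hx => ?_⟩
          have hax : a⁻¹ * x * a ∈ D := by
            simpa using (Subgroup.mem_normalizer_iff.1 (inv_mem ha) x).1 hx
          have := inv_mem (ha' _ hax)
          simpa [mul_assoc] using this }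
    suffices hNW : N ≤ W from fun g hg => (hNW hg).2
    have hTW : ∀ t ∈ (P : Subgroup G) ⊓ N, t ∈ W := fun t ht =>
      ⟨ht.2, fun x hx => hcomm t ht.1 x (hDP hx)⟩
    have hRW : (Cfsg.pResidual p N).map N.subtype ≤ W := by
      rw [Cfsg.pResidual, MonoidHom.map_closure, closure_le]
      rintro _ ⟨g, hg, rfl⟩
      refine ⟨g.2, h D hDP g g.2 ?_⟩
      rwa [Subgroup.orderOf_coe]
    obtain ⟨S, hS⟩ := Lib.Transfer.exists_sylow_subgroupOf (p := p) (H := N)
      (P.2.to_inf_left (K := N)) inf_le_right htame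
    have h1 := Lib.Transfer.pResidual_sup_sylow S
    have h2 := congrArg (Subgroup.map N.subtype) h1
    rw [Subgroup.map_sup, ← MonoidHom.range_eq_map, range_subtype] at h2
    rw [← h2]
    refine sup_le hRW ?_
    rintro _ ⟨t, ht, rfl⟩
    rw [hS, SetLike.mem_coe, mem_subgroupOf] at ht
    exact hTW t ht
  -- all fusion is trivial modulo the Frattini subgroup
  have hchain : ∀ (l : List (Sylow p G × G)) (x : G), Lib.Transfer.AlperinChain P l {x} → x ∈ (P : Subgroup G) →
      (Lib.Transfer.chainProd l)⁻¹ * x * Lib.Transfer.chainProd l * x⁻¹ ∈ Φ := by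
    intro l
    induction l with
    | nil => intro x _ _; simp [Lib.Transfer.chainProd]
    | cons s l ih =>
      intro x hl hx
      obtain ⟨⟨hs, htame⟩, hsub, hl'⟩ := hl
      have hxD : x ∈ (P : Subgroup G) ⊓ (s.1 : Subgroup G) := hsub rfl
      have h1 := hstep _ inf_le_left htame.1 _ (inv_mem hs) x hxD
      rw [inv_inv] at h1
      rw [Set.image_singleton] at hl'
      have hxP' : s.2⁻¹ * x * s.2 ∈ (P : Subgroup G) := by
        have := mul_mem (hΦP h1) hx
        simpa [mul_assoc] using this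
      have h2 := ih _ hl' hxP'
      have := mul_mem h2 h1
      have e : Lib.Transfer.chainProd (s :: l) = s.2 * Lib.Transfer.chainProd l := by
        simp [Lib.Transfer.chainProd]
      rw [e]
      simpa [mul_assoc] using this
  have hfus : ∀ x ∈ (P : Subgroup G), ∀ g : G, g⁻¹ * x * g ∈ (P : Subgroup G) → g⁻¹ * x * g * x⁻¹ ∈ Φ := by
    intro x hx g hgx
    obtain ⟨l, hl, hlg⟩ := Lib.Transfer.alperin P {x} g (Set.singleton_subset_iff.2 hx)
      (by rw [Set.image_singleton]; exact Set.singleton_subset_iff.2 hgx)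
    subst hlg
    exact hchain l x hl hx
  have hfocal : (P : Subgroup G).focalSubgroup ≤ Φ := by
    rw [focalSubgroup_def, closure_le]
    rintro g ⟨hg, x, hx, u, rfl⟩
    have hu : u * x⁻¹ * u⁻¹ ∈ (P : Subgroup G) := by
      have e : u * x⁻¹ * u⁻¹ = x⁻¹ * ⁅x, u⁆ := by rw [commutatorElement_def]; group
      rw [e]; exact mul_mem (inv_mem hx) hg
    have h1 := hfus x⁻¹ (inv_mem hx) u⁻¹ (by simpa using hu)
    rw [inv_inv, inv_inv] at h1
    have h2 := (Subgroup.mem_normalizer_iff.1 (hPn hx) _).1 h1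
    show ⁅x, u⁆ ∈ Φ
    rw [commutatorElement_def]
    simpa [mul_assoc] using h2
  have hN : HasNormalPComplement p (Cfsg.pResidual p G) :=
    Lib.Transfer.tate P (Cfsg.pResidual p G) ((Lib.Transfer.pResidual_inf_le_focal P).trans hfocal)
  rw [Lib.Transfer.hasNormalPComplement_iff] at hN ⊢
  rwa [Lib.Transfer.pResidual_pResidual, card_top] at hN

end Cfsg.Agent.Lib.LocalP2

namespace Cfsg.Agent.Lib.LocalP2

open Subgroup

variable {G : Type*} [Group G] [Finite G] {p : ℕ} [Fact p.Prime]

/-- A coatom of a p-subgroup cuts a subgroup not inside it in index `p`. -/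
theorem relIndex_coatom {P R M : Subgroup G} (hP : IsPGroup p P) (hMP : M ≤ P)
    (hM : IsCoatom (M.subgroupOf P)) (hRP : R ≤ P) (hRM : ¬ R ≤ M) : (M ⊓ R).relIndex R = p := by
  obtain ⟨hn, hi⟩ := Lib.PGroupFrattini.coatom_index hP hM
  rw [inf_relIndex_right]
  have hdvd : M.relIndex R ∣ p := by
    have h1 : (M.subgroupOf P).relIndex (R.subgroupOf P) ∣ (M.subgroupOf P).index :=
      relIndex_dvd_index_of_normal _ _
    rwa [hi, relIndex_subgroupOf hRP] at h1
  exact ((Nat.dvd_prime Fact.out).1 hdvd).resolve_left fun h => hRM (relIndex_eq_one.1 h)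

/-- A `p'`-element acts trivially modulo Frattini if it fixes every coatom trace. -/
theorem commutator_mem_frattini_map {P : Subgroup G} {z : G} (hz : z ∈ P)
    (h : ∀ M : Subgroup G, M ≤ P → IsCoatom (M.subgroupOf P) → z ∈ M) :
    z ∈ (frattini P).map P.subtype := by
  refine ⟨⟨z, hz⟩, ?_, rfl⟩
  show (⟨z, hz⟩ : P) ∈ frattini P
  simp only [frattini, Order.radical, mem_iInf]
  intro K hK
  have hsub : (K.map P.subtype).subgroupOf P = K := by
    rw [subgroupOf, comap_map_eq_self_of_injective P.subtype_injective]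
  obtain ⟨k, hk, hke⟩ := h (K.map P.subtype) (map_subtype_le K) (hsub.symm ▸ hK)
  have : k = ⟨z, hz⟩ := P.subtype_injective hke
  exact this ▸ hk

/-- Coprime to `p (p - 1)` elements normalizing a subgroup and all its maximal subgroups centralize it. -/
theorem centralize_of_coatoms_invariant {U : Subgroup G} (hU : IsPGroup p U) (hUnc : ¬ IsCyclic U)
    {g : G} (hinv : ∀ M : Subgroup G, M ≤ U → IsCoatom (M.subgroupOf U) → ∀ x ∈ M, g * x * g⁻¹ ∈ M)
    (hgp : (orderOf g).Coprime p) (hg1 : (orderOf g).Coprime (p - 1)) :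
    ∀ x ∈ U, g * x * g⁻¹ = x := by
  have hp : p.Prime := Fact.out
  have hgU : g ∈ normalizer (U : Set G) := by
    have hle : ∀ x ∈ U, g * x * g⁻¹ ∈ U := by
      intro x hx
      have hne : (zpowers (⟨x, hx⟩ : U)) ≠ ⊤ := fun h => hUnc (isCyclic_iff_exists_zpowers_eq_top.2 ⟨_, h⟩)
      obtain ⟨K, hK, hle⟩ := (eq_top_or_exists_le_coatom (zpowers (⟨x, hx⟩ : U))).resolve_left hne
      have hsub : (K.map U.subtype).subgroupOf U = K := by
        rw [subgroupOf, comap_map_eq_self_of_injective U.subtype_injective]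
      exact map_subtype_le K
        (hinv (K.map U.subtype) (map_subtype_le K) (hsub.symm ▸ hK) x ⟨_, hle (mem_zpowers _), rfl⟩)
    rw [Subgroup.mem_normalizer_iff]
    have heq : U.map (MulAut.conj g).toMonoidHom = U := by
      refine Subgroup.eq_of_le_of_card_ge ?_ ?_
      · rintro _ ⟨e, he, rfl⟩; exact hle e he
      · rw [card_map_of_injective (MulAut.conj g).injective]
    refine fun y => ⟨hle y, fun hy => ?_⟩
    rw [← heq] at hy
    obtain ⟨e, he, hee⟩ := hy
    have : e = y := (MulAut.conj g).injective hee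
    exact this ▸ he
  have htriv : ∀ x ∈ U, g * x * g⁻¹ * x⁻¹ ∈ (frattini U).map U.subtype := by
    intro x hx
    refine commutator_mem_frattini_map ?_ fun M hMU hM => ?_
    · exact U.mul_mem ((Subgroup.mem_normalizer_iff.1 hgU x).1 hx) (U.inv_mem hx)
    · have hnot : ¬ U ≤ M := fun h => hM.1 (subgroupOf_eq_top.2 h)
      have hidx := relIndex_coatom hU hMU hM le_rfl hnot
      rw [inf_eq_left.2 hMU] at hidx
      exact trivial_on_prime_section hU hMU hidx hgU (hinv M hMU hM) hgp hg1 x hx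
  let A : Subgroup G :=
    { carrier := {a | a ∈ normalizer (U : Set G) ∧ ∀ x ∈ U, a * x * a⁻¹ * x⁻¹ ∈ (frattini U).map U.subtype}
      one_mem' := ⟨one_mem _, fun x _ => by simp⟩
      mul_mem' := by
        rintro a b ⟨ha, ha'⟩ ⟨hb, hb'⟩
        refine ⟨mul_mem ha hb, fun x hx => ?_⟩
        have := mul_mem (ha' _ ((Subgroup.mem_normalizer_iff.1 hb x).1 hx)) (hb' x hx)
        simpa [mul_assoc] using this
      inv_mem' := by
        rintro a ⟨ha, ha'⟩
        refine ⟨inv_mem ha, fun x hx => ?_⟩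
        have hax : a⁻¹ * x * a ∈ U := by
          simpa using (Subgroup.mem_normalizer_iff.1 (inv_mem ha) x).1 hx
        have := inv_mem (ha' _ hax)
        simpa [mul_assoc] using this }
  have hgA : zpowers g ≤ A := zpowers_le.2 ⟨hgU, htriv⟩
  have hcent := Lib.Coprime.le_centralizer_of_frattini (A := zpowers g) (K := U) (zpowers_le.2 hgU) ?_
    (fun a ha => (hgA ha).2)
  · intro x hx
    have := mem_centralizer_iff.1 (hcent (mem_zpowers g)) x hx
    rw [← this]; group
  · obtain ⟨k, hk⟩ := IsPGroup.iff_card.1 (hU.to_subgroup (frattini U))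
    rw [Nat.card_zpowers, hk]
    exact Nat.Coprime.pow_right k hgp

/-- Smallest prime: if all subgroups of `P` of a fixed order `p ^ d` (`d ≥ 2` for `p = 2`) are H-subgroups,
there is a normal p-complement. -/
theorem hasNormalPComplement_of_hsub (P : Sylow p G)
    (hmin : ∀ q : ℕ, q.Prime → q ∣ Nat.card G → p ≤ q) {d : ℕ}
    (hd : p ^ d < Nat.card (P : Subgroup G)) (hd2 : p = 2 → 2 ≤ d ∨ Nat.card (P : Subgroup G) = 4) (hd1 : 1 ≤ d)
    (hH : ∀ E : Subgroup G, E ≤ (P : Subgroup G) → Nat.card E = p ^ d →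
      ∀ g : G, E.map (MulAut.conj g).toMonoidHom ⊓ normalizer (E : Set G) ≤ E) :
    HasNormalPComplement p G := by
  have hp : p.Prime := Fact.out
  have hP : IsPGroup p (P : Subgroup G) := P.2
  have hg1 : ∀ g : G, (orderOf g).Coprime p → (orderOf g).Coprime (p - 1) := by
    intro g _
    refine Nat.coprime_of_dvd fun q hq h1 h2 => ?_
    have h3 := hmin q hq (h1.trans (orderOf_dvd_natCard g))
    have := hp.two_le
    have h4 := Nat.le_of_dvd (by omega) h2
    omega
  have hclosed : ∀ E : Subgroup G, E ≤ (P : Subgroup G) → Nat.card E = p ^ d → ∀ g : G, ∀ y ∈ E,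
      g * y * g⁻¹ ∈ (P : Subgroup G) → g * y * g⁻¹ ∈ E :=
    fun E hE hc g y hy hgy => hsub_strongly_closed hP hE (hH E hE hc) hy hgy
  obtain ⟨n, hn⟩ := IsPGroup.iff_card.1 hP
  have hdn : d + 1 ≤ n := by rw [hn] at hd; exact (Nat.pow_lt_pow_iff_right hp.one_lt).1 hd
  refine hasNormalPComplement_of_fusion_mod_frattini P fun R hRP g hg hgp x hx => ?_
  have hR : IsPGroup p R := hP.to_le hRP
  obtain ⟨r, hr⟩ := IsPGroup.iff_card.1 hR
  have hgR : ∀ y ∈ R, g * y * g⁻¹ ∈ R := fun y hy => (Subgroup.mem_normalizer_iff.1 hg y).1 hy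
  by_cases hbig : d < r
  · suffices hfix : ∀ y ∈ R, g * y * g⁻¹ = y by
      rw [hfix x hx, mul_inv_cancel]; exact one_mem _
    refine Lib.LocalFusion.centralizes_of_fix_small hgp R hR hg fun a ha hsmall => ?_
    obtain ⟨j, hj⟩ : ∃ j, orderOf a = p ^ j := by
      obtain ⟨j, hj⟩ := IsPGroup.iff_orderOf.1 hR ⟨a, ha⟩
      exact ⟨j, by rwa [Subgroup.orderOf_mk] at hj⟩
    by_cases hjd : j ≤ d
    · -- a lies in an invariant subgroup of order p^d
      have hz : Nat.card ((zpowers a).subgroupOf R) = p ^ j := by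
        rw [Nat.card_congr (subgroupOfEquivOfLe (zpowers_le.2 ha)).toEquiv, Nat.card_zpowers, hj]
      obtain ⟨E₀, hE₀, hzE⟩ := Sylow.exists_subgroup_card_pow_prime_le p
        (hr ▸ pow_dvd_pow p hbig.le : p ^ d ∣ Nat.card R) _ hz hjd
      have hE₀m : Nat.card (E₀.map R.subtype) = p ^ d := by
        rw [card_map_of_injective R.subtype_injective, hE₀]
      have hER : E₀.map R.subtype ≤ R := map_subtype_le E₀
      have haE : a ∈ E₀.map R.subtype := ⟨⟨a, ha⟩, hzE (mem_zpowers a), rfl⟩
      have hEinv : ∀ y ∈ E₀.map R.subtype, g * y * g⁻¹ ∈ E₀.map R.subtype := fun y hy =>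
        hclosed _ (hER.trans hRP) hE₀m g y hy (hRP (hgR y (hER hy)))
      by_cases hcyc : IsCyclic (E₀.map R.subtype)
      · have hgE : g ∈ normalizer (E₀.map R.subtype : Set G) := by
          rw [Subgroup.mem_normalizer_iff]
          have heq : (E₀.map R.subtype).map (MulAut.conj g).toMonoidHom = E₀.map R.subtype := by
            refine Subgroup.eq_of_le_of_card_ge ?_ (le_of_eq ?_)
            · rintro _ ⟨e, he, rfl⟩; exact hEinv e he
            · exact Nat.card_congr ((E₀.map R.subtype).equivMapOfInjective _ (MulAut.conj g).injective).toEquiv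
          refine fun y => ⟨hEinv y, fun hy => ?_⟩
          rw [← heq] at hy
          obtain ⟨e, he, hee⟩ := hy
          have : e = y := (MulAut.conj g).injective hee
          exact this ▸ he
        exact centralize_of_cyclic (hR.to_le hER) hgE hgp (hg1 g hgp) a haE
      · obtain ⟨U₀, hU₀, hEU⟩ := Sylow.exists_subgroup_card_pow_prime_le p
          (hr ▸ pow_dvd_pow p hbig : p ^ (d + 1) ∣ Nat.card R) E₀ hE₀ (Nat.le_succ d)
        have hUR : U₀.map R.subtype ≤ R := map_subtype_le U₀
        have hEUm : E₀.map R.subtype ≤ U₀.map R.subtype := map_mono hEU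
        refine centralize_of_coatoms_invariant (hR.to_le hUR) (fun hUc => hcyc ?_) ?_ hgp (hg1 g hgp) a
          (hEUm haE)
        · haveI := hUc
          exact isCyclic_of_injective (inclusion hEUm) (inclusion_injective hEUm)
        · intro M hMU hM y hy
          refine hclosed M ((hMU.trans hUR).trans hRP) ?_ g y hy (hRP (hgR y (hUR (hMU hy))))
          obtain ⟨-, hi⟩ := Lib.PGroupFrattini.coatom_index (hR.to_le hUR) hM
          have h1 := card_mul_index (M.subgroupOf (U₀.map R.subtype))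
          rw [hi, Nat.card_congr (subgroupOfEquivOfLe hMU).toEquiv, card_map_of_injective R.subtype_injective,
            hU₀, pow_succ] at h1
          exact Nat.eq_of_mul_eq_mul_right hp.pos h1
    · -- p = 2, |P| = 4, a of order 4
      push Not at hjd
      rcases hsmall with ha1 | ⟨h2, ha4⟩
      · exfalso
        have h1 := orderOf_dvd_of_pow_eq_one ha1
        rw [hj] at h1
        have := (Nat.pow_dvd_pow_iff_le_right hp.one_lt).1 (h1.trans (pow_one p).symm.dvd)
        omega
      · subst h2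
        have h1 := orderOf_dvd_of_pow_eq_one ha4
        rw [hj, show (4 : ℕ) = 2 ^ 2 from rfl] at h1
        have h2 := (Nat.pow_dvd_pow_iff_le_right Nat.one_lt_two).1 h1
        have h4 : Nat.card (P : Subgroup G) = 4 := (hd2 rfl).resolve_left (by omega)
        have hzR : zpowers a = R := by
          refine Subgroup.eq_of_le_of_card_ge (zpowers_le.2 ha) ?_
          rw [Nat.card_zpowers, hj, show j = 2 by omega]
          exact (Subgroup.card_le_of_le hRP).trans h4.le
        subst hzR
        exact centralize_of_cyclic hR hg hgp (hg1 g hgp) a ha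
  · -- R has order at most p^d
    push Not at hbig
    obtain ⟨U₀, hU₀, hRU⟩ := Sylow.exists_subgroup_card_pow_prime_le p
      (hn ▸ pow_dvd_pow p hdn : p ^ (d + 1) ∣ Nat.card (P : Subgroup G)) (R.subgroupOf P)
      (by rw [Nat.card_congr (subgroupOfEquivOfLe hRP).toEquiv, hr]) (hbig.trans (Nat.le_succ d))
    set U := U₀.map (P : Subgroup G).subtype with hUdef
    have hUP : U ≤ (P : Subgroup G) := map_subtype_le U₀
    have hRUm : R ≤ U := fun y hy => ⟨⟨y, hRP hy⟩, hRU (mem_subgroupOf.2 hy), rfl⟩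
    refine commutator_mem_frattini_map ?_ fun M hMP hM => ?_
    · exact mul_mem (hRP (hgR x hx)) (inv_mem (hRP hx))
    by_cases hRM : R ≤ M
    · exact mul_mem (hRM (hgR x hx)) (inv_mem (hRM hx))
    have hUM : ¬ U ≤ M := fun h => hRM (hRUm.trans h)
    have hEc : Nat.card ↥(M ⊓ U) = p ^ d := by
      have h1 := relIndex_coatom hP hMP hM hUP hUM
      have h2 : Nat.card ↥(M ⊓ U) * (M ⊓ U).relIndex U = Nat.card U := by
        rw [relIndex, ← card_mul_index ((M ⊓ U).subgroupOf U),
          Nat.card_congr (subgroupOfEquivOfLe (inf_le_right : M ⊓ U ≤ U)).toEquiv]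
      rw [h1, hUdef, card_map_of_injective (P : Subgroup G).subtype_injective, hU₀, pow_succ] at h2
      exact Nat.eq_of_mul_eq_mul_right hp.pos h2
    have hidx := relIndex_coatom hP hMP hM hRP hRM
    have hinv : ∀ y ∈ M ⊓ R, g * y * g⁻¹ ∈ M ⊓ R := fun y hy =>
      ⟨(hclosed (M ⊓ U) (inf_le_left.trans hMP) hEc g y ⟨hy.1, hRUm hy.2⟩ (hRP (hgR y hy.2))).1, hgR y hy.2⟩
    exact (trivial_on_prime_section hR inf_le_right hidx hg hinv hgp (hg1 g hgp) x hx).1

/-- Smallest prime and cyclic Sylow subgroup: normal p-complement. -/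
theorem hasNormalPComplement_of_cyclic_smallest (P : Sylow p G)
    (hmin : ∀ q : ℕ, q.Prime → q ∣ Nat.card G → p ≤ q) [IsCyclic (P : Subgroup G)] :
    HasNormalPComplement p G := by
  have hp : p.Prime := Fact.out
  refine hasNormalPComplement_of_fusion_mod_frattini P fun R hRP g hg hgp x hx => ?_
  have hg1 : (orderOf g).Coprime (p - 1) := by
    refine Nat.coprime_of_dvd fun q hq h1 h2 => ?_
    have h3 := hmin q hq (h1.trans (orderOf_dvd_natCard g))
    have := hp.two_le
    have h4 := Nat.le_of_dvd (by omega) h2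
    omega
  haveI : IsCyclic R := isCyclic_of_injective (inclusion hRP) (inclusion_injective hRP)
  rw [centralize_of_cyclic (P.2.to_le hRP) hg hgp hg1 x hx, mul_inv_cancel]
  exact one_mem _

end Cfsg.Agent.Lib.LocalP2
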