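import Mathlib
import Cfsg.Prelude.Def_IsolatedElements

/-! Basic facts on isolated elements and on p-subgroups (helper19). -/

namespace Cfsg.Agent.Lib.LocalP2

variable {G : Type*} [Group G]

/-- A finite p-group of `G` containing an isolated element centralizes it. -/
theorem isolated_comm_of_pGroup [Finite G] {p : ℕ} [Fact p.Prime] {x : G} (hiso : Cfsg.IsIsolated x)
    {R : Subgroup G} (hR : IsPGroup p R) (hx : x ∈ R) {r : G} (hr : r ∈ R) : r * x * r⁻¹ = x := by
  have hnil : Group.IsNilpotent R := hR.isNilpotent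
  set C : Subgroup R := Subgroup.centralizer {(⟨x, hx⟩ : R)} with hC
  by_cases htop : C = ⊤
  · have hm : (⟨r, hr⟩ : R) ∈ C := htop ▸ Subgroup.mem_top _
    rw [hC, Subgroup.mem_centralizer_singleton_iff] at hm
    have hm' : r * x = x * r := congrArg Subtype.val hm
    rw [hm']; group
  · exfalso
    have hlt : C < Subgroup.normalizer (C : Set R) :=
      Group.normalizerCondition_of_isNilpotent C (lt_top_iff_ne_top.2 htop)
    obtain ⟨n, hn, hnC⟩ := SetLike.exists_of_lt hlt
    apply hnC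
    have hxC : (⟨x, hx⟩ : R) ∈ C := by
      rw [hC, Subgroup.mem_centralizer_singleton_iff]
    have h2 := (Subgroup.mem_normalizer_iff.1 hn ⟨x, hx⟩).1 hxC
    rw [hC, Subgroup.mem_centralizer_singleton_iff] at h2
    have h3 : (n : G) * x * (n : G)⁻¹ * x = x * ((n : G) * x * (n : G)⁻¹) := by
      simpa using congrArg Subtype.val h2
    have h4 := hiso (n : G) h3.symm
    rw [hC, Subgroup.mem_centralizer_singleton_iff]
    apply Subtype.ext
    have : (n : G) * x = x * (n : G) := by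
      conv_rhs => rw [← h4]
      group
    simpa using this

/-- An isolated element is the only conjugate of itself in a p-subgroup containing it. -/
theorem isolated_unique [Finite G] {p : ℕ} [Fact p.Prime] {x : G} (hiso : Cfsg.IsIsolated x)
    {R : Subgroup G} (hR : IsPGroup p R) (hx : x ∈ R) {g : G} (hg : g * x * g⁻¹ ∈ R) :
    g * x * g⁻¹ = x := by
  refine hiso g ?_
  have h := isolated_comm_of_pGroup hiso hR hx hg
  exact (mul_inv_eq_iff_eq_mul.1 h).symm

theorem isPGroup_zpowers_of_orderOf [Finite G] {p : ℕ} [Fact p.Prime] {x : G}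
    (hx : ∃ k : ℕ, orderOf x = p ^ k) : IsPGroup p (Subgroup.zpowers x) := by
  obtain ⟨k, hk⟩ := hx
  exact IsPGroup.of_card (n := k) (by rw [Nat.card_zpowers, hk])

end Cfsg.Agent.Lib.LocalP2

namespace Cfsg.Agent.Lib.LocalP2

variable {G : Type*} [Group G]

/-- A p-element conjugate of an isolated p-element is carried to it inside any subgroup containing both. -/
theorem isolated_conj_in_subgroup [Finite G] {p : ℕ} [Fact p.Prime] {x : G} (hx : ∃ k : ℕ, orderOf x = p ^ k)
    (hiso : Cfsg.IsIsolated x) (H : Subgroup G) (hxH : x ∈ H) {g : G} (hg : g * x * g⁻¹ ∈ H) :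
    ∃ c ∈ H, c * (g * x * g⁻¹) * c⁻¹ = x := by
  have hgx : ∃ k : ℕ, orderOf (g * x * g⁻¹) = p ^ k := by
    obtain ⟨k, hk⟩ := hx
    exact ⟨k, by rw [show g * x * g⁻¹ = MulAut.conj g x from rfl, MulEquiv.orderOf_eq, hk]⟩
  have h1 : IsPGroup p ((Subgroup.zpowers x).subgroupOf H) :=
    (isPGroup_zpowers_of_orderOf hx).comap_subtype
  have h2 : IsPGroup p ((Subgroup.zpowers (g * x * g⁻¹)).subgroupOf H) :=
    (isPGroup_zpowers_of_orderOf hgx).comap_subtype
  obtain ⟨P, hP⟩ := h1.exists_le_sylow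
  obtain ⟨Q, hQ⟩ := h2.exists_le_sylow
  obtain ⟨c, hc⟩ := MulAction.exists_smul_eq H Q P
  have hxP : (⟨x, hxH⟩ : H) ∈ (P : Subgroup H) := hP (Subgroup.mem_zpowers x)
  have hyQ : (⟨g * x * g⁻¹, hg⟩ : H) ∈ (Q : Subgroup H) := hQ (Subgroup.mem_zpowers (g * x * g⁻¹))
  have hcP : c * ⟨g * x * g⁻¹, hg⟩ * c⁻¹ ∈ (P : Subgroup H) := by
    rw [← hc, Sylow.coe_subgroup_smul]
    exact ⟨⟨g * x * g⁻¹, hg⟩, hyQ, rfl⟩
  refine ⟨c, c.2, ?_⟩
  have hR : IsPGroup p ((P : Subgroup H).map H.subtype) := P.2.map _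
  have key := isolated_unique hiso hR (g := (c : G) * g) ⟨⟨x, hxH⟩, hxP, rfl⟩
    ⟨_, hcP, by simp [mul_assoc]⟩
  simpa [mul_assoc] using key

end Cfsg.Agent.Lib.LocalP2
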