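import Cfsg.Agent.Lib.Metacyclic.Basic
import Cfsg.Agent.Lib.Thompson.PGroup

/-!
Power structure of metacyclic `p`-groups, `p` odd: the elements killed by `p^n` form a subgroup on
which `x ↦ x^(p^(n-1))` is multiplicative, and there are at most `p^2` elements killed by `p`.
-/

set_option autoImplicit false

namespace Cfsg.Agent.Lib.LocalP2.MetaOdd

open Cfsg.Agent.Lib.Metacyclic
open scoped commutatorElement

variable {G : Type*} [Group G] [Finite G] {p : ℕ} [hp : Fact p.Prime]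

omit [Finite G] hp in
theorem comm_form (D : Params G p) (x y : G) : ∃ k : ℤ, ⁅x, y⁆ = (D.a ^ (D.r - 1)) ^ k := by
  refine ⟨F D.r (D.ej x) * D.ei y - F D.r (D.ej y) * D.ei x, ?_⟩
  rw [show ⁅x, y⁆ = x * y * (y * x)⁻¹ by rw [commutatorElement_def]; group]
  conv_lhs => rw [D.eq_form x, D.eq_form y]
  rw [D.mul_form, D.mul_form, add_comm (D.ej y) (D.ej x), mul_inv_rev, mul_assoc,
    mul_inv_cancel_left, ← zpow_neg, ← zpow_add, ← zpow_mul]
  congr 1
  linear_combination -(D.ei y) * sub_one_mul_F D.r (D.ej x) + (D.ei x) * sub_one_mul_F D.r (D.ej y)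

omit [Finite G] hp in
theorem conj_zpow_a (D : Params G p) (g : G) (k : ℤ) :
    g * D.a ^ k * g⁻¹ = D.a ^ (D.chiInt g * k) := by
  calc g * D.a ^ k * g⁻¹
      = D.a ^ D.ei g * (D.b ^ D.ej g * D.a ^ k) * (D.b ^ D.ej g)⁻¹ * (D.a ^ D.ei g)⁻¹ := by
        conv_lhs => rw [D.eq_form g]
        group
    _ = _ := by rw [D.conj_pow, Params.chiInt]; group

omit [Finite G] hp in
theorem normal_zpowers_a (D : Params G p) {c : G} (hc : c ∈ Subgroup.zpowers D.a) :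
    (Subgroup.zpowers c).Normal := by
  obtain ⟨k, rfl⟩ := Subgroup.mem_zpowers_iff.1 hc
  refine ⟨fun x hx g => ?_⟩
  obtain ⟨m, rfl⟩ := Subgroup.mem_zpowers_iff.1 hx
  refine Subgroup.mem_zpowers_iff.2 ⟨D.chiInt g * m, ?_⟩
  rw [← zpow_mul, ← zpow_mul, conj_zpow_a]
  congr 1
  ring

omit [Finite G] hp in
/-- Elements of the cyclic normal subgroup are central modulo their `p`-th powers. -/
theorem commutator_mem_zpowers_pow (D : Params G p) (g : G) {c : G}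
    (hc : c ∈ Subgroup.zpowers D.a) : ⁅g, c⁆ ∈ Subgroup.zpowers (c ^ p) := by
  obtain ⟨k, rfl⟩ := Subgroup.mem_zpowers_iff.1 hc
  obtain ⟨t, ht⟩ : (p : ℤ) ∣ D.chiInt g - 1 := pow_sub_one_dvd D.cong _
  refine Subgroup.mem_zpowers_iff.2 ⟨t, ?_⟩
  rw [← zpow_natCast, ← zpow_mul, ← zpow_mul, commutatorElement_def, conj_zpow_a, ← zpow_neg,
    ← zpow_add]
  congr 1
  linear_combination (-k) * ht

theorem eq_one_of_mem_zpowers_pow (hG : IsPGroup p G) {w : G}
    (h : w ∈ Subgroup.zpowers (w ^ p)) : w = 1 := by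
  obtain ⟨u, hu⟩ := Subgroup.mem_zpowers_iff.1 h
  obtain ⟨e, he⟩ := IsPGroup.iff_orderOf.1 hG w
  rcases Nat.eq_zero_or_pos e with rfl | he0
  · exact orderOf_eq_one_iff.1 (by simpa using he)
  exfalso
  rw [← zpow_natCast, ← zpow_mul] at hu
  have h1 : ((orderOf w : ℕ) : ℤ) ∣ (p : ℤ) * u - 1 := by
    rw [orderOf_dvd_iff_zpow_eq_one, zpow_sub_one, hu, mul_inv_cancel]
  have hpw : (p : ℤ) ∣ ((orderOf w : ℕ) : ℤ) :=
    Int.natCast_dvd_natCast.2 (he ▸ dvd_pow_self p he0.ne')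
  have h2 : (p : ℤ) ∣ ((1 : ℕ) : ℤ) := by
    have h3 := dvd_sub (Dvd.intro u rfl) (hpw.trans h1)
    simpa using h3
  exact hp.out.not_dvd_one (Int.natCast_dvd_natCast.1 h2)

omit [Finite G] hp in
theorem comm_inv_mem (D : Params G p) (x y : G) : ⁅x, y⁆ ∈ Subgroup.zpowers D.a := by
  obtain ⟨k, hk⟩ := comm_form D x y
  rw [hk]
  exact zpow_mem (zpow_mem (Subgroup.mem_zpowers _) _) _

omit [Finite G] in
/-- The power formula. -/
theorem exists_mul_pow (D : Params G p) (x y : G) :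
    ∃ d ∈ Subgroup.zpowers (⁅y⁻¹, x⁻¹⁆ ^ p), (x * y) ^ p = x ^ p * y ^ p * d := by
  set c := ⁅y⁻¹, x⁻¹⁆
  have hc : c ∈ Subgroup.zpowers D.a := comm_inv_mem D _ _
  have := normal_zpowers_a D (pow_mem hc p)
  set N := Subgroup.zpowers (c ^ p)
  set π := QuotientGroup.mk' N
  have hcom : ∀ g, Commute (π c) (π g) := fun g => by
    have h1 : π ⁅g, c⁆ = 1 := (QuotientGroup.eq_one_iff _).2 (commutator_mem_zpowers_pow D g hc)
    rw [map_commutatorElement, commutatorElement_eq_one_iff_mul_comm] at h1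
    exact h1.symm
  have h := Thompson.mul_pow_class_two (x := π x) (y := π y) (z := π c)
    (by rw [← map_mul, ← map_mul, ← map_mul, ← Thompson.mul_comm_eq]) (hcom x) (hcom y) p
  have hz : (π c) ^ p = 1 := by
    rw [← map_pow]
    exact (QuotientGroup.eq_one_iff _).2 (Subgroup.mem_zpowers _)
  rw [Thompson.pow_choose_two_eq_one D.odd hz, mul_one, ← map_mul, ← map_pow, ← map_pow,
    ← map_pow, ← map_mul] at h
  refine ⟨(x ^ p * y ^ p)⁻¹ * (x * y) ^ p, ?_, by group⟩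
  rw [← QuotientGroup.eq_one_iff]
  show π _ = 1
  rw [map_mul, map_inv, h, inv_mul_cancel]

omit [Finite G] hp in
theorem pow_eq_one_of_mem_zpowers {c d : G} (hd : d ∈ Subgroup.zpowers c) {m : ℕ}
    (hc : c ^ m = 1) : d ^ m = 1 := by
  obtain ⟨k, rfl⟩ := Subgroup.mem_zpowers_iff.1 hd
  rw [← zpow_natCast, ← zpow_mul, mul_comm, zpow_mul, zpow_natCast, hc, one_zpow]

omit [Finite G] in
/-- `[x^p, y]` and `[x, y]^p` generate the same subgroup. -/
theorem commutator_pow_rel (D : Params G p) (x y : G) :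
    ∃ s : ℤ, ⁅x ^ p, y⁆ = (⁅x, y⁆ ^ p) ^ (1 + (p : ℤ) * s) := by
  set c := ⁅x, y⁆ with hcdef
  have hc : c ∈ Subgroup.zpowers D.a := comm_inv_mem D _ _
  obtain ⟨d, hd, h⟩ := exists_mul_pow D x (y * x⁻¹ * y⁻¹)
  rw [show x * (y * x⁻¹ * y⁻¹) = c by rw [hcdef, commutatorElement_def]; group, conj_pow] at h
  have h' : ⁅x ^ p, y⁆ = c ^ p * d⁻¹ := by
    rw [h, commutatorElement_def, inv_pow]; group
  have he : ⁅(y * x⁻¹ * y⁻¹)⁻¹, x⁻¹⁆ ∈ Subgroup.zpowers (c ^ p) := by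
    have h1 : ⁅(y * x⁻¹ * y⁻¹)⁻¹, x⁻¹⁆ = ⁅c⁻¹, x⁻¹⁆ := by
      rw [hcdef]; simp only [commutatorElement_def]; group
    rw [h1, ← commutatorElement_inv x⁻¹ c⁻¹]
    refine inv_mem ?_
    have h2 := commutator_mem_zpowers_pow D x⁻¹ (inv_mem hc)
    rwa [inv_pow, Subgroup.zpowers_inv] at h2
  obtain ⟨s, hs⟩ := Subgroup.mem_zpowers_iff.1 he
  obtain ⟨t, ht⟩ := Subgroup.mem_zpowers_iff.1 hd
  refine ⟨-(s * t), ?_⟩
  rw [h', ← ht, ← hs]
  simp only [← zpow_natCast, ← zpow_mul, ← zpow_neg, ← zpow_add]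
  congr 1
  ring

theorem commutator_pow_eq_one (D : Params G p) : ∀ (n : ℕ) (x y : G), x ^ p ^ n = 1 →
    ⁅x, y⁆ ^ p ^ n = 1 := by
  intro n
  induction n with
  | zero =>
    intro x y h
    simp only [pow_zero, pow_one] at h ⊢
    rw [h, commutatorElement_one_left]
  | succ n ih =>
    intro x y h
    obtain ⟨s, hs⟩ := commutator_pow_rel D x y
    have h1 := ih (x ^ p) y (by rw [← pow_mul, ← pow_succ']; exact h)
    rw [hs] at h1
    refine eq_one_of_mem_zpowers_pow D.isPGroup (Subgroup.mem_zpowers_iff.2 ⟨-s, ?_⟩)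
    rw [← mul_inv_eq_one, ← inv_eq_one]
    simp only [← zpow_natCast, ← zpow_mul, ← zpow_neg, ← zpow_add] at h1 ⊢
    rw [← h1]
    congr 1
    push_cast
    ring

omit [Finite G] hp in
theorem conj_commutator_pow {x y : G} {m : ℕ} (h : ⁅x, y⁆ ^ m = 1) : ⁅y⁻¹, x⁻¹⁆ ^ m = 1 := by
  rw [show ⁅y⁻¹, x⁻¹⁆ = ((x * y)⁻¹ * ⁅x, y⁆ * (x * y)⁻¹⁻¹)⁻¹ by
    simp only [commutatorElement_def]; group, inv_pow, conj_pow, h, mul_one, mul_inv_cancel, inv_one]

/-- The elements killed by `p^n` are closed under multiplication. -/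
theorem pow_mul_eq_one (D : Params G p) : ∀ (n : ℕ) (x y : G), x ^ p ^ n = 1 → y ^ p ^ n = 1 →
    (x * y) ^ p ^ n = 1 := by
  intro n
  induction n with
  | zero => intro x y hx hy; simp_all
  | succ n ih =>
    intro x y hx hy
    obtain ⟨d, hd, h⟩ := exists_mul_pow D x y
    have hc := conj_commutator_pow (commutator_pow_eq_one D (n + 1) x y hx)
    rw [pow_succ', pow_mul] at hx hy hc ⊢
    rw [h]
    exact ih _ _ (ih _ _ hx hy) (pow_eq_one_of_mem_zpowers hd hc)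

/-- `(xy)^(p^n) = x^(p^n) y^(p^n)` when `[x,y]^(p^n) = 1`. -/
theorem mul_pow_eq (D : Params G p) : ∀ (n : ℕ) (x y : G), ⁅x, y⁆ ^ p ^ n = 1 →
    (x * y) ^ p ^ n = x ^ p ^ n * y ^ p ^ n := by
  intro n
  induction n with
  | zero => intro x y _; simp
  | succ n ih =>
    intro x y hxy
    obtain ⟨d, hd, h⟩ := exists_mul_pow D x y
    have hc := conj_commutator_pow hxy
    rw [pow_succ', pow_mul] at hc hxy
    have hdn : d ^ p ^ n = 1 := pow_eq_one_of_mem_zpowers hd hc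
    have h1 : ⁅x ^ p * y ^ p, d⁆ ^ p ^ n = 1 := by
      rw [← commutatorElement_inv, inv_pow, commutator_pow_eq_one D n d _ hdn, inv_one]
    obtain ⟨s, hs⟩ := commutator_pow_rel D x y
    obtain ⟨t, ht⟩ := commutator_pow_rel D y (x ^ p)
    have h2 : ⁅x ^ p, y⁆ ^ p ^ n = 1 := by
      rw [hs]; exact pow_eq_one_of_mem_zpowers (zpow_mem (Subgroup.mem_zpowers _) _) hxy
    have h3 : ⁅x ^ p, y ^ p⁆ ^ p ^ n = 1 := by
      have h4 : ⁅y, x ^ p⁆ ^ p ^ n = 1 := by rw [← commutatorElement_inv, inv_pow, h2, inv_one]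
      rw [← commutatorElement_inv, inv_pow, inv_eq_one, ht]
      exact pow_eq_one_of_mem_zpowers (zpow_mem (pow_mem (Subgroup.mem_zpowers _) _) _) h4
    rw [pow_succ', pow_mul, h, ih _ _ h1, hdn, mul_one, ih _ _ h3, ← pow_mul, ← pow_mul]

/-- The subgroup of elements killed by `p^n`. -/
def omegaSubgroup (D : Params G p) (n : ℕ) : Subgroup G where
  carrier := {x | x ^ p ^ n = 1}
  one_mem' := one_pow _
  mul_mem' := fun {x y} hx hy => pow_mul_eq_one D n x y hx hy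
  inv_mem' := fun {x} hx => by
    simp only [Set.mem_setOf_eq] at hx ⊢; rw [inv_pow, hx, inv_one]

theorem mem_omegaSubgroup (D : Params G p) {n : ℕ} {x : G} :
    x ∈ omegaSubgroup D n ↔ x ^ p ^ n = 1 := Iff.rfl

/-- On the elements killed by `p^(n+1)` the `p^n`-th power is multiplicative. -/
theorem mul_pow_of_pow_eq_one (hG : IsPGroup p G) (hp2 : p ≠ 2) (hm : Cfsg.IsMetacyclic G) (n : ℕ)
    {x y : G} (hx : x ^ p ^ (n + 1) = 1) (hy : y ^ p ^ (n + 1) = 1) :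
    (x * y) ^ p ^ n = x ^ p ^ n * y ^ p ^ n := by
  obtain ⟨D⟩ := exists_params hp2 hG hm
  refine mul_pow_eq D n x y ?_
  set W := omegaSubgroup D (n + 1)
  obtain ⟨E⟩ := exists_params hp2 (hG.to_subgroup W) (isMetacyclic_subgroup hm W)
  obtain ⟨k, hk⟩ := comm_form E ⟨x, hx⟩ ⟨y, hy⟩
  obtain ⟨s, hs⟩ := E.cong
  have h1 := congrArg (Subgroup.subtype W) hk
  rw [map_commutatorElement, map_zpow, map_zpow] at h1
  change ⁅x, y⁆ = ((E.a : G) ^ (E.r - 1)) ^ k at h1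
  rw [h1, hs, zpow_mul, zpow_natCast]
  refine pow_eq_one_of_mem_zpowers (zpow_mem (zpow_mem (Subgroup.mem_zpowers _) _) _) ?_
  rw [← pow_mul, ← pow_succ']
  exact E.a.2

theorem card_le_sq (hp2 : p ≠ 2) (hG : IsPGroup p G) (hm : Cfsg.IsMetacyclic G) (H : Subgroup G)
    (hH : ∀ x ∈ H, x ^ p = 1) : Nat.card H ≤ p ^ 2 := by
  obtain ⟨N, hN, hNc, hQc⟩ := isMetacyclic_subgroup hm H
  have h : ∀ (C : Type _) [Group C] [IsCyclic C], (∀ c : C, c ^ p = 1) → Nat.card C ≤ p := by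
    intro C _ _ hC
    rw [← IsCyclic.exponent_eq_card]
    exact Nat.le_of_dvd hp.out.pos (Monoid.exponent_dvd_of_forall_pow_eq_one hC)
  rw [Subgroup.card_eq_card_quotient_mul_card_subgroup N, pow_two]
  refine Nat.mul_le_mul (h _ fun c => ?_) (h _ fun c => ?_)
  · obtain ⟨c, rfl⟩ := QuotientGroup.mk_surjective c
    rw [← QuotientGroup.mk_pow, show c ^ p = 1 from Subtype.ext (hH c c.2), QuotientGroup.mk_one]
  · exact Subtype.ext (Subtype.ext (hH _ c.1.2))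

end Cfsg.Agent.Lib.LocalP2.MetaOdd
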