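import Cfsg.Agent.Lib.LocalP2.RankTwoPlane
import Cfsg.Agent.Lib.UniqueInvolution

/-!
Rank two, `p ≥ 5`: a diagonal automorphism of a subgroup with coordinates forces an elementary subgroup of
order `p^3` in its normalizer.
-/

set_option autoImplicit false

namespace Cfsg.Agent.Lib.LocalP2.RankTwo

open Cfsg Cfsg.FusionSystem Cfsg.Agent.Lib.Fusion
open scoped commutatorElement

universe u

variable {p : ℕ} [hp : Fact p.Prime] {Ω : Type u} [Group Ω] {S : Subgroup Ω} {F : FusionSystem S}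

theorem pow_eq_of_natCast_eq {x : Ω} (hx : x ^ p = 1) {i j : ℕ} (h : (i : ZMod p) = j) : x ^ i = x ^ j := by
  have h' : i ≡ j [MOD orderOf x] :=
    ((ZMod.natCast_eq_natCast_iff _ _ _).1 h).of_dvd (orderOf_dvd_of_pow_eq_one hx)
  exact pow_eq_pow_iff_modEq.2 h'

theorem exists_nat_pow {x y : Ω} (hy : y ^ p = 1) (hy1 : y ≠ 1) (hx : x ∈ Subgroup.zpowers y) :
    ∃ i : ℕ, y ^ i = x := by
  refine Submonoid.mem_powers_iff x y |>.1 ?_
  exact (IsOfFinOrder.mem_powers_iff_mem_zpowers (orderOf_pos_iff.1 (by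
    rw [orderOf_eq_prime hy hy1]; exact hp.out.pos))).2 hx

/-- A commutator is unchanged by central factors. -/
theorem commutator_mul_central {x y c d : Ω} (hcx : Commute c x) (hcy : Commute c y) (hdx : Commute d x)
    (hdy : Commute d y) (hcd : Commute c d) : ⁅x * c, y * d⁆ = ⁅x, y⁆ := by
  have e1 : ⁅x * c, y * d⁆ = x * ⁅c, y * d⁆ * x⁻¹ * ⁅x, y * d⁆ := by
    simp only [commutatorElement_def]; group
  have e2 : ⁅x, y * d⁆ = ⁅x, y⁆ * (y * ⁅x, d⁆ * y⁻¹) := by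
    simp only [commutatorElement_def]; group
  rw [e1, commutatorElement_eq_one_iff_mul_comm.2 (hcy.mul_right hcd).eq, e2,
    commutatorElement_eq_one_iff_mul_comm.2 hdx.symm.eq]
  group

/-- An element of order `p` centralizing `a` and `C` outside `R`, from the eigenvalues of `χ`. -/
theorem exists_order_p {N R C : Subgroup Ω} (hRN : R ≤ N) (hCR : C ≤ R) {a y : Ω} (ha : a ∈ R) (hap : a ^ p = 1)
    (haC : ∀ i : ℕ, a ^ i ∈ C → p ∣ i) (hCc : ∀ r ∈ R, ∀ c ∈ C, Commute r c)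
    (hyC : ∀ c ∈ C, Commute y c) (hya : Commute y a) (hyN : y ∈ N) (hyR : y ∉ R) (hyp : y ^ p ∈ R)
    (hcent : ∀ r ∈ R, Commute r a → ∃ i : ℕ, ∃ c ∈ C, r = a ^ i * c) (χ : MulAut N) (l ρ ν : ℕ)
    (hl0 : (l : ZMod p) ≠ 0)
    (hχa : ∃ c ∈ C, ((χ ⟨a, hRN ha⟩ : N) : Ω) = a ^ l * c)
    (hχC : ∀ c (hc : c ∈ C), ((χ ⟨c, hRN (hCR hc)⟩ : N) : Ω) = c ^ ρ)
    (hχy : ∃ r ∈ R, ((χ ⟨y, hyN⟩ : N) : Ω) = y ^ ν * r) (hνl : (ν : ZMod p) ≠ l) (hνρ : (ν : ZMod p) ≠ ρ) :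
    ∃ w ∈ N, w ∉ R ∧ w ^ p = 1 ∧ Commute w a ∧ ∀ c ∈ C, Commute w c := by
  obtain ⟨c', hc', hca⟩ := hχa
  obtain ⟨r, hr, hry⟩ := hχy
  have hac : ∀ c ∈ C, Commute a c := fun c hc => hCc a ha c hc
  -- `r` centralizes `a`
  have h1 : Commute (y ^ ν * r) (a ^ l * c') := by
    have h : Commute (χ ⟨y, hyN⟩) (χ ⟨a, hRN ha⟩) :=
      (show Commute (⟨y, hyN⟩ : N) ⟨a, hRN ha⟩ from Subtype.ext hya).map χ.toMonoidHom
    rw [← hry, ← hca]
    exact congrArg Subtype.val h.eq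
  have hra : Commute r (a ^ l) := by
    have h2 : Commute (y ^ ν) (a ^ l * c') := ((hya.pow_pow ν l)).mul_right ((hyC c' hc').pow_left ν)
    have h3 : Commute r (a ^ l * c') := by
      have h4 := (h2.inv_left).mul_left h1
      rwa [inv_mul_cancel_left] at h4
    have h5 := h3.mul_right (hCc r hr c' hc').inv_right
    rwa [mul_inv_cancel_right] at h5
  obtain ⟨l', hl'⟩ : ∃ l' : ℕ, a ^ (l * l') = a := by
    refine ⟨((l : ZMod p)⁻¹).val, ?_⟩
    conv_rhs => rw [← pow_one a]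
    refine pow_eq_of_natCast_eq hap ?_
    rw [Nat.cast_mul, ZMod.natCast_zmod_val, Nat.cast_one, mul_inv_cancel₀ hl0]
  obtain ⟨j, d, hd, rfl⟩ := hcent r hr (by
    have := hra.pow_right l'
    rwa [← pow_mul, hl'] at this)
  -- `y^p`
  obtain ⟨i, c, hc, hi⟩ := hcent _ hyp (hya.pow_left p)
  have hyr : Commute (y ^ ν) (a ^ j * d) := (hya.pow_pow ν j).mul_right ((hyC d hd).pow_left ν)
  have hpp : (y ^ ν * (a ^ j * d)) ^ p = (a ^ i * c) ^ ν * d ^ p := by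
    rw [hyr.mul_pow, ← pow_mul, mul_comm ν p, pow_mul, hi, ((hac d hd).pow_left j).mul_pow, ← pow_mul,
      mul_comm j p, pow_mul, hap, one_pow, one_mul]
  have hmain : (a ^ i * c) ^ ν * d ^ p = (a ^ l * c') ^ i * c ^ ρ := by
    rw [← hpp, ← hry, ← hca, ← hχC c hc, ← SubmonoidClass.coe_pow, ← map_pow, ← SubmonoidClass.coe_pow,
      ← map_pow, ← Subgroup.coe_mul, ← map_mul]
    exact congrArg Subtype.val (congrArg χ (Subtype.ext hi : (⟨y, hyN⟩ : N) ^ p = ⟨a, hRN ha⟩ ^ i * ⟨c, hRN (hCR hc)⟩))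
  rw [((hac c hc).pow_left i).mul_pow, ((hac c' hc').pow_left l).mul_pow, ← pow_mul, ← pow_mul] at hmain
  -- the `a`-part
  set q : ZMod p := (i : ZMod p) * ν - (l : ZMod p) * i
  have hq : a ^ q.val ∈ C := by
    have h2 : a ^ (i * ν) = a ^ (l * i) * (c' ^ i * c ^ ρ * (c ^ ν * d ^ p)⁻¹) := by
      rw [eq_comm, ← mul_assoc, mul_inv_eq_iff_eq_mul, ← mul_assoc, ← mul_assoc]
      exact hmain.symm
    have h3 : a ^ (l * i) * a ^ q.val = a ^ (i * ν) := by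
      rw [← pow_add]
      refine pow_eq_of_natCast_eq hap ?_
      rw [Nat.cast_add, ZMod.natCast_zmod_val, Nat.cast_mul, Nat.cast_mul]
      simp only [q]; ring
    rw [h2] at h3
    rw [mul_left_cancel h3]
    exact C.mul_mem (C.mul_mem (C.pow_mem hc' i) (C.pow_mem hc ρ))
      (C.inv_mem (C.mul_mem (C.pow_mem hc ν) (C.pow_mem hd p)))
  have hi0 : (i : ZMod p) = 0 := by
    have h2 : q = 0 := by rw [← ZMod.natCast_zmod_val q, ZMod.natCast_eq_zero_iff]; exact haC _ hq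
    have h3 : (i : ZMod p) * ((ν : ZMod p) - l) = 0 := by rw [← h2]; simp only [q]; ring
    exact (mul_eq_zero.1 h3).resolve_right (sub_ne_zero.2 hνl)
  have hai : ∀ m : ℕ, a ^ (i * m) = 1 := fun m => by
    rw [← pow_zero a]
    exact pow_eq_of_natCast_eq hap (by rw [Nat.cast_mul, hi0, zero_mul, Nat.cast_zero])
  rw [hai, mul_comm l i, hai, one_mul, one_mul] at hmain
  have hai1 : a ^ i = 1 := by simpa using hai 1
  rw [hai1, one_mul] at hi
  -- `c` is a `p`-th power in `C`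
  have hci : c' ^ i = 1 := by
    have hmem : a ^ l * c' = ((χ ⟨a, hRN ha⟩ : N) : Ω) := hca.symm
    have h2 : (a ^ l * c') ^ i = 1 := by
      rw [hmem, ← SubmonoidClass.coe_pow, ← map_pow, show (⟨a, hRN ha⟩ : N) ^ i = 1 from Subtype.ext hai1,
        map_one, OneMemClass.coe_one]
    rwa [((hac c' hc').pow_left l).mul_pow, ← pow_mul, mul_comm l i, hai, one_mul] at h2
  rw [hci, one_mul] at hmain
  have hCcomm : ∀ x ∈ C, ∀ z ∈ C, Commute x z := fun x hx z hz => hCc x (hCR hx) z hz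
  obtain ⟨e, he, hep⟩ := exists_root (p := p) hCcomm hc hd (m := (ρ : ℤ) - ν) (by
    rw [← ZMod.intCast_zmod_eq_zero_iff_dvd]
    push_cast
    exact sub_ne_zero.2 (Ne.symm hνρ)) (by
    rw [zpow_sub, zpow_natCast, zpow_natCast, ← hmain,
      ((hCcomm c hc d hd).pow_pow ν p).eq, mul_inv_cancel_right])
  refine ⟨y * e⁻¹, N.mul_mem hyN (N.inv_mem (hRN (hCR he))), fun h => hyR ?_, ?_,
    hya.mul_left (hac e he).inv_right.symm, fun x hx => (hyC x hx).mul_left (hCcomm e he x hx).inv_left⟩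
  · simpa using R.mul_mem h (hCR he)
  · rw [((hyC e he).inv_right).mul_pow, inv_pow, hep, hi, mul_inv_cancel]

variable {R : Subgroup Ω}

namespace Plane

variable (P : Plane F p R)

/-- Two independent commuting elements make `X` abelian when the kernel is central. -/
theorem comm_of_indep (hker : ∀ x ∈ P.X, P.k x = 0 → ∀ y ∈ P.X, Commute x y) {a b : Ω} (ha : a ∈ P.X)
    (hb : b ∈ P.X) (hab : Commute a b) (hd : det (P.k a) (P.k b) ≠ 0) :
    ∀ x ∈ P.X, ∀ y ∈ P.X, Commute x y := by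
  have hgen : ∀ x ∈ P.X, ∃ i j : ℕ, ∃ d ∈ P.X, P.k d = 0 ∧ x = a ^ i * b ^ j * d := fun x hx => by
    set s := det (P.k x) (P.k b) / det (P.k a) (P.k b)
    set t := det (P.k a) (P.k x) / det (P.k a) (P.k b)
    have hm := P.X.mul_mem (P.X.pow_mem ha s.val) (P.X.pow_mem hb t.val)
    refine ⟨s.val, t.val, _, P.X.mul_mem (P.X.inv_mem hm) hx, ?_, (mul_inv_cancel_left _ x).symm⟩
    rw [← P.k_eq_iff hx hm, P.kmul _ (P.X.pow_mem ha _) _ (P.X.pow_mem hb _), P.k_pow ha, P.k_pow hb,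
      nat_smul_val, nat_smul_val]
    exact decomp hd _
  intro x hx y hy
  obtain ⟨i, j, d, hd1, hd2, rfl⟩ := hgen x hx
  obtain ⟨i', j', d', hd1', hd2', rfl⟩ := hgen y hy
  have hm := P.X.mul_mem (P.X.pow_mem ha i) (P.X.pow_mem hb j)
  have hm' := P.X.mul_mem (P.X.pow_mem ha i') (P.X.pow_mem hb j')
  have h0 : Commute (a ^ i * b ^ j) (a ^ i' * b ^ j') :=
    (((Commute.refl a).pow_pow i i').mul_right (hab.pow_pow i j')).mul_left
      ((hab.symm.pow_pow j i').mul_right ((Commute.refl b).pow_pow j j'))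
  exact ((h0.mul_right (hker d' hd1' hd2' _ hm).symm).mul_left
    ((hker d hd1 hd2 _ hm').mul_right (hker d hd1 hd2 d' hd1')))

variable [Finite S]

/-- The configuration is impossible in rank two. -/
theorem climb (hS : IsPGroup p S) (hF : F.IsSaturated p)
    (hrank : ∀ E : Subgroup Ω, E ≤ S → Cfsg.IsElementaryAbelian p E → Nat.card E ≤ p ^ 2)
    (hn : F.IsFullyNormalized R) (hne : R ≠ S) (hcent : centralizerIn S R ≤ R) (hK : P.KerInner)
    (C : Subgroup Ω) (hCR : C ≤ R) (hCc : ∀ r ∈ R, ∀ c ∈ C, Commute r c)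
    (hDC : ∀ x ∈ P.X, x ∈ C → P.k x = 0) (hXe : ∀ x ∈ P.X, x ^ p = 1)
    (hform : ∀ r ∈ R, ∃ x ∈ P.X, ∃ c ∈ C, r = x * c)
    {z : Ω} (hzC : z ∈ C) (hzp : z ^ p = 1) (hz1 : z ≠ 1) (hDz : ∀ x ∈ P.X, P.k x = 0 → x ∈ Subgroup.zpowers z)
    (hnc : ¬ ∀ x ∈ P.X, ∀ y ∈ P.X, Commute x y)
    {v w : ZMod p × ZMod p} (hd : det v w ≠ 0) (hT : ∀ t ∈ P.innerS, P.Unip v t)
    (α : F.autGroup R) {l m : ℕ} {ρ : ℕ} (hl0 : (l : ZMod p) ≠ 0) (hm0 : (m : ZMod p) ≠ 0)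
    (hm1 : (m : ZMod p) ≠ 1) (hlρ : (l : ZMod p) ≠ ρ * m)
    (hv : P.M α v = (l : ZMod p) • v) (hw : P.M α w = (m : ZMod p) • w)
    (hC : ∀ c : R, (c : Ω) ∈ C → (((α : MulAut R) c : R) : Ω) = (c : Ω) ^ ρ)
    (hNC : ∀ g ∈ normalizerIn S R, ∀ c ∈ C, Commute g c) : False := by
  set N := normalizerIn S R
  have hRN : R ≤ N := le_normalizerIn P.hRS
  have hv0 : v ≠ 0 := fun h => hd (by simp [det, h])
  obtain ⟨χ, -, hχ⟩ := P.exists_extend hS hF hn hv0 hT (α := α) (by rw [hv, det_smul, det_self, mul_zero])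
  obtain ⟨a, haX, hka⟩ := P.ksurj v
  obtain ⟨b, hbX, hkb⟩ := P.ksurj w
  have haR := P.hX haX
  have hkerc : ∀ x ∈ P.X, P.k x = 0 → ∀ y ∈ P.X, Commute x y := fun x hx h y hy =>
    ((hCc y (P.hX hy) x (Subgroup.zpowers_le.2 hzC (hDz x hx h)))).symm
  have hca : ∀ x ∈ P.X, Commute x a → det v (P.k x) = 0 := fun x hx h => by
    by_contra h1
    exact hnc (P.comm_of_indep hkerc haX hx h.symm (by rwa [hka]))
  -- a generator of `N/R`
  obtain ⟨y0, hy0, hy0R⟩ := exists_normalizerIn_not_mem hS (lt_of_le_of_ne P.hRS hne)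
  have hka0 : P.k (y0 * a * y0⁻¹) = v := by
    rw [P.M_tau y0 hy0 haX, hka, (hT _ (P.tau_mem hy0)).1]
  have hy0a : y0 * a * y0⁻¹ ∈ P.X := by
    have := P.hXinv _ (P.tau y0 hy0).2 ⟨a, haR⟩ haX
    rwa [P.tau_apply] at this
  -- adjust it to centralize `a`
  obtain ⟨r0, hr0, hr0a⟩ : ∃ r ∈ R, r * a * r⁻¹ = y0 * a * y0⁻¹ := by
    set d := y0 * a * y0⁻¹ * a⁻¹ with hd'
    have hdk : P.k d = 0 := by
      rw [hd', P.kmul _ hy0a _ (P.X.inv_mem haX), P.k_inv haX, hka0, hka, add_neg_cancel]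
    have hdz := hDz d (P.X.mul_mem hy0a (P.X.inv_mem haX)) hdk
    set e := ⁅b, a⁆
    have heX : e ∈ P.X := by
      rw [show e = b * a * b⁻¹ * a⁻¹ from commutatorElement_def b a]
      exact P.X.mul_mem (P.X.mul_mem (P.X.mul_mem hbX haX) (P.X.inv_mem hbX)) (P.X.inv_mem haX)
    have hek : P.k e = 0 := by
      rw [show e = b * a * b⁻¹ * a⁻¹ from commutatorElement_def b a,
        P.kmul _ (P.X.mul_mem (P.X.mul_mem hbX haX) (P.X.inv_mem hbX)) _ (P.X.inv_mem haX),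
        P.kmul _ (P.X.mul_mem hbX haX) _ (P.X.inv_mem hbX), P.kmul _ hbX _ haX, P.k_inv hbX, P.k_inv haX]
      abel
    have he1 : e ≠ 1 := fun h => hd (by
      rw [← hkb]; exact hca b hbX (commutatorElement_eq_one_iff_mul_comm.1 h))
    obtain ⟨t, ht⟩ := exists_nat_pow hzp hz1 (hDz e heX hek)
    have hep : e ^ p = 1 := hXe e heX
    have hze : z ∈ Subgroup.zpowers e := by
      have : Subgroup.zpowers e = Subgroup.zpowers z := by
        have := Finite.of_injective _ (Subgroup.inclusion_injective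
          (Subgroup.zpowers_le.2 (P.hRS (hCR hzC)) : Subgroup.zpowers z ≤ S))
        refine Subgroup.eq_of_le_of_card_ge (Subgroup.zpowers_le.2 (hDz e heX hek)) ?_
        rw [Nat.card_zpowers, Nat.card_zpowers, orderOf_eq_prime hep he1, orderOf_eq_prime hzp hz1]
      exact this ▸ Subgroup.mem_zpowers z
    obtain ⟨q, hq⟩ := exists_nat_pow hep he1 (Subgroup.zpowers_le.2 hze hdz)
    have hcomm : Commute e b := (hkerc e heX hek b hbX)
    have h1 : ⁅b ^ q, a⁆ = e ^ q := Thompson.commutator_pow_left hcomm q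
    refine ⟨b ^ q, R.pow_mem (P.hX hbX) q, ?_⟩
    have h2 : b ^ q * a * (b ^ q)⁻¹ = e ^ q * a := by
      rw [← h1, commutatorElement_def]; group
    rw [h2, hq, hd', inv_mul_cancel_right]
  set y := r0⁻¹ * y0
  have hy : y ∈ N := mul_mem (inv_mem (hRN hr0)) hy0
  have hyR : y ∉ R := fun h => hy0R (by simpa [y] using R.mul_mem hr0 h)
  have hya : Commute y a := by
    have h1 : y * a * y⁻¹ = a := by
      show r0⁻¹ * y0 * a * (r0⁻¹ * y0)⁻¹ = a
      rw [show r0⁻¹ * y0 * a * (r0⁻¹ * y0)⁻¹ = r0⁻¹ * (y0 * a * y0⁻¹) * r0 by group, ← hr0a]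
      group
    exact mul_inv_eq_iff_eq_mul.1 h1
  have hfixpow : y ^ p ∈ R := P.mem_of_fix hK hcent (pow_mem hy p) fun x => by
    rw [P.tau_pow hy]
    exact P.unip_pow_prime (hT _ (P.tau_mem hy)) x
  have hlm0 : ∀ n : ℕ, n • v = (n : ZMod p) • v := fun n => (Nat.cast_smul_eq_nsmul (ZMod p) n v).symm
  -- the action of the extension on `N/R`
  set ν : ℕ := ((l : ZMod p) / m).val
  have hχy : ∃ r ∈ R, ((χ ⟨y, hy⟩ : N) : Ω) = y ^ ν * r := by
    set g := ((χ ⟨y, hy⟩ : N) : Ω)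
    have hg : g ∈ N := (χ ⟨y, hy⟩).2
    have hτg : P.tau g hg = α * P.tau y hy * α⁻¹ := by
      refine Subtype.ext (MulEquiv.ext fun x => Subtype.ext ?_)
      rw [P.tau_apply]
      set x0 : R := (α : MulAut R)⁻¹ x
      show g * (x : Ω) * g⁻¹ = (((α : MulAut R) ((P.tau y hy : MulAut R) x0) : R) : Ω)
      have hx : (x : Ω) = ((χ ⟨x0, hRN x0.2⟩ : N) : Ω) := by
        rw [hχ x0 (hRN x0.2)]
        show (x : Ω) = (((α : MulAut R) ((α : MulAut R)⁻¹ x) : R) : Ω)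
        rw [MulAut.apply_inv_self]
      rw [hx, ← Subgroup.coe_inv, ← map_inv, ← Subgroup.coe_mul, ← map_mul, ← Subgroup.coe_mul, ← map_mul,
        ← hχ ((P.tau y hy : MulAut R) x0) (hRN ((P.tau y hy : MulAut R) x0).2)]
      exact congrArg (fun t => ((χ t : N) : Ω)) (Subtype.ext (P.tau_apply y hy x0).symm)
    obtain ⟨s, hs⟩ := (hT _ (P.tau_mem hy)).2 w
    have hαw : P.M α⁻¹ w = (m : ZMod p)⁻¹ • w := by
      have h1 := congrArg (P.M α⁻¹) hw
      rw [← P.M_mul, inv_mul_cancel, P.M_one, P.M_smul] at h1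
      exact (eq_inv_smul_iff₀ hm0).2 h1.symm
    have hgw : P.M (P.tau g hg) w = w + ((l : ZMod p) / m * s) • v := by
      rw [hτg, P.M_mul, P.M_mul, hαw, P.M_smul, hs, smul_add, map_add, P.M_smul, P.M_smul, P.M_smul, hw, hv,
        smul_smul, inv_mul_cancel₀ hm0, one_smul, smul_smul, smul_smul]
      congr 2
      field_simp
    have hgy : (y ^ ν)⁻¹ * g ∈ R := P.mem_of_fix hK hcent (mul_mem (inv_mem (pow_mem hy ν)) hg) <| by
      have hu : P.Unip v (P.tau ((y ^ ν)⁻¹ * g) (mul_mem (inv_mem (pow_mem hy ν)) hg)) := hT _ (P.tau_mem _)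
      refine P.fix_of_two _ hd hu.1 ?_
      rw [P.tau_mul (inv_mem (pow_mem hy ν)) hg, P.tau_inv (pow_mem hy ν), P.tau_pow hy, P.M_mul, hgw]
      have h1 : P.M (P.tau y hy ^ ν) w = w + ((l : ZMod p) / m * s) • v := by
        rw [P.unip_pow (hT _ (P.tau_mem hy)) hs, ZMod.natCast_zmod_val]
      rw [← h1, ← P.M_mul, inv_mul_cancel, P.M_one]
    exact ⟨_, hgy, (mul_inv_cancel_left _ g).symm⟩
  have hχa : ∃ c ∈ C, ((χ ⟨a, hRN haR⟩ : N) : Ω) = a ^ l * c := by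
    have h1 := hχ ⟨a, haR⟩ (hRN haR)
    set a1 := (((α : MulAut R) ⟨a, haR⟩ : R) : Ω)
    have ha1X : a1 ∈ P.X := P.hXinv α α.2 ⟨a, haR⟩ haX
    refine ⟨(a ^ l)⁻¹ * a1, Subgroup.zpowers_le.2 hzC (hDz _ (P.X.mul_mem (P.X.inv_mem (P.X.pow_mem haX l)) ha1X) ?_),
      by rw [h1, mul_inv_cancel_left]⟩
    rw [← P.k_eq_iff ha1X (P.X.pow_mem haX l), P.k_pow haX, hka, hlm0, ← hv]
    rw [P.M_k α (x := ⟨a, haR⟩) haX]
    exact congrArg (P.M α) hka
  have hνl : (ν : ZMod p) ≠ l := by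
    rw [ZMod.natCast_zmod_val]
    intro h
    rw [div_eq_iff hm0] at h
    exact hm1 (mul_left_cancel₀ hl0 (by rw [mul_one]; exact h.symm))
  have hνρ : (ν : ZMod p) ≠ ρ := by
    rw [ZMod.natCast_zmod_val]
    intro h
    rw [div_eq_iff hm0] at h
    exact hlρ h
  have haC : ∀ i : ℕ, a ^ i ∈ C → p ∣ i := fun i hi => by
    have h := hDC _ (P.X.pow_mem haX i) hi
    rw [P.k_pow haX, hka, hlm0, smul_eq_zero] at h
    exact (ZMod.natCast_eq_zero_iff i p).1 (h.resolve_right hv0)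
  have hcenta : ∀ r ∈ R, Commute r a → ∃ i : ℕ, ∃ c ∈ C, r = a ^ i * c := by
    intro r hr h
    obtain ⟨x, hx, c, hc, rfl⟩ := hform r hr
    have hxa : Commute x a := by
      have := h.mul_left (hCc a haR c hc).symm.inv_left
      rwa [mul_inv_cancel_right] at this
    obtain ⟨q, hq⟩ := exists_smul_of_det hv0 (hca x hx hxa)
    refine ⟨q.val, _, C.mul_mem (Subgroup.zpowers_le.2 hzC (hDz _ (P.X.mul_mem
      (P.X.inv_mem (P.X.pow_mem haX q.val)) hx) ?_)) hc, by group⟩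
    rw [← P.k_eq_iff hx (P.X.pow_mem haX q.val), P.k_pow haX, hka, nat_smul_val, hq]
  obtain ⟨u, huN, huR, hup, hua, huC⟩ := exists_order_p hRN hCR haR (hXe a haX) haC hCc
    (fun c hc => hNC y hy c hc) hya hy hyR hfixpow hcenta χ l ρ ν hl0 hχa
    (fun c hc => (hχ ⟨c, hCR hc⟩ (hRN (hCR hc))).trans (hC ⟨c, hCR hc⟩ hc)) hχy hνl hνρ
  have haz : a ∉ Subgroup.zpowers z := fun h => by
    have := haC 1 (by rw [pow_one]; exact Subgroup.zpowers_le.2 hzC h)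
    exact hp.out.not_dvd_one this
  have hmem := mem_of_rank hS hrank (P.hRS haR) (P.hRS (hCR hzC)) huN.1 (hXe a haX) hzp hup hz1 haz
    (hCc a haR z hzC) hua.symm (huC z hzC).symm
  exact huR ((sup_le (Subgroup.zpowers_le.2 haR) (Subgroup.zpowers_le.2 (hCR hzC))) hmem)

end Plane

end Cfsg.Agent.Lib.LocalP2.RankTwo
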