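import Cfsg.Agent.Lib.Hall.OddRankTwo
import Mathlib.LinearAlgebra.FiniteDimensional.Lemmas
import Mathlib.GroupTheory.FixedPointFree

/-!
`p`-groups of rank at most two, `p` odd: a small characteristic subgroup of exponent `p` detecting
automorphisms of order prime to `p`, coordinates on elementary quotients of order `p^2`, and elementary
lemmas used for resistance.
-/

set_option autoImplicit false

namespace Cfsg.Agent.Lib.LocalP2.RankTwo

open Subgroup Cfsg.Agent.Lib
open scoped commutatorElement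

universe u

variable {p : ℕ} [hp : Fact p.Prime]

/-- A characteristic subgroup `X` of exponent `p`, abelian or extraspecial of order `p^3` (with `D` its
derived group), on whose quotient by `D` automorphisms of order prime to `p` act faithfully. -/
theorem exists_char_small {R : Type u} [Group R] [Finite R] (hp2 : p ≠ 2) (hR : IsPGroup p R)
    (hr : Cfsg.PRankLE p 2 R) :
    ∃ X D : Subgroup R, D ≤ X ∧ X.Characteristic ∧ D.Characteristic ∧ (∀ x ∈ X, x ^ p = 1) ∧
      (∀ x ∈ X, ∀ d ∈ D, Commute x d) ∧ (∀ x ∈ X, ∀ y ∈ X, ⁅x, y⁆ ∈ D) ∧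
      Nat.card X ≤ p ^ 2 * Nat.card D ∧
      (D = ⊥ ∨ ∃ x ∈ X, ∃ y ∈ X, ⁅x, y⁆ ≠ 1 ∧ D = zpowers ⁅x, y⁆) ∧
      ∀ b : MulAut R, (orderOf b).Coprime p → (∀ x ∈ X, b x * x⁻¹ ∈ D) → b = 1 := by
  classical
  obtain ⟨H, hH, hH1, hH2, hH3⟩ := Thompson.exists_critical hR
  haveI := hH
  have hcl : ⁅commutator H, (⊤ : Subgroup H)⁆ = ⊥ := by
    rw [commutator_eq_bot_iff_le_centralizer, coe_top, centralizer_univ, commutator_def, commutator_le]
    intro x _ y _
    have h1 : ((⁅x, y⁆ : H) : R) ∈ H ⊓ centralizer (H : Set R) := by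
      refine hH2 ?_
      exact commutator_mem_commutator x.2 (mem_top (y : R))
    exact mem_center_iff.mpr fun z => Subtype.ext (mem_centralizer_iff.mp h1.2 (z : R) z.2)
  let X : Subgroup R :=
    { carrier := {x | x ∈ H ∧ x ^ p = 1}
      one_mem' := ⟨H.one_mem, one_pow p⟩
      mul_mem' := fun {x y} hx hy => ⟨H.mul_mem hx.1 hy.1, congrArg Subtype.val
        (Thompson.pow_mul_eq_one_class_two hp2 hcl (x := ⟨x, hx.1⟩) (y := ⟨y, hy.1⟩)
          (Subtype.ext hx.2) (Subtype.ext hy.2))⟩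
      inv_mem' := fun {x} hx => ⟨H.inv_mem hx.1, by rw [inv_pow, hx.2, inv_one]⟩ }
  have hXc : X.Characteristic := characteristic_iff_le_comap.mpr fun φ x hx => by
    refine ⟨characteristic_iff_le_comap.mp hH φ hx.1, ?_⟩
    rw [← map_pow, hx.2, map_one]
  have hXexp : ∀ x : X, x ^ p = 1 := fun x => Subtype.ext x.2.2
  have hXp : IsPGroup p X := hR.to_subgroup X
  have hXr : Cfsg.PRankLE p 2 X := by
    intro B hB hBp
    rw [← card_map_of_injective X.subtype_injective]
    haveI := hB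
    refine hr (B.map X.subtype) inferInstance ?_
    rintro _ ⟨b, hb, rfl⟩
    rw [← map_pow, hBp b hb, map_one]
  have lift : ∀ b : MulAut R, (orderOf b).Coprime p → (∀ x ∈ X, b x = x) → b = 1 := by
    intro b hbo hb
    have hHb : Hall.charRestrict H b = 1 := by
      refine Cfsg.Agent.S0120.result hp2 (hR.to_subgroup H) _
        (hbo.coprime_dvd_left (orderOf_map_dvd _ b)) ?_
      intro x hx
      exact Subtype.ext (hb x ⟨x.2, congrArg Subtype.val hx⟩)
    exact Cfsg.Agent.S0121.result hR H hH hH1 hH2 hH3 b hbo fun x hx => by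
      have h := DFunLike.congr_fun hHb (⟨x, hx⟩ : H)
      exact congrArg Subtype.val h
  rcases Hall.exponent_p_rank_two hXexp hXr with ⟨hcomm, hcard⟩ | ⟨hnc, hZ, hq⟩
  · refine ⟨X, ⊥, bot_le, hXc, inferInstance, fun x hx => hx.2, fun x _ d hd => ?_,
      fun x hx y hy => ?_, by simpa using hcard, Or.inl rfl, fun b hbo hb => lift b hbo fun x hx => ?_⟩
    · rw [mem_bot.mp hd]; exact Commute.one_right x
    · rw [mem_bot, commutatorElement_eq_one_iff_mul_comm]
      exact congrArg Subtype.val (hcomm ⟨x, hx⟩ ⟨y, hy⟩)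
    · exact mul_inv_eq_one.mp (mem_bot.mp (hb x hx))
  · set Z := center X with hZdef
    set D := Z.map X.subtype with hD
    have hDc : D.Characteristic := by
      refine characteristic_iff_le_comap.mpr fun φ d hd => ?_
      obtain ⟨z, hz, rfl⟩ := hd
      have hφX : ∀ x, φ x ∈ X ↔ x ∈ X := fun x => by
        have := characteristic_iff_comap_eq.mp hXc φ
        exact (SetLike.ext_iff.mp this x)
      refine ⟨⟨φ z, (hφX _).2 z.2⟩, mem_center_iff.mpr fun g => ?_, rfl⟩
      have h1 := congrArg Subtype.val (mem_center_iff.mp hz ⟨φ.symm g, (hφX _).1 (by simp)⟩)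
      refine Subtype.ext ?_
      simpa using congrArg φ h1
    have hqc : ∀ x y : X, ⁅x, y⁆ ∈ Z := by
      have hQp : IsPGroup p (X ⧸ Z) := hXp.to_quotient _
      obtain ⟨i, hi⟩ := IsPGroup.iff_card.mp hQp
      have h2 : i ≤ 2 := (Nat.pow_le_pow_iff_right hp.out.one_lt).mp (hi ▸ hq)
      intro x y
      rw [← QuotientGroup.eq_one_iff, ← QuotientGroup.mk'_apply, map_commutatorElement,
        commutatorElement_eq_one_iff_mul_comm]
      interval_cases i
      · haveI : Subsingleton (X ⧸ Z) := (Nat.card_eq_one_iff_unique.mp (by simpa using hi)).1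
        exact Subsingleton.elim _ _
      · haveI := isCyclic_of_prime_card (p := p) (by simpa using hi : Nat.card (X ⧸ Z) = p)
        exact (IsCyclic.commGroup (α := X ⧸ Z)).mul_comm _ _
      · exact (IsPGroup.isMulCommutative_of_card_eq_prime_sq hi).is_comm.comm _ _
    obtain ⟨x, y, hxy⟩ : ∃ x y : X, ⁅x, y⁆ ≠ 1 := by
      by_contra hno
      push Not at hno
      exact hnc fun x y => commutatorElement_eq_one_iff_mul_comm.mp (hno x y)
    have hgen : zpowers ⁅x, y⁆ = Z := by
      refine eq_of_le_of_card_ge (zpowers_le.mpr (hqc x y)) ?_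
      rw [Nat.card_zpowers, hZ, orderOf_eq_prime (hXexp _) hxy]
    have hDgen : D = zpowers ⁅(x : R), (y : R)⁆ := by
      rw [hD, ← hgen, MonoidHom.map_zpowers, map_commutatorElement]
      rfl
    have hDX : D ≤ X := map_subtype_le _
    have hDcard : Nat.card D = p := by rw [hD, card_map_of_injective X.subtype_injective, hZ]
    refine ⟨X, D, hDX, hXc, hDc, fun a ha => ha.2, ?_, fun a ha c hc => ?_, ?_,
      Or.inr ⟨x, x.2, y, y.2, fun h => hxy (Subtype.ext h), hDgen⟩, fun b hbo hb => lift b hbo ?_⟩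
    · rintro a ha _ ⟨z, hz, rfl⟩
      exact congrArg Subtype.val (mem_center_iff.mp hz ⟨a, ha⟩)
    · exact ⟨⁅(⟨a, ha⟩ : X), ⟨c, hc⟩⁆, hqc _ _, rfl⟩
    · rw [hDcard, ← Z.card_mul_index, hZ, index_eq_card]
      calc p * Nat.card (X ⧸ Z) ≤ p * p ^ 2 := Nat.mul_le_mul_left p hq
        _ = _ := mul_comm _ _
    · have hcom : ∀ a ∈ X, ∀ d ∈ D, Commute a d := by
        rintro a ha _ ⟨z, hz, rfl⟩
        exact congrArg Subtype.val (mem_center_iff.mp hz ⟨a, ha⟩)
      have hbD : b ⁅(x : R), (y : R)⁆ = ⁅(x : R), (y : R)⁆ := by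
        set d1 := b x * (x : R)⁻¹
        set d2 := b y * (y : R)⁻¹
        have h1 : d1 ∈ D := hb x x.2
        have h2 : d2 ∈ D := hb y y.2
        rw [map_commutatorElement, show b x = d1 * (x : R) by simp [d1], show b y = d2 * (y : R) by simp [d2]]
        have c1x : Commute (x : R) d1 := hcom x x.2 _ h1
        have c1y : Commute (y : R) d1 := hcom y y.2 _ h1
        have c2x : Commute (x : R) d2 := hcom x x.2 _ h2
        have c2y : Commute (y : R) d2 := hcom y y.2 _ h2
        have c12 : Commute d1 d2 := hcom _ (hDX h1) _ h2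
        have e1 : ⁅d1 * (x : R), d2 * (y : R)⁆ =
            d1 * ⁅(x : R), d2 * (y : R)⁆ * d1⁻¹ * ⁅d1, d2 * (y : R)⁆ := by
          simp only [commutatorElement_def]; group
        have e2 : ⁅(x : R), d2 * (y : R)⁆ = ⁅(x : R), d2⁆ * (d2 * ⁅(x : R), (y : R)⁆ * d2⁻¹) := by
          simp only [commutatorElement_def]; group
        have hxyX : ⁅(x : R), (y : R)⁆ ∈ X := (⁅x, y⁆ : X).2
        rw [e1, commutatorElement_eq_one_iff_mul_comm.2 (c12.mul_right c1y.symm).eq, mul_one, e2,
          commutatorElement_eq_one_iff_mul_comm.2 c2x.eq, one_mul, ← (hcom _ hxyX d2 h2).eq,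
          mul_inv_cancel_right, ← (hcom _ hxyX d1 h1).eq, mul_inv_cancel_right]
      have hfix : ∀ d ∈ D, b d = d := fun d hd => by
        rw [hDgen] at hd
        obtain ⟨i, rfl⟩ := mem_zpowers_iff.mp hd
        rw [map_zpow, hbD]
      intro w hw
      refine Thompson.eq_self_of_coprime hR hbo (hfix _ ?_)
      have h1 := hb w hw
      have h2 : w⁻¹ * b w = w⁻¹ * (b w * w⁻¹) * w := by group
      rw [h2, mul_assoc, ← (hcom w hw _ h1).eq, inv_mul_cancel_left]
      exact h1

omit hp in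
theorem exists_add_equiv_module [Fact p.Prime] (M : Type u) [AddCommGroup M] [Finite M] [Module (ZMod p) M]
    (hcard : Nat.card M = p ^ 2) : ∃ e : M →+ ZMod p × ZMod p, Function.Bijective e := by
  have hfin : Module.Finite (ZMod p) M := Module.Finite.of_finite
  have h := @Module.natCard_eq_pow_finrank (ZMod p) M _ _ _ hfin
  rw [Nat.card_zmod, hcard] at h
  have hd := (Nat.pow_right_injective (Fact.out : p.Prime).two_le h).symm
  have h2 : Module.finrank (ZMod p) M = Module.finrank (ZMod p) (ZMod p × ZMod p) := by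
    rw [hd, Module.finrank_prod, Module.finrank_self]
  let e := LinearEquiv.ofFinrankEq M (ZMod p × ZMod p) h2
  exact ⟨e.toLinearMap.toAddMonoidHom, e.bijective⟩

omit hp in
theorem exists_add_equiv [Fact p.Prime] (M : Type u) [AddCommGroup M] [Finite M] (hexp : ∀ m : M, p • m = 0)
    (hcard : Nat.card M = p ^ 2) : ∃ e : M →+ ZMod p × ZMod p, Function.Bijective e :=
  @exists_add_equiv_module p _ M _ _ (AddCommGroup.zmodModule hexp) hcard

/-- Coordinates on an elementary abelian quotient of order `p^2`. -/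
theorem exists_coord {Ω : Type u} [Group Ω] {X D : Subgroup Ω} (hDX : D ≤ X)
    (hn : ∀ x ∈ X, ∀ d ∈ D, x * d * x⁻¹ ∈ D) (hpw : ∀ x ∈ X, x ^ p ∈ D)
    (hcard : Nat.card X = p ^ 2 * Nat.card D) [Finite X] :
    ∃ k : Ω → ZMod p × ZMod p, (∀ x ∈ X, ∀ y ∈ X, k (x * y) = k x + k y) ∧
      (∀ v, ∃ x ∈ X, k x = v) ∧ ∀ x ∈ X, (k x = 0 ↔ x ∈ D) := by
  classical
  have : (D.subgroupOf X).Normal := ⟨fun d hd g => hn g g.2 d hd⟩
  set Q := X ⧸ D.subgroupOf X
  have hQ : Nat.card Q = p ^ 2 := by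
    have h := (D.subgroupOf X).card_mul_index
    rw [Nat.card_congr (subgroupOfEquivOfLe hDX).toEquiv, index_eq_card, hcard,
      mul_comm (p ^ 2)] at h
    have := Finite.of_injective _ (inclusion_injective hDX)
    exact Nat.eq_of_mul_eq_mul_left Nat.card_pos h
  letI : CommGroup Q := { (inferInstance : Group Q) with
    mul_comm := (IsPGroup.isMulCommutative_of_card_eq_prime_sq hQ).is_comm.comm }
  have hexp : ∀ q : Additive Q, p • q = 0 := by
    intro q
    obtain ⟨⟨x, hx⟩, hq⟩ := QuotientGroup.mk_surjective q.toMul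
    show Additive.ofMul (q.toMul ^ p) = Additive.ofMul 1
    rw [← hq, ← QuotientGroup.mk_pow]
    exact congrArg Additive.ofMul ((QuotientGroup.eq_one_iff _).2 (hpw x hx))
  have : Finite (Additive Q) := inferInstanceAs (Finite Q)
  obtain ⟨e, he⟩ := exists_add_equiv (Additive Q) hexp hQ
  let k : Ω → ZMod p × ZMod p := fun x =>
    if h : x ∈ X then e (Additive.ofMul (QuotientGroup.mk (⟨x, h⟩ : X) : Q)) else 0
  have hk : ∀ x (h : x ∈ X), k x = e (Additive.ofMul (QuotientGroup.mk (⟨x, h⟩ : X) : Q)) :=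
    fun x h => dif_pos h
  refine ⟨k, fun x hx y hy => ?_, fun v => ?_, fun x hx => ?_⟩
  · rw [hk x hx, hk y hy, hk _ (X.mul_mem hx hy), ← map_add]
    rfl
  · obtain ⟨m, hm⟩ := he.2 v
    obtain ⟨⟨x, hx⟩, hq⟩ := QuotientGroup.mk_surjective m.toMul
    refine ⟨x, hx, ?_⟩
    rw [hk x hx, hq]
    exact hm
  · rw [hk x hx, map_eq_zero_iff e he.1]
    exact QuotientGroup.eq_one_iff (N := D.subgroupOf X) ⟨x, hx⟩

/-- An element of order `p` commuting with a rank two elementary subgroup of a rank two group lies in it. -/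
theorem mem_of_rank {Ω : Type u} [Group Ω] {S : Subgroup Ω} [Finite S] (hS : IsPGroup p S)
    (hr : ∀ E : Subgroup Ω, E ≤ S → Cfsg.IsElementaryAbelian p E → Nat.card E ≤ p ^ 2)
    {a c w : Ω} (ha : a ∈ S) (hc : c ∈ S) (hw : w ∈ S) (hap : a ^ p = 1) (hcp : c ^ p = 1) (hwp : w ^ p = 1)
    (hc1 : c ≠ 1) (hac : a ∉ zpowers c) (hab : Commute a c) (haw : Commute a w) (hcw : Commute c w) :
    w ∈ zpowers a ⊔ zpowers c := by
  by_contra hn
  set B := zpowers a ⊔ zpowers c
  set E : Subgroup Ω := closure {a, c, w}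
  have hES : E ≤ S := (closure_le _).2 (by simp [Set.insert_subset_iff, ha, hc, hw])
  haveI : IsMulCommutative E := by
    refine Subgroup.isMulCommutative_closure ?_
    intro x hx y hy
    simp only [Set.mem_insert_iff, Set.mem_singleton_iff] at hx hy
    rcases hx with rfl | rfl | rfl <;> rcases hy with rfl | rfl | rfl <;>
      first | rfl | exact hab.eq | exact hab.symm.eq | exact haw.eq | exact haw.symm.eq | exact hcw.eq | exact hcw.symm.eq
  have hEe : ∀ x ∈ E, x ^ p = 1 := by
    intro x hx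
    induction hx using closure_induction with
    | mem x hx =>
      simp only [Set.mem_insert_iff, Set.mem_singleton_iff] at hx
      rcases hx with rfl | rfl | rfl <;> assumption
    | one => exact one_pow p
    | mul x y hx hy h1 h2 => rw [(show Commute x y from setLike_mul_comm hx hy).mul_pow, h1, h2, one_mul]
    | inv x _ h => rw [inv_pow, h, inv_one]
  have := Finite.of_injective _ (inclusion_injective hES)
  have hle := hr E hES ⟨inferInstance, hEe⟩
  have hEp : IsPGroup p E := hS.to_le hES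
  have h1 : zpowers c < B := lt_of_le_of_ne le_sup_right fun e =>
    hac (e ▸ mem_sup_left (mem_zpowers a))
  have h2 : B < E := lt_of_le_of_ne (sup_le (zpowers_le.2 (subset_closure (by simp)))
    (zpowers_le.2 (subset_closure (by simp)))) fun e => hn (e ▸ subset_closure (by simp))
  have := Finite.of_injective _ (inclusion_injective (h2.le.trans hES))
  have hB : Nat.card (zpowers c) * p ≤ Nat.card B := by
    have := Thompson.card_mul_p_le (hEp.to_le h2.le) (A := (zpowers c).subgroupOf B) (B := ⊤) (by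
      refine lt_top_iff_ne_top.2 fun e => ?_
      rw [subgroupOf_eq_top] at e
      exact not_le_of_gt h1 e)
    rwa [Nat.card_congr (subgroupOfEquivOfLe h1.le).toEquiv, card_top, mul_comm] at this
  have hE : Nat.card B * p ≤ Nat.card E := by
    have := Thompson.card_mul_p_le hEp (A := B.subgroupOf E) (B := ⊤) (by
      refine lt_top_iff_ne_top.2 fun e => ?_
      rw [subgroupOf_eq_top] at e
      exact not_le_of_gt h2 e)
    rwa [Nat.card_congr (subgroupOfEquivOfLe h2.le).toEquiv, card_top, mul_comm] at this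
  rw [Nat.card_zpowers, orderOf_eq_prime hcp hc1] at hB
  have h3 : p * p * p ≤ p ^ 2 := ((Nat.mul_le_mul_right p hB).trans hE).trans hle
  have h4 := hp.out.two_le
  nlinarith

/-- An automorphism of exponent `p` of a homocyclic group `⟨r⟩^G` of exponent at most `p^2` fixes all `p`-th
powers, `p ≥ 5`. -/
theorem apply_pow_eq (h5 : 5 ≤ p) {R : Type u} [CommGroup R] (u : MulAut R) (hu : u ^ p = 1)
    (hquad : ∀ x : R, x ^ p = 1 → u (u x / x) = u x / x)
    (hpow : ∀ x : R, x ^ p = 1 → (u x / x) ^ p = 1) {r : R} (hr : r ^ p ^ 2 = 1) : u (r ^ p) = r ^ p := by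
  set D : R → R := fun x => u x / x with hD
  have hu' : ∀ x, u x = x * D x := fun x => by simp [hD]
  have hDp : ∀ x, D x ^ p = D (x ^ p) := fun x => by simp [hD, map_pow, div_pow]
  have hrp : (r ^ p) ^ p = 1 := by rw [← pow_mul, ← sq]; exact hr
  set d1 := D r
  set d2 := D d1
  set d3 := D d2
  have hd1 : d1 ^ p = D (r ^ p) := hDp r
  have hd2 : d2 ^ p = 1 := by
    rw [hDp, hd1]
    show u (D (r ^ p)) / D (r ^ p) = 1
    rw [show u (D (r ^ p)) = D (r ^ p) from hquad _ hrp, div_self']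
  have hd3 : d3 ^ p = 1 := hpow _ hd2
  have hd4 : u d3 = d3 := hquad _ hd2
  have key : ∀ m : ℕ, (u ^ m) r = r * d1 ^ m * d2 ^ m.choose 2 * d3 ^ m.choose 3 := by
    intro m
    induction m with
    | zero => simp
    | succ m ih =>
      rw [pow_succ', MulAut.mul_apply, ih, map_mul, map_mul, map_mul, map_pow, map_pow, map_pow, hd4,
        hu' r, hu' d1, hu' d2, show (m + 1).choose 2 = m + m.choose 2 by rw [Nat.choose_succ_succ', Nat.choose_one_right],
        show (m + 1).choose 3 = m.choose 2 + m.choose 3 from Nat.choose_succ_succ' m 2]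
      simp only [mul_pow, pow_add, pow_succ', pow_zero, mul_one]
      show r * d1 * (d1 ^ m * d2 ^ m) * (d2 ^ m.choose 2 * d3 ^ m.choose 2) * d3 ^ m.choose 3 = _
      ac_rfl
  have h := key p
  rw [hu, MulAut.one_apply, hd1] at h
  obtain ⟨c2, hc2⟩ := hp.out.dvd_choose_self two_ne_zero (by omega : 2 < p)
  obtain ⟨c3, hc3⟩ := hp.out.dvd_choose_self three_ne_zero (by omega : 3 < p)
  rw [hc2, hc3, pow_mul, pow_mul, hd2, hd3, one_pow, one_pow, mul_one, mul_one] at h
  have h1 : D (r ^ p) = 1 := mul_left_cancel (a := r) (by rw [mul_one]; exact h.symm)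
  rw [hu', h1, mul_one]

/-- A Bezout step: if `c^m` is a `p`-th power and `p ∤ m` then so is `c`. -/
theorem exists_root {Ω : Type u} [Group Ω] {C : Subgroup Ω} (hC : ∀ x ∈ C, ∀ y ∈ C, Commute x y) {c d : Ω}
    (hc : c ∈ C) (hd : d ∈ C) {m : ℤ} (hm : ¬ (p : ℤ) ∣ m) (h : c ^ m = d ^ p) :
    ∃ e ∈ C, e ^ p = c := by
  obtain ⟨u, v, huv⟩ : IsCoprime m (p : ℤ) :=
    ((Nat.prime_iff_prime_int.1 hp.out).coprime_iff_not_dvd.2 hm).symm
  refine ⟨d ^ u * c ^ v, C.mul_mem (C.zpow_mem hd u) (C.zpow_mem hc v), ?_⟩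
  have h' : c ^ m = d ^ (p : ℤ) := by rw [h, zpow_natCast]
  rw [(hC _ (C.zpow_mem hd u) _ (C.zpow_mem hc v)).mul_pow, ← zpow_natCast, ← zpow_natCast, ← zpow_mul,
    ← zpow_mul, mul_comm u (p : ℤ), zpow_mul, ← h', ← zpow_mul, ← zpow_add, mul_comm m u, huv, zpow_one]

end Cfsg.Agent.Lib.LocalP2.RankTwo
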