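import Cfsg.Agent.Lib.LocalP2.RankTwoClimb

/-!
Rank two, `p ≥ 5`: neither an extraspecial section with irreducible automizer nor a self-centralizing
subgroup of order `p^2` survives.
-/

set_option autoImplicit false

namespace Cfsg.Agent.Lib.LocalP2.RankTwo

open Cfsg Cfsg.FusionSystem Cfsg.Agent.Lib.Fusion
open scoped commutatorElement

universe u

variable {p : ℕ} [hp : Fact p.Prime] {Ω : Type u} [Group Ω] {S : Subgroup Ω} {F : FusionSystem S}
  {R : Subgroup Ω}

namespace Plane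

variable (P : Plane F p R) [Finite S]

theorem det_flip (v w : ZMod p × ZMod p) : det w v = - det v w := by simp only [det]; ring

/-- `Aut_S(R)` consists of transvections with a common centre, one of them nontrivial. -/
theorem exists_centre (hS : IsPGroup p S) (hne : R ≠ S) (hcent : centralizerIn S R ≤ R) (hK : P.KerInner) :
    ∃ v, v ≠ 0 ∧ (∀ t ∈ P.innerS, P.Unip v t) ∧ ∃ t ∈ P.innerS, ¬ ∀ x, P.M t x = x := by
  obtain ⟨v, hv, hfix⟩ := P.exists_fixed P.innerS (P.isPGroup_innerS hS)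
  obtain ⟨g, hg, hgR⟩ := exists_normalizerIn_not_mem hS (lt_of_le_of_ne P.hRS hne)
  refine ⟨v, hv, fun t ht => P.unip_of_stab hv ?_ (by rw [hfix t ht, det_self]),
    P.tau g hg, P.tau_mem hg, fun h => hgR (P.mem_of_fix hK hcent hg h)⟩
  obtain ⟨j, hj⟩ := P.isPGroup_innerS hS ⟨t, ht⟩
  exact ⟨j, congrArg Subtype.val hj⟩

/-- An extraspecial section with irreducible automizer is impossible. -/
theorem false_of_heis (h5 : 5 ≤ p) (hS : IsPGroup p S) (hF : F.IsSaturated p)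
    (hrank : ∀ E : Subgroup Ω, E ≤ S → Cfsg.IsElementaryAbelian p E → Nat.card E ≤ p ^ 2)
    (hn : F.IsFullyNormalized R) (hne : R ≠ S) (hcent : centralizerIn S R ≤ R) (hK : P.KerInner)
    (hInn : ∀ g ∈ R, ∀ x ∈ P.X, P.k (g * x * g⁻¹) = P.k x) (hXe : ∀ x ∈ P.X, x ^ p = 1)
    {z : Ω} (hzX : z ∈ P.X) (hz1 : z ≠ 1) (hDz : ∀ x ∈ P.X, P.k x = 0 → x ∈ Subgroup.zpowers z)
    (hzc : ∀ x ∈ P.X, Commute x z) (hnc : ¬ ∀ x ∈ P.X, ∀ y ∈ P.X, Commute x y) (hnl : P.NoLine) : False := by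
  classical
  have hRf := finite_of_le P.hRS
  have := finite_mulAut P.hRS
  have hRp : IsPGroup p R := hS.to_le P.hRS
  obtain ⟨v, hv, hT, u, huT, hu1⟩ := P.exists_centre hS hne hcent hK
  obtain ⟨w, hd, hdiag⟩ := P.exists_diag hnl hv (hT u huT) hu1
  obtain ⟨lam, hl0, hl1, hl2⟩ := exists_generic (p := p) h5
  obtain ⟨α0, hα0v, hα0w⟩ := hdiag lam lam⁻¹ (mul_inv_cancel₀ hl0)
  -- make the order prime to `p`
  set k := (orderOf α0).factorization p with hk
  set α := α0 ^ p ^ k with hαdef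
  have hαo : (orderOf α).Coprime p := by
    rw [hαdef, orderOf_pow_of_dvd (pow_ne_zero _ hp.out.ne_zero) (Nat.ordProj_dvd _ _)]
    exact (Nat.coprime_ordCompl hp.out (orderOf_pos α0).ne').symm
  have hαv : P.M α v = lam • v := by rw [P.M_pow_eigen α0 hα0v, ZMod.pow_card_pow]
  have hαw : P.M α w = lam⁻¹ • w := by rw [P.M_pow_eigen α0 hα0w, ZMod.pow_card_pow]
  -- generators
  obtain ⟨a, haX, hka⟩ := P.ksurj v
  obtain ⟨b, hbX, hkb⟩ := P.ksurj w
  have hzp := hXe z hzX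
  have hkerc : ∀ x ∈ P.X, P.k x = 0 → ∀ y ∈ P.X, Commute x y := fun x hx h y hy => by
    obtain ⟨i, rfl⟩ := exists_nat_pow hzp hz1 (hDz x hx h)
    exact ((hzc y hy).pow_right i).symm
  have hdet0 : ∀ x ∈ P.X, Commute a x → Commute b x → P.k x = 0 := by
    intro x hx hax hbx
    have h1 : det v (P.k x) = 0 := by
      by_contra h
      exact hnc (P.comm_of_indep hkerc haX hx hax (by rwa [hka]))
    have h2 : det (P.k x) w = 0 := by
      by_contra h
      exact hnc (P.comm_of_indep hkerc hx hbX hbx.symm (by rwa [hkb]))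
    rw [decomp hd (P.k x), h1, h2, zero_div, zero_smul, zero_smul, add_zero]
  set z1 := ⁅a, b⁆ with hz1def
  have hz1X : z1 ∈ P.X := by
    rw [hz1def, commutatorElement_def]
    exact P.X.mul_mem (P.X.mul_mem (P.X.mul_mem haX hbX) (P.X.inv_mem haX)) (P.X.inv_mem hbX)
  have hkz1 : P.k z1 = 0 := by
    rw [hz1def, commutatorElement_def,
      P.kmul _ (P.X.mul_mem (P.X.mul_mem haX hbX) (P.X.inv_mem haX)) _ (P.X.inv_mem hbX),
      P.kmul _ (P.X.mul_mem haX hbX) _ (P.X.inv_mem haX), P.kmul _ haX _ hbX, P.k_inv haX, P.k_inv hbX]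
    abel
  have hz1ne : z1 ≠ 1 := fun h => hnc (P.comm_of_indep hkerc haX hbX
    (commutatorElement_eq_one_iff_mul_comm.1 h) (by rwa [hka, hkb]))
  have hz1p := hXe z1 hz1X
  have hgen : Subgroup.zpowers z1 = Subgroup.zpowers z := by
    have := Finite.of_injective _ (Subgroup.inclusion_injective
      (Subgroup.zpowers_le.2 (P.hRS (P.hX hzX)) : Subgroup.zpowers z ≤ S))
    refine Subgroup.eq_of_le_of_card_ge (Subgroup.zpowers_le.2 (hDz z1 hz1X hkz1)) ?_
    rw [Nat.card_zpowers, Nat.card_zpowers, orderOf_eq_prime hz1p hz1ne, orderOf_eq_prime hzp hz1]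
  have hDz1 : ∀ x ∈ P.X, P.k x = 0 → x ∈ Subgroup.zpowers z1 := fun x hx h => hgen ▸ hDz x hx h
  have hXgen : ∀ g : Ω, Commute g a → Commute g b → Commute g z1 → ∀ x ∈ P.X, Commute g x := by
    intro g h1 h2 h3 x hx
    set s := det (P.k x) w / det v w
    set t := det v (P.k x) / det v w
    have hm := P.X.mul_mem (P.X.pow_mem haX s.val) (P.X.pow_mem hbX t.val)
    have h0 : P.k ((a ^ s.val * b ^ t.val)⁻¹ * x) = 0 := by
      rw [← P.k_eq_iff hx hm, P.kmul _ (P.X.pow_mem haX _) _ (P.X.pow_mem hbX _), P.k_pow haX, P.k_pow hbX,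
        nat_smul_val, nat_smul_val, hka, hkb]
      exact decomp hd _
    obtain ⟨i, hi⟩ := exists_nat_pow hz1p hz1ne (hDz1 _ (P.X.mul_mem (P.X.inv_mem hm) hx) h0)
    have hx' : x = a ^ s.val * b ^ t.val * z1 ^ i := by rw [hi, mul_inv_cancel_left]
    rw [hx']
    exact ((h1.pow_right _).mul_right (h2.pow_right _)).mul_right (h3.pow_right _)
  -- the centralizer of the section
  set C := R ⊓ Subgroup.centralizer (P.X : Set Ω) with hCdef
  have hCR : C ≤ R := inf_le_left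
  have hCX : ∀ c ∈ C, ∀ x ∈ P.X, Commute x c := fun c hc x hx => Subgroup.mem_centralizer_iff.1 hc.2 x hx
  have hz1C : z1 ∈ C := ⟨P.hX hz1X,
    Subgroup.mem_centralizer_iff.2 fun x hx => ((hkerc z1 hz1X hkz1 x hx)).symm.eq⟩
  have hform : ∀ g ∈ R, ∃ x ∈ P.X, ∃ c ∈ C, g = x * c := by
    intro g hg
    have hgN : g ∈ normalizerIn S R := le_normalizerIn P.hRS hg
    have hconjX : ∀ x ∈ P.X, g * x * g⁻¹ ∈ P.X := fun x hx => by
      have := P.hXinv _ (P.tau g hgN).2 ⟨x, P.hX hx⟩ hx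
      rwa [P.tau_apply] at this
    have hd1 : ∀ x ∈ P.X, ∃ i : ℕ, z1 ^ i = g * x * g⁻¹ * x⁻¹ := fun x hx =>
      exists_nat_pow hz1p hz1ne (hDz1 _ (P.X.mul_mem (hconjX x hx) (P.X.inv_mem hx)) (by
        rw [P.kmul _ (hconjX x hx) _ (P.X.inv_mem hx), P.k_inv hx, hInn g hg x hx, add_neg_cancel]))
    obtain ⟨i, hi⟩ := hd1 a haX
    obtain ⟨j, hj⟩ := hd1 b hbX
    have hza : Commute z1 a := hkerc z1 hz1X hkz1 a haX
    have hzb : Commute z1 b := hkerc z1 hz1X hkz1 b hbX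
    have hba : ⁅b, a⁆ = z1⁻¹ := (commutatorElement_inv a b).symm
    have e1 : b ^ (i * (p - 1)) * a * (b ^ (i * (p - 1)))⁻¹ = z1 ^ i * a := by
      have h1 := Thompson.commutator_pow_left (x := b) (c := a) (by rw [hba]; exact hzb.inv_left) (i * (p - 1))
      rw [hba, inv_pow] at h1
      have h2 : (z1 ^ (i * (p - 1)))⁻¹ = z1 ^ i := by
        rw [inv_eq_iff_mul_eq_one, ← pow_add, show i * (p - 1) + i = p * i by
          obtain ⟨q, rfl⟩ := Nat.exists_eq_add_of_le hp.out.pos; simp only [Nat.add_sub_cancel_left]; ring,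
          pow_mul, hz1p, one_pow]
      rw [← h2, ← h1, commutatorElement_def]
      group
    have e2 : a ^ j * b * (a ^ j)⁻¹ = z1 ^ j * b := by
      rw [← Thompson.commutator_pow_left (x := a) (c := b) hza j, commutatorElement_def]
      group
    set x0 := a ^ j * b ^ (i * (p - 1))
    have hx0 : x0 ∈ P.X := P.X.mul_mem (P.X.pow_mem haX j) (P.X.pow_mem hbX _)
    have hxa : x0 * a * x0⁻¹ = g * a * g⁻¹ := by
      calc x0 * a * x0⁻¹ = a ^ j * (b ^ (i * (p - 1)) * a * (b ^ (i * (p - 1)))⁻¹) * (a ^ j)⁻¹ := by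
            simp only [x0]; group
        _ = a ^ j * z1 ^ i * (a * (a ^ j)⁻¹) := by rw [e1]; group
        _ = z1 ^ i * a := by rw [← (hza.pow_pow i j).eq]; group
        _ = _ := by rw [hi]; group
    have hxb : x0 * b * x0⁻¹ = g * b * g⁻¹ := by
      have h1 : b ^ (i * (p - 1)) * b * (b ^ (i * (p - 1)))⁻¹ = b := by
        rw [((Commute.refl b).pow_left _).eq, mul_inv_cancel_right]
      calc x0 * b * x0⁻¹ = a ^ j * (b ^ (i * (p - 1)) * b * (b ^ (i * (p - 1)))⁻¹) * (a ^ j)⁻¹ := by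
            simp only [x0]; group
        _ = z1 ^ j * b := by rw [h1, e2]
        _ = _ := by rw [hj]; group
    have hcm : ∀ x, x0 * x * x0⁻¹ = g * x * g⁻¹ → Commute (x0⁻¹ * g) x := fun x h => by
      show x0⁻¹ * g * x = x * (x0⁻¹ * g)
      calc x0⁻¹ * g * x = x0⁻¹ * (g * x * g⁻¹) * g := by group
        _ = _ := by rw [← h]; group
    refine ⟨x0, hx0, x0⁻¹ * g, ⟨R.mul_mem (R.inv_mem (P.hX hx0)) hg, Subgroup.mem_centralizer_iff.2 fun x hx =>
      (hXgen _ (hcm a hxa) (hcm b hxb) ?_ x hx).symm.eq⟩, (mul_inv_cancel_left _ _).symm⟩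
    refine hcm z1 ?_
    have h3 : g * z1 * g⁻¹ = ⁅g * a * g⁻¹, g * b * g⁻¹⁆ := by
      rw [hz1def]; simp only [commutatorElement_def]; group
    rw [h3, ← hxa, ← hxb, hz1def]
    simp only [commutatorElement_def]; group
  -- `C` is cyclic
  have hbz : b ∉ Subgroup.zpowers z1 := fun h => by
    obtain ⟨i, hi⟩ := exists_nat_pow hz1p hz1ne h
    have := P.k_pow hz1X i
    rw [hi, hkz1, smul_zero, hkb] at this
    exact hd (by simp [det, this])
  have hCord : ∀ c ∈ C, c ^ p = 1 → c ∈ Subgroup.zpowers z1 := by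
    intro c hc hcp
    have hmem := mem_of_rank hS hrank (P.hRS (P.hX hbX)) (P.hRS (P.hX hz1X)) (P.hRS (hCR hc)) (hXe b hbX)
      hz1p hcp hz1ne hbz (hkerc z1 hz1X hkz1 b hbX).symm (hCX c hc b hbX) (hCX c hc z1 hz1X)
    have hcX : c ∈ P.X := (sup_le (Subgroup.zpowers_le.2 hbX) (Subgroup.zpowers_le.2 hz1X)) hmem
    exact hDz1 c hcX (hdet0 c hcX (hCX c hc a haX) (hCX c hc b hbX))
  have hCcomm : ∀ c ∈ C, ∀ c' ∈ C, Commute c c' := by
    have hcyc : IsCyclic C := by
      have hCf : Finite C := finite_of_le (hCR.trans P.hRS)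
      rcases UniqueInvolution.isCyclic_or_quaternion (p := p) (hS.to_le (hCR.trans P.hRS)) (fun H K hH hK => by
        have key : ∀ L : Subgroup C, Nat.card L = p → L.map C.subtype = Subgroup.zpowers z1 := fun L hL => by
          have := Finite.of_injective _ (Subgroup.inclusion_injective
            (Subgroup.zpowers_le.2 (P.hRS (P.hX hz1X)) : Subgroup.zpowers z1 ≤ S))
          refine Subgroup.eq_of_le_of_card_ge ?_ (by
            rw [Nat.card_zpowers, orderOf_eq_prime hz1p hz1ne,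
              Subgroup.card_map_of_injective C.subtype_injective, hL])
          rintro _ ⟨x, hx, rfl⟩
          refine hCord _ x.2 ?_
          have h := pow_card_eq_one' (x := (⟨x, hx⟩ : L))
          rw [hL] at h
          exact congrArg Subtype.val (congrArg Subtype.val h)
        exact Subgroup.map_injective C.subtype_injective ((key H hH).trans (key K hK).symm)) with h | ⟨h, -⟩
      · exact h
      · omega
    intro c hc c' hc'
    exact congrArg Subtype.val ((IsCyclic.commGroup (α := C)).mul_comm ⟨c, hc⟩ ⟨c', hc'⟩)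
  have hCc : ∀ r ∈ R, ∀ c ∈ C, Commute r c := fun r hr c hc => by
    obtain ⟨x, hx, c', hc', rfl⟩ := hform r hr
    exact (hCX c hc x hx).mul_left (hCcomm c' hc' c hc)
  have hCinv : ∀ γ : F.autGroup R, ∀ c : R, (c : Ω) ∈ C → (((γ : MulAut R) c : R) : Ω) ∈ C := by
    intro γ c hc
    refine ⟨((γ : MulAut R) c).2, Subgroup.mem_centralizer_iff.2 fun x hx => ?_⟩
    set x0 : R := (γ : MulAut R)⁻¹ ⟨x, P.hX hx⟩
    have hx0 : (x0 : Ω) ∈ P.X := P.hXinv _ (inv_mem γ.2) ⟨x, P.hX hx⟩ hx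
    have h1 : Commute x0 c := Subtype.ext (hCX c hc x0 hx0).eq
    have h2 := h1.map (γ : MulAut R).toMonoidHom
    have h3 : (γ : MulAut R) x0 = ⟨x, P.hX hx⟩ := MulAut.apply_inv_self _ _ _
    rw [MulEquiv.coe_toMonoidHom, h3] at h2
    exact congrArg Subtype.val h2.eq
  -- `α` fixes `C`
  have haR := P.hX haX
  have hbR := P.hX hbX
  have hαz : (α : MulAut R) ⟨z1, hCR hz1C⟩ = ⟨z1, hCR hz1C⟩ := by
    set A := (((α : MulAut R) ⟨a, haR⟩ : R) : Ω)
    set B := (((α : MulAut R) ⟨b, hbR⟩ : R) : Ω)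
    have hAX : A ∈ P.X := P.hXinv _ α.2 ⟨a, haR⟩ haX
    have hBX : B ∈ P.X := P.hXinv _ α.2 ⟨b, hbR⟩ hbX
    have hA : P.k A = P.k (a ^ lam.val) := by
      rw [P.k_pow haX, nat_smul_val, P.M_k α (x := ⟨a, haR⟩) haX]
      show P.M α (P.k a) = _
      rw [hka, hαv]
    have hB : P.k B = P.k (b ^ lam⁻¹.val) := by
      rw [P.k_pow hbX, nat_smul_val, P.M_k α (x := ⟨b, hbR⟩) hbX]
      show P.M α (P.k b) = _
      rw [hkb, hαw]
    have ha' := P.X.pow_mem haX lam.val
    have hb' := P.X.pow_mem hbX lam⁻¹.val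
    have hc1 := hkerc _ (P.X.mul_mem (P.X.inv_mem ha') hAX) ((P.k_eq_iff hAX ha').1 hA)
    have hc2 := hkerc _ (P.X.mul_mem (P.X.inv_mem hb') hBX) ((P.k_eq_iff hBX hb').1 hB)
    refine Subtype.ext ?_
    have h0 : (⟨z1, hCR hz1C⟩ : R) = ⁅(⟨a, haR⟩ : R), ⟨b, hbR⟩⁆ := rfl
    rw [h0, map_commutatorElement]
    show ⁅A, B⁆ = z1
    conv_lhs => rw [show A = a ^ lam.val * ((a ^ lam.val)⁻¹ * A) from (mul_inv_cancel_left _ _).symm,
      show B = b ^ lam⁻¹.val * ((b ^ lam⁻¹.val)⁻¹ * B) from (mul_inv_cancel_left _ _).symm]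
    rw [commutator_mul_central (hc1 _ ha') (hc1 _ hb') (hc2 _ ha') (hc2 _ hb')
      (hc1 _ (P.X.mul_mem (P.X.inv_mem hb') hBX))]
    have h4 : ⁅a, b ^ lam⁻¹.val⁆ = z1 ^ lam⁻¹.val :=
      Thompson.commutator_pow_right (hkerc z1 hz1X hkz1 b hbX) _
    have h5' : Commute ⁅a, b ^ lam⁻¹.val⁆ a := by
      rw [h4]; exact (hkerc z1 hz1X hkz1 a haX).pow_left _
    rw [Thompson.commutator_pow_left h5' _, h4, ← pow_mul]
    conv_rhs => rw [← pow_one z1]
    exact pow_eq_of_natCast_eq hz1p (by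
      rw [Nat.cast_mul, ZMod.natCast_zmod_val, ZMod.natCast_zmod_val, Nat.cast_one, inv_mul_cancel₀ hl0])
  have hαC : ∀ c : R, (c : Ω) ∈ C → (α : MulAut R) c = c := by
    suffices H : ∀ e : ℕ, ∀ c : R, (c : Ω) ∈ C → c ^ p ^ e = 1 → (α : MulAut R) c = c by
      intro c hc
      obtain ⟨e, he⟩ := hRp c
      exact H e c hc he
    intro e
    induction e with
    | zero =>
      intro c _ h
      rw [pow_zero, pow_one] at h
      rw [h, map_one]
    | succ e ih =>
      intro c hc h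
      have hcp : (α : MulAut R) (c ^ p) = c ^ p := ih (c ^ p) (C.pow_mem hc p) (by rw [← pow_mul, ← pow_succ']; exact h)
      refine Thompson.eq_self_of_coprime hRp (by rwa [Subgroup.orderOf_coe]) ?_
      set q := c⁻¹ * (α : MulAut R) c with hq
      have hqC : (q : Ω) ∈ C := C.mul_mem (C.inv_mem hc) (hCinv α c hc)
      have hcomm : Commute c⁻¹ ((α : MulAut R) c) :=
        Subtype.ext ((hCcomm _ (C.inv_mem hc) _ (hCinv α c hc)).eq)
      have hqp : (q : Ω) ^ p = 1 := by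
        rw [← SubmonoidClass.coe_pow, hq, hcomm.mul_pow, ← map_pow, hcp, inv_pow, inv_mul_cancel,
          OneMemClass.coe_one]
      obtain ⟨i, hi⟩ := exists_nat_pow hz1p hz1ne (hCord q hqC hqp)
      rw [show q = ⟨z1, hCR hz1C⟩ ^ i from Subtype.ext hi.symm, map_pow, hαz]
  -- the normalizer centralizes `C`
  have hNC : ∀ g ∈ normalizerIn S R, ∀ c ∈ C, Commute g c := by
    intro g hg c0 hc0
    set c : R := ⟨c0, hCR hc0⟩
    set τ := P.tau g hg
    set n := (lam * lam).val with hndef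
    obtain ⟨s, hs⟩ := (hT τ (P.tau_mem hg)).2 w
    have hinvw : P.M α⁻¹ w = lam • w := by
      have h1 := congrArg (P.M α⁻¹) hαw
      rw [← P.M_mul, inv_mul_cancel, P.M_one, P.M_smul] at h1
      exact (inv_smul_eq_iff₀ hl0).1 h1.symm
    set γ := α * τ * α⁻¹
    have hγ : P.M γ w = w + (lam * lam * s) • v := by
      rw [P.M_mul, P.M_mul, hinvw, P.M_smul, hs, smul_add, map_add, P.M_smul, P.M_smul, P.M_smul, hαw, hαv,
        smul_smul, mul_inv_cancel₀ hl0, one_smul, smul_smul, smul_smul]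
      congr 2
      ring
    have hτn : P.M (τ ^ n) w = w + (lam * lam * s) • v := by
      rw [P.unip_pow (hT _ (P.tau_mem hg)) hs, hndef, ZMod.natCast_zmod_val]
    have hγu : P.Unip v γ := P.unip_conj hv (by rw [hαv, det_smul, det_self, mul_zero]) (hT _ (P.tau_mem hg))
    have hdiff : P.Unip v (γ⁻¹ * τ ^ n) :=
      (P.unipGroup v).mul_mem ((P.unipGroup v).inv_mem hγu) ((P.unipGroup v).pow_mem (hT _ (P.tau_mem hg)) n)
    obtain ⟨r, hr⟩ := hK _ (P.fix_of_two _ hd hdiff.1 (by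
      rw [P.M_mul, hτn, ← hγ, ← P.M_mul, inv_mul_cancel, P.M_one]))
    have hrc : (MulAut.conj r : MulAut R) c = c := by
      rw [MulAut.conj_apply]
      exact Subtype.ext (by
        show (r : Ω) * c0 * (r : Ω)⁻¹ = c0
        rw [(hCc r r.2 c0 hc0).eq, mul_inv_cancel_right])
    rw [hr] at hrc
    have h1 : ((τ ^ n : F.autGroup R) : MulAut R) c = (γ : MulAut R) c := by
      conv_rhs => rw [← hrc]
      show _ = ((γ * (γ⁻¹ * τ ^ n) : F.autGroup R) : MulAut R) c
      rw [mul_inv_cancel_left]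
    have h2 : (γ : MulAut R) c = (τ : MulAut R) c := by
      show (α : MulAut R) ((τ : MulAut R) ((α : MulAut R)⁻¹ c)) = _
      have h3 : (α : MulAut R)⁻¹ c = c := by
        conv_lhs => rw [← hαC c hc0]
        exact MulAut.inv_apply_self _ _ _
      rw [h3]
      exact hαC _ (hCinv τ c hc0)
    have hn1 : (n : ZMod p) = lam * lam := ZMod.natCast_zmod_val _
    obtain ⟨n', hn'⟩ : ∃ n', n = n' + 1 := Nat.exists_eq_succ_of_ne_zero fun h => by
      rw [h, Nat.cast_zero, eq_comm, mul_self_eq_zero] at hn1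
      exact hl0 hn1
    have hfix : ((τ : MulAut R) ^ n') c = c := by
      rw [h2, Subgroup.coe_pow, hn', pow_succ', MulAut.mul_apply] at h1
      exact (τ : MulAut R).injective h1
    have hcop : n'.Coprime p := ((hp.out.coprime_iff_not_dvd).2 fun h => by
      rw [hn', Nat.cast_succ, (ZMod.natCast_eq_zero_iff n' p).2 h, zero_add] at hn1
      exact hl2 (by rw [sq]; exact hn1.symm)).symm
    obtain ⟨e, he⟩ := P.isPGroup_innerS hS ⟨τ, P.tau_mem hg⟩
    have he' : (τ : MulAut R) ^ p ^ e = 1 := congrArg Subtype.val (congrArg Subtype.val he)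
    obtain ⟨m, hm⟩ := exists_pow_eq_self_of_coprime (x := (τ : MulAut R))
      ((hcop.pow_right e).coprime_dvd_right (orderOf_dvd_of_pow_eq_one he'))
    have hfixm : ∀ m : ℕ, (((τ : MulAut R) ^ n') ^ m) c = c := by
      intro m
      induction m with
      | zero => rfl
      | succ m ih => rw [pow_succ, MulAut.mul_apply, hfix, ih]
    have h4 : (τ : MulAut R) c = c := by rw [← hm]; exact hfixm m
    have h5'' : g * c0 * g⁻¹ = c0 := by
      have := congrArg Subtype.val h4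
      rwa [P.tau_apply] at this
    exact mul_inv_eq_iff_eq_mul.1 h5''
  refine P.climb hS hF hrank hn hne hcent hK C hCR hCc
    (fun x hx hxC => hdet0 x hx (hCX x hxC a haX) (hCX x hxC b hbX)) hXe hform hz1C hz1p hz1ne hDz1 hnc hd hT α
    (l := lam.val) (m := lam⁻¹.val) (ρ := 1) ?_ ?_ ?_ ?_ ?_ ?_ (fun c hc => by rw [hαC c hc, pow_one]) hNC
  · rwa [ZMod.natCast_zmod_val]
  · rw [ZMod.natCast_zmod_val]; exact inv_ne_zero hl0
  · rw [ZMod.natCast_zmod_val]; exact fun h => hl1 (inv_eq_one.1 h)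
  · rw [ZMod.natCast_zmod_val, ZMod.natCast_zmod_val, Nat.cast_one, one_mul]
    intro h
    refine hl2 ?_
    rw [sq]
    nth_rw 2 [h]
    exact mul_inv_cancel₀ hl0
  · rw [ZMod.natCast_zmod_val, hαv]
  · rw [ZMod.natCast_zmod_val, hαw]

end Plane

end Cfsg.Agent.Lib.LocalP2.RankTwo
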