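import Cfsg.Agent.Lib.LocalP2.RankTwoHeis

/-!
Rank two, `p ≥ 5`: a self-centralizing elementary subgroup of order `p^2` with a diagonal automorphism of
determinant one forces `|S| = p^3`.
-/

set_option autoImplicit false

namespace Cfsg.Agent.Lib.LocalP2.RankTwo

open Cfsg Cfsg.FusionSystem Cfsg.Agent.Lib.Fusion
open scoped commutatorElement

universe u

variable {p : ℕ} [hp : Fact p.Prime] {Ω : Type u} [Group Ω] {S : Subgroup Ω} [Finite S] {F : FusionSystem S}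

theorem false_of_pearl (h5 : 5 ≤ p) (hS : IsPGroup p S) (hF : F.IsSaturated p)
    (hrank : ∀ E : Subgroup Ω, E ≤ S → Cfsg.IsElementaryAbelian p E → Nat.card E ≤ p ^ 2)
    {N : Subgroup Ω} (hn : F.IsFullyNormalized N) (hNS : N ≠ S) {a b y : Ω}
    (haN : a ∈ N) (hbN : b ∈ N) (hyN : y ∈ N) (hcard : Nat.card N = p ^ 3) (hexp : ∀ g ∈ N, g ^ p = 1)
    (hgen : ∀ H : Subgroup Ω, a ∈ H → b ∈ H → y ∈ H → N ≤ H)
    (ha1 : a ≠ 1) (hac : ∀ g ∈ N, Commute g a) (hb : b ∉ Subgroup.zpowers a)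
    (hy : y ∉ Subgroup.zpowers a ⊔ Subgroup.zpowers b) {s : ℕ} (hs0 : (s : ZMod p) ≠ 0)
    (hyb : y * b * y⁻¹ = a ^ s * b)
    (hNE : normalizerIn S (Subgroup.zpowers a ⊔ Subgroup.zpowers b) ≤ N)
    (hcE : centralizerIn S (Subgroup.zpowers a ⊔ Subgroup.zpowers b) ≤ Subgroup.zpowers a ⊔ Subgroup.zpowers b)
    (χ : MulAut N) (hχ : χ ∈ F.autGroup N) {l m n : ℕ} (hlm : (l : ZMod p) * m = 1) (hm1 : (m : ZMod p) ≠ 1)
    (hn0 : (n : ZMod p) ≠ 0) (hn1 : (n : ZMod p) ≠ 1)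
    (hχa : ((χ ⟨a, haN⟩ : N) : Ω) = a ^ l) (hχb : ((χ ⟨b, hbN⟩ : N) : Ω) = b ^ m)
    (hχy : ∃ e ∈ Subgroup.zpowers a ⊔ Subgroup.zpowers b, ((χ ⟨y, hyN⟩ : N) : Ω) = y ^ n * e) : False := by
  classical
  set E := Subgroup.zpowers a ⊔ Subgroup.zpowers b
  set D := Subgroup.zpowers a
  have hNS' : N ≤ S := hn.1
  have hNf := finite_of_le hNS'
  have := finite_mulAut hNS'
  have hap := hexp a haN
  have hDN : D ≤ N := Subgroup.zpowers_le.2 haN
  have hEN : E ≤ N := sup_le hDN (Subgroup.zpowers_le.2 hbN)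
  have hDc : ∀ g ∈ N, ∀ d ∈ D, Commute g d := fun g hg d hd => by
    obtain ⟨i, rfl⟩ := Subgroup.mem_zpowers_iff.1 hd
    exact (hac g hg).zpow_right i
  have hDcard : Nat.card D = p := by rw [Nat.card_zpowers, orderOf_eq_prime hap ha1]
  obtain ⟨k, hkmul, hksurj, hkD⟩ := exists_coord (p := p) hDN
    (fun g hg d hd => by rw [(hDc g hg d hd).eq, mul_inv_cancel_right]; exact hd)
    (fun g hg => by rw [hexp g hg]; exact one_mem _) (by rw [hcard, hDcard]; ring)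
  have hk1 : k 1 = 0 := (hkD 1 N.one_mem).2 D.one_mem
  have hkinv' : ∀ x ∈ N, k x⁻¹ = - k x := fun x hx => by
    have h := hkmul _ (N.inv_mem hx) _ hx
    rw [inv_mul_cancel, hk1] at h
    exact eq_neg_of_add_eq_zero_left h.symm
  have hkpow : ∀ x ∈ N, ∀ i : ℕ, k (x ^ i) = i • k x := fun x hx i => by
    induction i with
    | zero => rw [pow_zero, hk1, zero_smul]
    | succ i ih => rw [pow_succ, hkmul _ (N.pow_mem hx i) _ hx, ih, succ_nsmul]
  have hkconj : ∀ g ∈ N, ∀ x ∈ N, k (g * x * g⁻¹) = k x := fun g hg x hx => by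
    rw [hkmul _ (N.mul_mem hg hx) _ (N.inv_mem hg), hkmul g hg x hx, hkinv' g hg]; abel
  have hcomm_s : ⁅y, b⁆ = a ^ s := by rw [commutatorElement_def, hyb, mul_inv_cancel_right]
  -- automorphisms preserve `⟨a⟩`
  have hkeyinv : ∀ α ∈ F.autGroup N, ∀ x : N, (x : Ω) ∈ D → k ((α x : N) : Ω) = 0 := by
    intro α _ x hx
    set A := ((α ⟨a, haN⟩ : N) : Ω)
    have hA : k A = 0 := by
      have h1 : A ^ s = ⁅((α ⟨y, hyN⟩ : N) : Ω), ((α ⟨b, hbN⟩ : N) : Ω)⁆ := by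
        have h2 : (⟨a, haN⟩ : N) ^ s = ⁅(⟨y, hyN⟩ : N), ⟨b, hbN⟩⁆ := Subtype.ext hcomm_s.symm
        have h3 := congrArg (fun t => ((α t : N) : Ω)) h2
        simp only [map_pow, map_commutatorElement] at h3
        exact h3
      have h4 : k (A ^ s) = 0 := by
        rw [h1, commutatorElement_def]
        set U := ((α ⟨y, hyN⟩ : N) : Ω)
        set V := ((α ⟨b, hbN⟩ : N) : Ω)
        have hU : U ∈ N := (α ⟨y, hyN⟩).2
        have hV : V ∈ N := (α ⟨b, hbN⟩).2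
        rw [hkmul _ (N.mul_mem (N.mul_mem hU hV) (N.inv_mem hU)) _ (N.inv_mem hV), hkconj U hU V hV,
          hkinv' V hV, add_neg_cancel]
      rw [hkpow A (α _).2, ← Nat.cast_smul_eq_nsmul (ZMod p), smul_eq_zero] at h4
      exact h4.resolve_left hs0
    obtain ⟨i, hi⟩ := exists_nat_pow hap ha1 hx
    rw [show x = (⟨a, haN⟩ : N) ^ i from Subtype.ext hi.symm, map_pow, SubmonoidClass.coe_pow,
      hkpow _ (α _).2, hA, smul_zero]
  -- the kernel consists of inner automorphisms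
  have hkerinner : ∀ α ∈ F.autGroup N, (∀ x : N, k ((α x : N) : Ω) = k x) → α ∈ Inn N := by
    intro α _ hα
    have hdiff : ∀ (x : Ω) (hx : x ∈ N), ∃ i : ℕ, ((α ⟨x, hx⟩ : N) : Ω) = a ^ i * x := fun x hx => by
      have h1 := N.mul_mem (α ⟨x, hx⟩).2 (N.inv_mem hx)
      obtain ⟨i, hi⟩ := exists_nat_pow hap ha1 ((hkD _ h1).1 (by
        rw [hkmul _ (α ⟨x, hx⟩).2 _ (N.inv_mem hx), hα ⟨x, hx⟩, hkinv' x hx, add_neg_cancel]))
      exact ⟨i, by rw [hi, inv_mul_cancel_right]⟩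
    obtain ⟨i, hi⟩ := hdiff b hbN
    obtain ⟨j, hj⟩ := hdiff y hyN
    set r := ((i : ZMod p) / s).val
    set q := (-(j : ZMod p) / s).val
    have e1 : y ^ r * b * (y ^ r)⁻¹ = a ^ i * b := by
      have h1 : ⁅y ^ r, b⁆ = (a ^ s) ^ r := by
        rw [Thompson.commutator_pow_left (by rw [hcomm_s]; exact ((hac y hyN).pow_right s).symm) r, hcomm_s]
      rw [← pow_mul] at h1
      have h2 : a ^ (s * r) = a ^ i := pow_eq_of_natCast_eq hap (by
        rw [Nat.cast_mul, ZMod.natCast_zmod_val, mul_div_cancel₀ _ hs0])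
      rw [← h2, ← h1, commutatorElement_def]; group
    have e2 : b ^ q * y * (b ^ q)⁻¹ = a ^ j * y := by
      have hby : ⁅b, y⁆ = (a ^ s)⁻¹ := by rw [← hcomm_s, commutatorElement_inv]
      have h1 : ⁅b ^ q, y⁆ = (a ^ (s * q))⁻¹ := by
        rw [Thompson.commutator_pow_left (by rw [hby]; exact (((hac b hbN).pow_right s).inv_right).symm) q, hby,
          inv_pow, ← pow_mul]
      have h2 : (a ^ (s * q))⁻¹ = a ^ j := by
        rw [inv_eq_iff_mul_eq_one, ← pow_add, ← pow_zero a]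
        exact pow_eq_of_natCast_eq hap (by
          rw [Nat.cast_add, Nat.cast_mul, ZMod.natCast_zmod_val, mul_div_cancel₀ _ hs0, neg_add_cancel,
            Nat.cast_zero])
      rw [← h2, ← h1, commutatorElement_def]; group
    set g : N := ⟨b ^ q * y ^ r, N.mul_mem (N.pow_mem hbN q) (N.pow_mem hyN r)⟩
    have hga : ∀ x : N, ((MulAut.conj g x : N) : Ω) = b ^ q * y ^ r * x * (b ^ q * y ^ r)⁻¹ := fun x => rfl
    have eb : α ⟨b, hbN⟩ = MulAut.conj g ⟨b, hbN⟩ := Subtype.ext (by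
      rw [hi, hga]
      calc a ^ i * b = b ^ q * (a ^ i * b) * (b ^ q)⁻¹ := by
            rw [← mul_assoc, ((hac _ (N.pow_mem hbN q)).pow_right i).eq, mul_assoc (a ^ i),
              ((Commute.refl b).pow_left q).eq]
            group
        _ = _ := by rw [← e1]; group)
    have ey : α ⟨y, hyN⟩ = MulAut.conj g ⟨y, hyN⟩ := Subtype.ext (by
      rw [hj, hga, ← e2]
      calc b ^ q * y * (b ^ q)⁻¹ = b ^ q * (y ^ r * y * (y ^ r)⁻¹) * (b ^ q)⁻¹ := by
            rw [((Commute.refl y).pow_left r).eq, mul_inv_cancel_right]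
        _ = _ := by group)
    have ea : α ⟨a, haN⟩ = MulAut.conj g ⟨a, haN⟩ := by
      have h2 : (⟨a, haN⟩ : N) ^ s = ⁅(⟨y, hyN⟩ : N), ⟨b, hbN⟩⁆ := Subtype.ext hcomm_s.symm
      have h3 : (α ⟨a, haN⟩) ^ s = (MulAut.conj g ⟨a, haN⟩) ^ s := by
        rw [← map_pow, ← map_pow, h2, map_commutatorElement, map_commutatorElement, eb, ey]
      have hps : ∀ t : N, (t ^ s) ^ ((s : ZMod p)⁻¹).val = t := fun t => Subtype.ext (by
        rw [SubmonoidClass.coe_pow, SubmonoidClass.coe_pow, ← pow_mul]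
        conv_rhs => rw [← pow_one (t : Ω)]
        exact pow_eq_of_natCast_eq (hexp _ t.2) (by
          rw [Nat.cast_mul, ZMod.natCast_zmod_val, Nat.cast_one, mul_inv_cancel₀ hs0]))
      rw [← hps (α ⟨a, haN⟩), h3, hps]
    have hle : N ≤ (MonoidHom.eqLocus α.toMonoidHom (MulAut.conj g).toMonoidHom).map N.subtype :=
      hgen _ ⟨⟨a, haN⟩, ea, rfl⟩ ⟨⟨b, hbN⟩, eb, rfl⟩ ⟨⟨y, hyN⟩, ey, rfl⟩
    refine ⟨g, MulEquiv.ext fun x => ?_⟩
    obtain ⟨x', hx', hxe⟩ := hle x.2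
    obtain rfl : x' = x := Subtype.ext hxe
    exact hx'.symm
  let P : Plane F p N :=
    { X := N
      hRS := hNS'
      hX := le_rfl
      hXinv := fun α _ x _ => (α x).2
      k := k
      kmul := hkmul
      ksurj := hksurj
      kinv := fun α hα x _ h0 => hkeyinv α hα x ((hkD x x.2).1 h0)
      hker := fun α hα h => by
        obtain ⟨r, hr⟩ := hkerinner α hα fun x => h x x.2
        obtain ⟨j, hj⟩ := (hS.to_le hNS') r
        exact ⟨j, by rw [← hr, ← map_pow, hj, map_one]⟩ }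
  have hK : P.KerInner := fun α h => hkerinner α α.2 fun x => (P.M_k α (x := x) x.2).trans (h _)
  have hcentN : centralizerIn S N ≤ N := fun g hg => hEN (hcE (mem_centralizerIn.2
    ⟨hg.1, fun x hx => (mem_centralizerIn.1 hg).2 x (hEN hx)⟩))
  have hnc : ¬ ∀ x ∈ P.X, ∀ z ∈ P.X, Commute x z := fun h => by
    have h1 : a ^ s = 1 := by
      rw [← hcomm_s, commutatorElement_eq_one_iff_mul_comm]; exact (h y hyN b hbN).eq
    rw [← pow_zero a, pow_eq_pow_iff_modEq, orderOf_eq_prime hap ha1,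
      ← ZMod.natCast_eq_natCast_iff, Nat.cast_zero] at h1
    exact hs0 h1
  have hDz : ∀ x ∈ P.X, P.k x = 0 → x ∈ D := fun x hx h => (hkD x hx).1 h
  by_cases hnl : P.NoLine
  · exact P.false_of_heis h5 hS hF hrank hn hNS hcentN hK (fun g hg x hx => hkconj g hg x hx) hexp haN ha1 hDz
      (fun x hx => hac x hx) hnc hnl
  simp only [Plane.NoLine, not_forall, not_exists, not_not] at hnl
  obtain ⟨v0, hv0, hline⟩ := hnl
  obtain ⟨vv, hvv, hTv, -⟩ := P.exists_centre hS hNS hcentN hK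
  have hT : ∀ t ∈ P.innerS, P.Unip v0 t := fun t ht => by
    refine P.unip_of_stab hv0 ?_ (hline t)
    obtain ⟨j, hj⟩ := P.isPGroup_innerS hS ⟨t, ht⟩
    exact ⟨j, congrArg Subtype.val hj⟩
  set kb := P.k b
  set ky := P.k y
  have hkE : ∀ e ∈ E, det kb (P.k e) = 0 := by
    intro e he
    let H : Subgroup Ω :=
      { carrier := {x | x ∈ N ∧ det kb (k x) = 0}
        one_mem' := ⟨N.one_mem, by rw [hk1]; simp [det]⟩
        mul_mem' := fun {x z} hx hz => ⟨N.mul_mem hx.1 hz.1, by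
          rw [hkmul x hx.1 z hz.1, det_add, hx.2, hz.2, add_zero]⟩
        inv_mem' := fun {x} hx => ⟨N.inv_mem hx.1, by
          rw [hkinv' x hx.1, ← neg_one_smul (ZMod p) (k x), det_smul, hx.2, mul_zero]⟩ }
    have : E ≤ H := sup_le (Subgroup.zpowers_le.2 ⟨haN, by
      rw [(hkD a haN).2 (Subgroup.mem_zpowers a)]; simp [det]⟩) (Subgroup.zpowers_le.2 ⟨hbN, det_self _⟩)
    exact (this he).2
  have hEof : ∀ x ∈ N, det kb (P.k x) = 0 → x ∈ E := by
    intro x hx h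
    obtain ⟨c, hc⟩ := exists_smul_of_det (fun h0 => hb ((hkD b hbN).1 h0)) h
    have h1 : (b ^ c.val)⁻¹ * x ∈ D := hDz _ (N.mul_mem (N.inv_mem (N.pow_mem hbN _)) hx)
      ((P.k_eq_iff hx (N.pow_mem hbN _)).1 (by rw [P.k_pow hbN, nat_smul_val, hc]))
    have := E.mul_mem (E.pow_mem (Subgroup.mem_sup_right (Subgroup.mem_zpowers b)) c.val)
      (Subgroup.mem_sup_left h1)
    simpa using this
  have hdby : det kb ky ≠ 0 := fun h => hy (hEof y hyN h)
  have hd0 : det kb v0 ≠ 0 := by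
    intro h
    obtain ⟨c, hc⟩ := exists_smul_of_det (fun h0 => hb ((hkD b hbN).1 h0)) h
    have hc0 : c ≠ 0 := fun h0 => hv0 (by rw [hc, h0, zero_smul])
    obtain ⟨g, hg, hgN⟩ := exists_normalizerIn_not_mem hS (lt_of_le_of_ne hNS' hNS)
    refine hgN (hNE ⟨hg.1, ?_⟩)
    have hEf := finite_of_le (hEN.trans hNS')
    have hMb : P.M (P.tau g hg) kb = kb := by
      have h1 := (hT _ (P.tau_mem hg)).1
      rw [hc, P.M_smul] at h1
      exact smul_right_injective _ hc0 h1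
    have hgN' : ∀ x ∈ N, g * x * g⁻¹ ∈ N := fun x hx => conj_mem_of_mem_normalizer hg.2 hx
    refine mem_normalizer_of_conj_mem fun x hx => ?_
    refine hEof _ (hgN' x (hEN hx)) ?_
    rw [P.M_tau g hg (hEN hx)]
    obtain ⟨c', hc'⟩ := exists_smul_of_det (fun h0 => hb ((hkD b hbN).1 h0)) (hkE x hx)
    rw [hc', P.M_smul, hMb, det_smul, det_self, mul_zero]
  set χ' : F.autGroup N := ⟨χ, hχ⟩
  have hMb : P.M χ' kb = (m : ZMod p) • kb := by
    rw [← P.M_k χ' (x := ⟨b, hbN⟩) hbN]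
    show P.k ((χ ⟨b, hbN⟩ : N) : Ω) = _
    rw [hχb, P.k_pow hbN, ← Nat.cast_smul_eq_nsmul (ZMod p)]
  obtain ⟨e, he, hye⟩ := hχy
  have hMy : P.M χ' ky = (n : ZMod p) • ky + P.k e := by
    rw [← P.M_k χ' (x := ⟨y, hyN⟩) hyN]
    show P.k ((χ ⟨y, hyN⟩ : N) : Ω) = _
    rw [hye, P.kmul _ (N.pow_mem hyN n) e (hEN he), P.k_pow hyN, ← Nat.cast_smul_eq_nsmul (ZMod p)]
  obtain ⟨c, hc⟩ := exists_smul_of_det hv0 (hline χ')
  have hcn : c = n := by
    have h1 : det kb (P.M χ' v0) = (n : ZMod p) * det kb v0 := by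
      conv_lhs => rw [decomp hdby v0]
      rw [map_add, P.M_smul, P.M_smul, hMb, hMy, det_add, det_smul, det_smul, det_smul, det_self, det_add,
        det_smul, hkE e he]
      field_simp
      ring
    rw [hc, det_smul] at h1
    exact mul_right_cancel₀ hd0 h1
  rw [hcn] at hc
  have hd : det v0 kb ≠ 0 := by rw [Plane.det_flip]; exact neg_ne_zero.2 hd0
  have hm0 : (m : ZMod p) ≠ 0 := fun h => by rw [h, mul_zero] at hlm; exact zero_ne_one hlm
  refine P.climb hS hF hrank hn hNS hcentN hK D hDN (fun r hr d hd => hDc r hr d hd)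
    (fun x hx hxD => (hkD x hx).2 hxD) hexp (fun r hr => ⟨r, hr, 1, D.one_mem, (mul_one r).symm⟩)
    (Subgroup.mem_zpowers a) hap ha1 hDz hnc hd hT χ' (l := n) (m := m) (ρ := l) hn0 hm0 hm1
    (by rw [hlm]; exact hn1) hc hMb ?_ ?_
  · intro x hx
    obtain ⟨i, hi⟩ := exists_nat_pow hap ha1 hx
    show ((χ x : N) : Ω) = _
    rw [show x = (⟨a, haN⟩ : N) ^ i from Subtype.ext hi.symm, map_pow, SubmonoidClass.coe_pow, hχa,
      SubmonoidClass.coe_pow, ← pow_mul, ← pow_mul, mul_comm]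
  · intro g hg d hd'
    obtain ⟨i, rfl⟩ := exists_nat_pow hap ha1 hd'
    refine Commute.pow_right ?_ i
    -- `g` induces on `⟨a⟩` an automorphism of `p`-power order
    have hga : g * a * g⁻¹ ∈ D := by
      refine hDz _ (conj_mem_of_mem_normalizer hg.2 haN) ?_
      rw [P.M_tau g hg haN, show P.k a = 0 from (hkD a haN).2 (Subgroup.mem_zpowers a), map_zero]
    obtain ⟨q, hq⟩ := exists_nat_pow hap ha1 hga
    have hit : ∀ j : ℕ, g ^ j * a * (g ^ j)⁻¹ = a ^ q ^ j := by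
      intro j
      induction j with
      | zero => simp
      | succ j ih =>
        rw [pow_succ', show g * g ^ j * a * (g * g ^ j)⁻¹ = g * (g ^ j * a * (g ^ j)⁻¹) * g⁻¹ by group, ih,
          ← conj_pow, ← hq, ← pow_mul, ← pow_succ']
    obtain ⟨e, he⟩ := hS ⟨g, hg.1⟩
    have he' : g ^ p ^ e = 1 := congrArg Subtype.val he
    have h1 := hit (p ^ e)
    rw [he', one_mul, inv_one, mul_one] at h1
    have hq1 : (q : ZMod p) = 1 := by
      rw [← pow_one a, ← pow_mul, pow_eq_pow_iff_modEq, orderOf_eq_prime hap ha1, one_mul,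
        ← ZMod.natCast_eq_natCast_iff, Nat.cast_pow, ZMod.pow_card_pow, Nat.cast_one] at h1
      exact h1.symm
    refine mul_inv_eq_iff_eq_mul.1 (hq.symm.trans ?_)
    conv_rhs => rw [← pow_one a]
    exact pow_eq_of_natCast_eq hap (by rw [hq1, Nat.cast_one])

end Cfsg.Agent.Lib.LocalP2.RankTwo
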