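import Cfsg.Agent.Lib.LocalP2.RankTwoGroup
import Cfsg.Agent.Lib.Fusion.Normal
import Cfsg.Agent.Lib.Fusion.Criteria

/-!
An automizer acting on a section with two coordinates over `ZMod p`: transvections, invariant lines and
diagonal automorphisms.
-/

set_option autoImplicit false

namespace Cfsg.Agent.Lib.LocalP2.RankTwo

open Cfsg Cfsg.FusionSystem Cfsg.Agent.Lib.Fusion

universe u

variable {p : ℕ} [hp : Fact p.Prime]

/-- The determinant of two vectors. -/
def det (v w : ZMod p × ZMod p) : ZMod p := v.1 * w.2 - v.2 * w.1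

theorem det_self (v : ZMod p × ZMod p) : det v v = 0 := by simp only [det]; ring

theorem det_add (v x y : ZMod p × ZMod p) : det v (x + y) = det v x + det v y := by
  simp only [det, Prod.fst_add, Prod.snd_add]; ring

theorem det_smul (v x : ZMod p × ZMod p) (c : ZMod p) : det v (c • x) = c * det v x := by
  simp only [det, Prod.smul_fst, Prod.smul_snd, smul_eq_mul]; ring

theorem exists_smul_of_det {v x : ZMod p × ZMod p} (hv : v ≠ 0) (h : det v x = 0) :
    ∃ c : ZMod p, x = c • v := by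
  simp only [det, sub_eq_zero] at h
  by_cases h1 : v.1 = 0
  · have h2 : v.2 ≠ 0 := fun h2 => hv (Prod.ext h1 h2)
    refine ⟨x.2 / v.2, Prod.ext ?_ ?_⟩
    · rw [h1, zero_mul, eq_comm, mul_eq_zero] at h
      simp [h1, h.resolve_left h2]
    · simp [h2]
  · refine ⟨x.1 / v.1, Prod.ext ?_ ?_⟩
    · simp [h1]
    · show x.2 = x.1 / v.1 * v.2
      field_simp
      linear_combination h

theorem decomp {v w : ZMod p × ZMod p} (h : det v w ≠ 0) (x : ZMod p × ZMod p) :
    x = (det x w / det v w) • v + (det v x / det v w) • w := by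
  refine Prod.ext ?_ ?_
  · show x.1 = det x w / det v w * v.1 + det v x / det v w * w.1
    field_simp
    simp only [det]; ring
  · show x.2 = det x w / det v w * v.2 + det v x / det v w * w.2
    field_simp
    simp only [det]; ring

theorem exists_det_ne {v : ZMod p × ZMod p} (hv : v ≠ 0) : ∃ w, det v w ≠ 0 := by
  by_cases h1 : v.1 = 0
  · exact ⟨(1, 0), by simpa [det, h1] using fun h2 => hv (Prod.ext h1 h2)⟩
  · exact ⟨(0, 1), by simpa [det] using h1⟩

theorem nat_smul_val [NeZero p] (c : ZMod p) (x : ZMod p × ZMod p) : c.val • x = c • x := by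
  rw [← Nat.cast_smul_eq_nsmul (ZMod p), ZMod.natCast_zmod_val]

theorem exists_generic (h5 : 5 ≤ p) : ∃ l : ZMod p, l ≠ 0 ∧ l ≠ 1 ∧ l ^ 2 ≠ 1 := by
  refine ⟨((2 : ℕ) : ZMod p), ?_, ?_, ?_⟩
  · rw [Ne, ZMod.natCast_eq_zero_iff]
    exact fun h => absurd (Nat.le_of_dvd two_pos h) (by omega)
  · intro h
    have h1 : ((1 : ℕ) : ZMod p) = 0 := by
      calc ((1 : ℕ) : ZMod p) = ((2 : ℕ) : ZMod p) - 1 := by push_cast; ring
        _ = 0 := by rw [h, sub_self]
    rw [ZMod.natCast_eq_zero_iff] at h1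
    exact hp.out.not_dvd_one h1
  · intro h
    have h1 : ((3 : ℕ) : ZMod p) = 0 := by
      calc ((3 : ℕ) : ZMod p) = ((2 : ℕ) : ZMod p) ^ 2 - 1 := by push_cast; ring
        _ = 0 := by rw [h, sub_self]
    rw [ZMod.natCast_eq_zero_iff] at h1
    exact absurd (Nat.le_of_dvd three_pos h1) (by omega)

variable {Ω : Type u} [Group Ω] {S : Subgroup Ω}

/-- Coordinates on a section `X/ker k` of `R` invariant under the automizer. -/
structure Plane (F : FusionSystem S) (p : ℕ) (R : Subgroup Ω) where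
  X : Subgroup Ω
  hRS : R ≤ S
  hX : X ≤ R
  hXinv : ∀ α ∈ F.autGroup R, ∀ x : R, (x : Ω) ∈ X → ((α x : R) : Ω) ∈ X
  k : Ω → ZMod p × ZMod p
  kmul : ∀ x ∈ X, ∀ y ∈ X, k (x * y) = k x + k y
  ksurj : ∀ v, ∃ x ∈ X, k x = v
  kinv : ∀ α ∈ F.autGroup R, ∀ x : R, (x : Ω) ∈ X → k x = 0 → k ((α x : R) : Ω) = 0
  hker : ∀ α ∈ F.autGroup R, (∀ x : R, (x : Ω) ∈ X → k ((α x : R) : Ω) = k x) → ∃ j, α ^ p ^ j = 1

variable {F : FusionSystem S} {R : Subgroup Ω} (P : Plane F p R)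

namespace Plane

theorem k_one : P.k 1 = 0 := by
  have h := P.kmul 1 P.X.one_mem 1 P.X.one_mem
  rw [one_mul] at h
  simpa using h

theorem k_inv {x : Ω} (hx : x ∈ P.X) : P.k x⁻¹ = - P.k x := by
  have h := P.kmul _ (P.X.inv_mem hx) _ hx
  rw [inv_mul_cancel, P.k_one] at h
  exact eq_neg_of_add_eq_zero_left h.symm

theorem k_pow {x : Ω} (hx : x ∈ P.X) (n : ℕ) : P.k (x ^ n) = n • P.k x := by
  induction n with
  | zero => rw [pow_zero, zero_smul, P.k_one]
  | succ n ih => rw [pow_succ, P.kmul _ (P.X.pow_mem hx n) _ hx, ih, succ_nsmul]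

theorem k_eq_iff {x y : Ω} (hx : x ∈ P.X) (hy : y ∈ P.X) : P.k x = P.k y ↔ P.k (y⁻¹ * x) = 0 := by
  rw [P.kmul _ (P.X.inv_mem hy) _ hx, P.k_inv hy, neg_add_eq_zero, eq_comm]

/-- A representative of a vector. -/
noncomputable def sec (v : ZMod p × ZMod p) : R :=
  ⟨(P.ksurj v).choose, P.hX (P.ksurj v).choose_spec.1⟩

theorem sec_mem (v : ZMod p × ZMod p) : (P.sec v : Ω) ∈ P.X := (P.ksurj v).choose_spec.1

theorem k_sec (v : ZMod p × ZMod p) : P.k (P.sec v : Ω) = v := (P.ksurj v).choose_spec.2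

theorem k_congr (α : F.autGroup R) {x y : R} (hx : (x : Ω) ∈ P.X) (hy : (y : Ω) ∈ P.X) (h : P.k x = P.k y) :
    P.k (((α : MulAut R) x : R) : Ω) = P.k (((α : MulAut R) y : R) : Ω) := by
  rw [P.k_eq_iff hx hy] at h
  have h1 := P.kinv α α.2 (y⁻¹ * x) (P.X.mul_mem (P.X.inv_mem hy) hx) h
  rw [map_mul, map_inv] at h1
  rw [P.k_eq_iff (P.hXinv α α.2 x hx) (P.hXinv α α.2 y hy)]
  exact h1

/-- The action of the automizer on the coordinates. -/
noncomputable def M (α : F.autGroup R) : ZMod p × ZMod p →+ ZMod p × ZMod p :=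
  AddMonoidHom.mk' (fun v => P.k (((α : MulAut R) (P.sec v) : R) : Ω)) fun v w => by
    rw [P.k_congr α (x := P.sec (v + w)) (y := P.sec v * P.sec w) (P.sec_mem _)
      (P.X.mul_mem (P.sec_mem v) (P.sec_mem w))
      (by rw [Subgroup.coe_mul, P.k_sec, P.kmul _ (P.sec_mem v) _ (P.sec_mem w), P.k_sec, P.k_sec]),
      map_mul, Subgroup.coe_mul, P.kmul _ (P.hXinv α α.2 _ (P.sec_mem v)) _ (P.hXinv α α.2 _ (P.sec_mem w))]

theorem M_k (α : F.autGroup R) {x : R} (hx : (x : Ω) ∈ P.X) :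
    P.k (((α : MulAut R) x : R) : Ω) = P.M α (P.k x) :=
  P.k_congr α hx (P.sec_mem _) (P.k_sec _).symm

theorem M_one (v : ZMod p × ZMod p) : P.M 1 v = v := P.k_sec v

theorem M_mul (α β : F.autGroup R) (v : ZMod p × ZMod p) : P.M (α * β) v = P.M α (P.M β v) :=
  P.M_k α (P.hXinv β β.2 _ (P.sec_mem v))

theorem M_inv_apply (α : F.autGroup R) (v : ZMod p × ZMod p) : P.M α (P.M α⁻¹ v) = v := by
  rw [← P.M_mul, mul_inv_cancel, P.M_one]

theorem M_smul (α : F.autGroup R) (c : ZMod p) (v : ZMod p × ZMod p) : P.M α (c • v) = c • P.M α v :=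
  ZMod.map_smul (P.M α) c v

theorem M_sub_eq (α : F.autGroup R) (v w : ZMod p × ZMod p) : P.M α (v - w) = P.M α v - P.M α w :=
  map_sub _ _ _

theorem M_pow_eigen (α : F.autGroup R) {v : ZMod p × ZMod p} {c : ZMod p} (h : P.M α v = c • v) (n : ℕ) :
    P.M (α ^ n) v = c ^ n • v := by
  induction n with
  | zero => rw [pow_zero, pow_zero, one_smul, P.M_one]
  | succ n ih => rw [pow_succ, P.M_mul, h, P.M_smul, ih, smul_smul, ← pow_succ']

/-- The kernel consists of elements of `p`-power order. -/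
theorem pow_eq_one_of_fix (α : F.autGroup R) (h : ∀ v, P.M α v = v) : ∃ j, α ^ p ^ j = 1 := by
  obtain ⟨j, hj⟩ := P.hker α α.2 fun x hx => (P.M_k α hx).trans (h _)
  exact ⟨j, Subtype.ext hj⟩

/-- Two independent fixed vectors give a trivial action. -/
theorem fix_of_two (α : F.autGroup R) {v w : ZMod p × ZMod p} (hd : det v w ≠ 0) (hv : P.M α v = v)
    (hw : P.M α w = w) (x : ZMod p × ZMod p) : P.M α x = x := by
  conv_lhs => rw [decomp hd x]
  conv_rhs => rw [decomp hd x]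
  rw [map_add, P.M_smul, P.M_smul, hv, hw]

/-- Transvections with centre `v`. -/
def Unip (v : ZMod p × ZMod p) (α : F.autGroup R) : Prop :=
  P.M α v = v ∧ ∀ w, ∃ c : ZMod p, P.M α w = w + c • v

/-- The group of transvections with centre `v`. -/
def unipGroup (v : ZMod p × ZMod p) : Subgroup (F.autGroup R) where
  carrier := {α | P.Unip v α}
  one_mem' := ⟨P.M_one v, fun w => ⟨0, by rw [P.M_one, zero_smul, add_zero]⟩⟩
  mul_mem' := by
    rintro α β ⟨ha, ha'⟩ ⟨hb, hb'⟩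
    refine ⟨by rw [P.M_mul, hb, ha], fun w => ?_⟩
    obtain ⟨c, hc⟩ := hb' w
    obtain ⟨d, hd⟩ := ha' w
    exact ⟨d + c, by rw [P.M_mul, hc, map_add, hd, P.M_smul, ha, add_smul, add_assoc]⟩
  inv_mem' := by
    rintro α ⟨ha, ha'⟩
    have h1 : P.M α⁻¹ v = v := by
      conv_lhs => rw [← ha, ← P.M_mul, inv_mul_cancel, P.M_one]
    refine ⟨h1, fun w => ?_⟩
    obtain ⟨c, hc⟩ := ha' w
    refine ⟨-c, ?_⟩
    have h2 := congrArg (P.M α⁻¹) hc
    rw [← P.M_mul, inv_mul_cancel, P.M_one, map_add, P.M_smul, h1] at h2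
    rw [neg_smul, ← sub_eq_add_neg, eq_sub_iff_add_eq]
    exact h2.symm

theorem unip_pow {v : ZMod p × ZMod p} {α : F.autGroup R} (h : P.Unip v α) {w : ZMod p × ZMod p} {c : ZMod p}
    (hw : P.M α w = w + c • v) (n : ℕ) : P.M (α ^ n) w = w + ((n : ZMod p) * c) • v := by
  induction n with
  | zero => rw [pow_zero, P.M_one, Nat.cast_zero, zero_mul, zero_smul, add_zero]
  | succ n ih =>
    rw [pow_succ', P.M_mul, ih, map_add, hw, P.M_smul, h.1, Nat.cast_succ, add_mul, one_mul, add_smul]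
    abel

theorem unip_pow_prime {v : ZMod p × ZMod p} {α : F.autGroup R} (h : P.Unip v α) (w : ZMod p × ZMod p) :
    P.M (α ^ p) w = w := by
  obtain ⟨c, hc⟩ := h.2 w
  rw [P.unip_pow h hc, ZMod.natCast_self, zero_mul, zero_smul, add_zero]

theorem isPGroup_unipGroup (v : ZMod p × ZMod p) : IsPGroup p (P.unipGroup v) := by
  rintro ⟨α, hα⟩
  obtain ⟨j, hj⟩ := P.pow_eq_one_of_fix (α ^ p) (P.unip_pow_prime hα)
  exact ⟨j + 1, Subtype.ext (by rw [SubgroupClass.coe_pow, pow_succ', pow_mul]; exact hj)⟩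

/-- An element of `p`-power order stabilizing a line is a transvection. -/
theorem unip_of_stab {v : ZMod p × ZMod p} (hv : v ≠ 0) {α : F.autGroup R} (hα : ∃ j, α ^ p ^ j = 1)
    (h : det v (P.M α v) = 0) : P.Unip v α := by
  obtain ⟨c, hc⟩ := exists_smul_of_det hv h
  obtain ⟨j, hj⟩ := hα
  have hc1 : c = 1 := by
    have h1 := P.M_pow_eigen α hc (p ^ j)
    rw [hj, P.M_one, ZMod.pow_card_pow] at h1
    exact (smul_left_injective (ZMod p) hv (by rw [← h1, one_smul] : (1 : ZMod p) • v = c • v)).symm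
  rw [hc1, one_smul] at hc
  obtain ⟨w0, hw0⟩ := exists_det_ne hv
  set d := det v (P.M α w0) / det v w0
  have hlin : ∀ x, det v (P.M α x) = d * det v x := fun x => by
    conv_lhs => rw [decomp hw0 x]
    rw [map_add, P.M_smul, P.M_smul, hc, det_add, det_smul, det_smul, det_self]
    simp only [d]
    field_simp
    ring
  have hit : ∀ (n : ℕ) x, det v (P.M (α ^ n) x) = d ^ n * det v x := by
    intro n
    induction n with
    | zero => intro x; rw [pow_zero, pow_zero, P.M_one, one_mul]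
    | succ n ih => intro x; rw [pow_succ', P.M_mul, hlin, ih, pow_succ', mul_assoc]
  have hd1 : d = 1 := by
    have h1 := hit (p ^ j) w0
    rw [hj, P.M_one, ZMod.pow_card_pow] at h1
    exact mul_right_cancel₀ hw0 ((h1.symm).trans (one_mul _).symm)
  refine ⟨hc, fun w => ?_⟩
  obtain ⟨e, he⟩ := exists_smul_of_det hv (x := P.M α w - w) (by
    have h1 := hlin w
    rw [hd1, one_mul] at h1
    rw [sub_eq_add_neg, det_add, h1, ← neg_one_smul (ZMod p) w, det_smul]
    ring)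
  exact ⟨e, by rw [← he, add_sub_cancel]⟩

/-- Conjugates of transvections by elements fixing the centre line. -/
theorem unip_conj {v : ZMod p × ZMod p} {α τ : F.autGroup R} (hv : v ≠ 0) (hα : det v (P.M α v) = 0)
    (hτ : P.Unip v τ) : P.Unip v (α * τ * α⁻¹) := by
  obtain ⟨c, hc⟩ := exists_smul_of_det hv hα
  have hc0 : c ≠ 0 := fun h0 => hv (by
    rw [h0, zero_smul] at hc
    have := congrArg (P.M α⁻¹) hc
    rwa [← P.M_mul, inv_mul_cancel, P.M_one, map_zero] at this)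
  have hinv : P.M α⁻¹ v = c⁻¹ • v := by
    have h1 := congrArg (P.M α⁻¹) hc
    rw [← P.M_mul, inv_mul_cancel, P.M_one, P.M_smul] at h1
    exact (eq_inv_smul_iff₀ hc0).2 h1.symm
  refine ⟨?_, fun w => ?_⟩
  · rw [P.M_mul, P.M_mul, hinv, P.M_smul, hτ.1, P.M_smul, hc, smul_smul, inv_mul_cancel₀ hc0, one_smul]
  · obtain ⟨e, he⟩ := hτ.2 (P.M α⁻¹ w)
    exact ⟨e * c, by rw [P.M_mul, P.M_mul, he, map_add, P.M_inv_apply, P.M_smul, hc, smul_smul]⟩

/-- A `p`-group of automorphisms fixes a nonzero vector. -/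
theorem exists_fixed [Finite S] (T : Subgroup (F.autGroup R)) (hT : IsPGroup p T) :
    ∃ v, v ≠ 0 ∧ ∀ t ∈ T, P.M t v = v := by
  letI : MulAction T (ZMod p × ZMod p) :=
    { smul := fun t v => P.M t v
      one_smul := P.M_one
      mul_smul := fun a b v => P.M_mul a b v }
  have hcard : p ∣ Nat.card (ZMod p × ZMod p) := by
    rw [Nat.card_prod, Nat.card_zmod]; exact dvd_mul_right p p
  obtain ⟨b, hb, hne⟩ := hT.exists_fixed_point_of_prime_dvd_card_of_fixed_point (ZMod p × ZMod p) hcard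
    (a := 0) (fun t => map_zero (P.M t))
  exact ⟨b, fun h => hne h.symm, fun t ht => hb ⟨t, ht⟩⟩

/-- No line is invariant under the automizer. -/
def NoLine : Prop := ∀ v : ZMod p × ZMod p, v ≠ 0 → ∃ γ : F.autGroup R, det v (P.M γ v) ≠ 0

/-- Without invariant lines every diagonal matrix of determinant one is realized. -/
theorem exists_diag (hnl : P.NoLine) {v : ZMod p × ZMod p} (hv : v ≠ 0) {u : F.autGroup R} (hu : P.Unip v u)
    (hu1 : ¬ ∀ x, P.M u x = x) : ∃ w, det v w ≠ 0 ∧ ∀ lam mu : ZMod p, lam * mu = 1 →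
      ∃ α : F.autGroup R, P.M α v = lam • v ∧ P.M α w = mu • w := by
  obtain ⟨γ, hγ⟩ := hnl v hv
  set w := P.M γ v with hw
  refine ⟨w, hγ, ?_⟩
  obtain ⟨s, hs⟩ := hu.2 w
  have hs0 : s ≠ 0 := fun h => hu1 (P.fix_of_two u hγ hu.1 (by rw [hs, h, zero_smul, add_zero]))
  set v0 := P.M γ⁻¹ v with hv0
  obtain ⟨t, ht⟩ := hu.2 v0
  set u' := γ * u * γ⁻¹
  have hu'w : P.M u' w = w := by
    show P.M (γ * u * γ⁻¹) (P.M γ v) = _
    rw [← P.M_mul, inv_mul_cancel_right, P.M_mul, hu.1]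
  have hu'v : P.M u' v = v + t • w := by
    rw [P.M_mul, P.M_mul, ← hv0, ht, map_add, hv0, P.M_inv_apply, P.M_smul]
  have ht0 : t ≠ 0 := by
    intro h
    rw [h, zero_smul, add_zero] at ht
    refine hu1 (P.fix_of_two u ?_ hu.1 ht)
    intro hd
    obtain ⟨e, he⟩ := exists_smul_of_det hv hd
    have h2 := congrArg (P.M γ) he
    rw [hv0, P.M_inv_apply, P.M_smul, ← hw] at h2
    refine hγ ?_
    by_cases he0 : e = 0
    · exact absurd (by rw [h2, he0, zero_smul]) hv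
    · have : w = e⁻¹ • v := by rw [h2, smul_smul, inv_mul_cancel₀ he0, one_smul]
      rw [this, det_smul, det_self, mul_zero]
  have hU : ∀ x : ZMod p, ∃ α : F.autGroup R, P.M α v = v ∧ P.M α w = w + x • v := fun x => by
    refine ⟨u ^ (x / s).val, ?_, ?_⟩
    · exact ((P.unipGroup v).pow_mem hu _).1
    · rw [P.unip_pow hu hs, ZMod.natCast_zmod_val, div_mul_cancel₀ _ hs0]
  have hit : ∀ (n : ℕ), P.M (u' ^ n) w = w ∧ P.M (u' ^ n) v = v + ((n : ZMod p) * t) • w := by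
    intro n
    induction n with
    | zero =>
      exact ⟨by rw [pow_zero, P.M_one], by rw [pow_zero, P.M_one, Nat.cast_zero, zero_mul, zero_smul, add_zero]⟩
    | succ n ih =>
      refine ⟨by rw [pow_succ', P.M_mul, ih.1, hu'w], ?_⟩
      rw [pow_succ', P.M_mul, ih.2, map_add, hu'v, P.M_smul, hu'w, Nat.cast_succ, add_mul, one_mul, add_smul]
      abel
  have hL : ∀ y : ZMod p, ∃ α : F.autGroup R, P.M α v = v + y • w ∧ P.M α w = w := fun y =>
    ⟨u' ^ (y / t).val, by rw [(hit _).2, ZMod.natCast_zmod_val, div_mul_cancel₀ _ ht0], (hit _).1⟩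
  intro lam mu hlm
  obtain ⟨l1, hl1v, hl1w⟩ := hL (mu - 1)
  obtain ⟨u1, hu1v, hu1w⟩ := hU 1
  obtain ⟨l2, hl2v, hl2w⟩ := hL (lam - 1)
  obtain ⟨u2, hu2v, hu2w⟩ := hU (-mu)
  refine ⟨l1 * u1 * l2 * u2, ?_, ?_⟩
  · simp only [P.M_mul, hu2v, hl2v, map_add, P.M_smul, hu1v, hu1w, hl1v, hl1w, smul_add, smul_smul,
      ← add_assoc]
    have : lam * (mu - 1) = 1 - lam := by linear_combination hlm
    refine Prod.ext ?_ ?_ <;>
      simp only [Prod.fst_add, Prod.snd_add, Prod.smul_fst, Prod.smul_snd, smul_eq_mul]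
    · linear_combination w.1 * hlm
    · linear_combination w.2 * hlm
  · simp only [hu2w, P.M_mul, hl2v, hl2w, map_add, P.M_smul, hu1v, hu1w, hl1v, hl1w, smul_add, smul_smul,
      ← add_assoc]
    refine Prod.ext ?_ ?_ <;>
      simp only [Prod.fst_add, Prod.snd_add, Prod.smul_fst, Prod.smul_snd, smul_eq_mul]
    · linear_combination (-(w.1 * (1 + (mu - 1)) + v.1)) * hlm
    · linear_combination (-(w.2 * (1 + (mu - 1)) + v.2)) * hlm

/-- Conjugation by an element normalizing `R`, in the automizer. -/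
def tau (g : Ω) (hg : g ∈ normalizerIn S R) : F.autGroup R :=
  ⟨conjAut R hg.2, autInducedBy_le_autGroup P.hRS (conjAut_mem_autInducedBy hg.1 hg.2)⟩

theorem tau_apply (g : Ω) (hg : g ∈ normalizerIn S R) (x : R) :
    (((P.tau g hg : MulAut R) x : R) : Ω) = g * x * g⁻¹ := conjAut_apply R hg.2 x

theorem M_tau (g : Ω) (hg : g ∈ normalizerIn S R) {x : Ω} (hx : x ∈ P.X) :
    P.k (g * x * g⁻¹) = P.M (P.tau g hg) (P.k x) := by
  rw [← P.M_k (P.tau g hg) (x := ⟨x, P.hX hx⟩) hx, P.tau_apply]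

theorem tau_mul {g h : Ω} (hg : g ∈ normalizerIn S R) (hh : h ∈ normalizerIn S R) :
    P.tau (g * h) (mul_mem hg hh) = P.tau g hg * P.tau h hh :=
  Subtype.ext (MulEquiv.ext fun x => Subtype.ext (by
    show _ = (((P.tau g hg : MulAut R) ((P.tau h hh : MulAut R) x) : R) : Ω)
    rw [P.tau_apply, P.tau_apply, P.tau_apply]; group))

theorem tau_inv {g : Ω} (hg : g ∈ normalizerIn S R) : P.tau g⁻¹ (inv_mem hg) = (P.tau g hg)⁻¹ := by
  refine eq_inv_of_mul_eq_one_left (Subtype.ext (MulEquiv.ext fun x => Subtype.ext ?_))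
  show (((P.tau g⁻¹ (inv_mem hg) : MulAut R) ((P.tau g hg : MulAut R) x) : R) : Ω) = (x : Ω)
  rw [P.tau_apply, P.tau_apply]; group

theorem tau_pow {g : Ω} (hg : g ∈ normalizerIn S R) (n : ℕ) :
    P.tau (g ^ n) (pow_mem hg n) = P.tau g hg ^ n := by
  induction n with
  | zero => exact Subtype.ext (MulEquiv.ext fun x => Subtype.ext (by
      rw [P.tau_apply, pow_zero, one_mul, inv_one, mul_one]; rfl))
  | succ n ih =>
    rw [pow_succ (P.tau g hg), ← ih, ← P.tau_mul (pow_mem hg n) hg]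
    simp only [pow_succ g n]

/-- The automizer induced by `S`, inside the automizer. -/
def innerS (_P : Plane F p R) : Subgroup (F.autGroup R) := (autInducedBy S R).subgroupOf (F.autGroup R)

theorem tau_mem {g : Ω} (hg : g ∈ normalizerIn S R) : P.tau g hg ∈ P.innerS :=
  conjAut_mem_autInducedBy hg.1 hg.2

theorem exists_tau_of_mem {α : F.autGroup R} (h : α ∈ P.innerS) :
    ∃ g, ∃ hg : g ∈ normalizerIn S R, α = P.tau g hg := by
  obtain ⟨g, hg, he⟩ := exists_of_mem_autInducedBy (Subgroup.mem_subgroupOf.1 h)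
  exact ⟨g, hg, Subtype.ext (MulEquiv.ext fun x => Subtype.ext (by rw [he, P.tau_apply]))⟩

/-- The kernel on coordinates is inner. -/
def KerInner : Prop :=
  ∀ α : F.autGroup R, (∀ v, P.M α v = v) → (α : MulAut R) ∈ Inn R

theorem mem_of_fix (hK : P.KerInner) (hc : centralizerIn S R ≤ R) {g : Ω} (hg : g ∈ normalizerIn S R)
    (h : ∀ v, P.M (P.tau g hg) v = v) : g ∈ R := by
  obtain ⟨r, hr⟩ := hK _ h
  have h1 : (r : Ω)⁻¹ * g ∈ centralizerIn S R := by
    refine mem_centralizerIn.2 ⟨S.mul_mem (S.inv_mem (P.hRS r.2)) hg.1, fun x hx => ?_⟩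
    have h2 : (r : Ω) * x * (r : Ω)⁻¹ = g * x * g⁻¹ := by
      rw [← P.tau_apply g hg ⟨x, hx⟩, ← hr]
      rfl
    calc x * ((r : Ω)⁻¹ * g) = (r : Ω)⁻¹ * ((r : Ω) * x * (r : Ω)⁻¹) * g := by group
      _ = _ := by rw [h2]; group
  simpa using R.mul_mem r.2 (hc h1)

theorem isPGroup_innerS [Finite S] (hS : IsPGroup p S) : IsPGroup p P.innerS := by
  rintro ⟨α, hα⟩
  obtain ⟨g, hg, rfl⟩ := P.exists_tau_of_mem hα
  obtain ⟨n, hn⟩ := hS ⟨g, hg.1⟩
  refine ⟨n, Subtype.ext ?_⟩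
  have h : g ^ p ^ n = 1 := congrArg Subtype.val hn
  rw [SubgroupClass.coe_pow, ← P.tau_pow hg]
  refine Subtype.ext (MulEquiv.ext fun x => Subtype.ext ?_)
  rw [P.tau_apply, h, one_mul, inv_one, mul_one]
  rfl

/-- The transvection group is the group induced by `S` when the latter is a Sylow subgroup. -/
theorem innerS_eq [Finite S] (hA : F.IsFullyAutomized p R) {v : ZMod p × ZMod p}
    (hT : ∀ t ∈ P.innerS, P.Unip v t) : P.innerS = P.unipGroup v := by
  obtain ⟨Q, hQ⟩ := hA.2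
  have h : (Q : Subgroup (F.autGroup R)) = P.innerS := hQ
  have h2 := Q.3 (P.isPGroup_unipGroup v) (h ▸ fun t ht => hT t ht)
  rw [← h]
  exact h2.symm

/-- An automorphism fixing the fixed line extends to the normalizer. -/
theorem exists_extend [Finite S] (hS : IsPGroup p S) (hF : F.IsSaturated p)
    (hn : F.IsFullyNormalized R) {v : ZMod p × ZMod p} (hv : v ≠ 0) (hT : ∀ t ∈ P.innerS, P.Unip v t)
    {α : F.autGroup R} (hα : det v (P.M α v) = 0) :
    ∃ χ : MulAut (normalizerIn S R), χ ∈ F.autGroup (normalizerIn S R) ∧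
      ∀ (x : R) (hx : (x : Ω) ∈ normalizerIn S R),
        ((χ ⟨x, hx⟩ : normalizerIn S R) : Ω) = ((α : MulAut R) x : R) := by
  obtain ⟨hA, hrec⟩ := fullyNormalized_props hS hF hn
  have := finite_of_le P.hRS
  have := finite_of_le (normalizerIn_le S R)
  have hα' := (mem_autGroup P.hRS).1 α.2
  obtain ⟨ψ, hψ, hψe⟩ := receptive_extend hrec hα'
  have hle : normalizerIn S R ≤ extender S R (R.subtype.comp (α : MulAut R).toMonoidHom) := by
    intro g hg
    refine (mem_extender_iso (α : MulAut R)).2 ⟨hg, ?_⟩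
    rw [congr_eq_conj]
    have h1 : α * P.tau g hg * α⁻¹ ∈ P.innerS := by
      rw [P.innerS_eq hA hT]
      exact P.unip_conj hv hα (hT _ (P.tau_mem hg))
    exact h1
  set ψ' := ψ.comp (Subgroup.inclusion hle)
  have hψ'e : ∀ (x : R) (hx : (x : Ω) ∈ normalizerIn S R), ψ' ⟨x, hx⟩ = ((α : MulAut R) x : R) :=
    fun x hx => hψe x (hle hx)
  have hRN : R ≤ normalizerIn S R := le_normalizerIn P.hRS
  have hval : ∀ g, ψ' g ∈ normalizerIn S R := by
    intro g
    refine ⟨val_mem hψ _, mem_normalizer_of_conj_mem fun r hr => ?_⟩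
    set r0 : R := (α : MulAut R).symm ⟨r, hr⟩
    have h1 : (g : Ω) * r0 * (g : Ω)⁻¹ ∈ R := conj_mem_of_mem_normalizer g.2.2 r0.2
    have h2 := hψ'e ⟨_, h1⟩ (hRN h1)
    rw [show (⟨(g : Ω) * r0 * (g : Ω)⁻¹, hRN h1⟩ : normalizerIn S R) = g * ⟨r0, hRN r0.2⟩ * g⁻¹ from rfl,
      map_mul, map_mul, map_inv, hψ'e r0 (hRN r0.2), MulEquiv.apply_symm_apply] at h2
    rw [h2]
    exact ((α : MulAut R) _).2
  obtain ⟨χ, hχ, hχe⟩ := exists_aut_of_self_map (restrict_mem hle hψ) hval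
  exact ⟨χ, hχ, fun x hx => (hχe _).trans (hψ'e x hx)⟩

end Plane

end Cfsg.Agent.Lib.LocalP2.RankTwo
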