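import Cfsg.Agent.Lib.LocalP2.RankTwoPearl

/-!
Resistance of `p`-groups of rank two for `p ≥ 5`.
-/

set_option autoImplicit false

namespace Cfsg.Agent.Lib.LocalP2.RankTwo

open Cfsg Cfsg.FusionSystem Cfsg.Agent.Lib.Fusion
open scoped commutatorElement

universe u

variable {p : ℕ} [hp : Fact p.Prime] {Ω : Type u} [Group Ω] {S : Subgroup Ω} [Finite S] {F : FusionSystem S}
  {R : Subgroup Ω}

/-- An automorphism of `p`-power order acts trivially on an invariant factor of order at most `p`. -/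
theorem fix_mod {G : Type u} [Group G] [Finite G] (hG : IsPGroup p G) {X D : Subgroup G} [D.Normal] (hDX : D ≤ X)
    (hXe : ∀ x ∈ X, x ^ p = 1) (hcom : ∀ x ∈ X, ∀ d ∈ D, Commute x d) (hcard : Nat.card X ≤ p * Nat.card D)
    {β : MulAut G} (hβX : ∀ x ∈ X, β x ∈ X) (hβD : ∀ d ∈ D, β d ∈ D) (hβ : ∃ e, β ^ p ^ e = 1) :
    ∀ x ∈ X, β x * x⁻¹ ∈ D := by
  intro x hx
  by_cases hxD : x ∈ D
  · exact D.mul_mem (hβD x hxD) (D.inv_mem hxD)
  have hxp := hXe x hx
  have hx1 : x ≠ 1 := fun h => hxD (h ▸ D.one_mem)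
  have hsup : Subgroup.zpowers x ⊔ D = X := by
    refine Subgroup.eq_of_le_of_card_ge (sup_le (Subgroup.zpowers_le.2 hx) hDX) ?_
    have hlt : D < Subgroup.zpowers x ⊔ D := lt_of_le_of_ne le_sup_right fun h =>
      hxD (h.ge (Subgroup.mem_sup_left (Subgroup.mem_zpowers x)))
    exact hcard.trans (Thompson.card_mul_p_le hG hlt)
  obtain ⟨u, hu, d, hd, hud⟩ := Subgroup.mem_sup_of_normal_right.1 (hsup ▸ hβX x hx : β x ∈ Subgroup.zpowers x ⊔ D)
  obtain ⟨q, rfl⟩ := exists_nat_pow hxp hx1 hu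
  have hit : ∀ j : ℕ, ∃ d ∈ D, (β ^ j) x = x ^ q ^ j * d := by
    intro j
    induction j with
    | zero => exact ⟨1, D.one_mem, by simp⟩
    | succ j ih =>
      obtain ⟨d', hd', hj⟩ := ih
      refine ⟨d' ^ q * (β ^ j) d, D.mul_mem (D.pow_mem hd' q) ?_, ?_⟩
      · clear hj
        induction j with
        | zero => exact hd
        | succ j ih => rw [pow_succ', MulAut.mul_apply]; exact hβD _ ih
      · rw [pow_succ β, MulAut.mul_apply, ← hud, map_mul, map_pow, hj,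
          ((hcom _ (X.pow_mem hx _) _ hd')).mul_pow, ← pow_mul, ← pow_succ, mul_assoc]
  obtain ⟨e, he⟩ := hβ
  obtain ⟨d', hd', hd2⟩ := hit (p ^ e)
  rw [he, MulAut.one_apply] at hd2
  set t := ((q : ZMod p) ^ p ^ e - 1).val
  have ht : x ^ t ∈ D := by
    have h1 : x * x ^ t = x ^ q ^ (p ^ e) := by
      conv_lhs => rw [← pow_succ']
      exact pow_eq_of_natCast_eq hxp (by
        rw [Nat.cast_succ, ZMod.natCast_zmod_val, Nat.cast_pow, sub_add_cancel])
    have h2 : x ^ t = d'⁻¹ := by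
      refine mul_left_cancel (a := x) (h1.trans ?_)
      rw [eq_mul_inv_iff_mul_eq]
      exact hd2.symm
    rw [h2]; exact D.inv_mem hd'
  have hq : (q : ZMod p) = 1 := by
    by_contra hq
    have ht0 : (t : ZMod p) ≠ 0 := by
      rw [ZMod.natCast_zmod_val, ZMod.pow_card_pow]; exact sub_ne_zero.2 hq
    refine hxD ?_
    have h3 := D.pow_mem ht ((t : ZMod p)⁻¹).val
    rw [← pow_mul] at h3
    rwa [pow_eq_of_natCast_eq hxp (show ((t * ((t : ZMod p)⁻¹).val : ℕ) : ZMod p) = ((1 : ℕ) : ZMod p) by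
      rw [Nat.cast_mul, ZMod.natCast_zmod_val ((t : ZMod p)⁻¹), Nat.cast_one, mul_inv_cancel₀ ht0]), pow_one] at h3
  have hxq : x ^ q = x := by
    conv_rhs => rw [← pow_one x]
    exact pow_eq_of_natCast_eq hxp (by rw [hq, Nat.cast_one])
  rw [← hud, hxq, (hcom x hx d hd).eq, mul_inv_cancel_right]
  exact hd

/-- The elementary case. -/
theorem false_of_elementary (h5 : 5 ≤ p) (hS : IsPGroup p S) (hF : F.IsSaturated p)
    (hrank : ∀ E : Subgroup Ω, E ≤ S → Cfsg.IsElementaryAbelian p E → Nat.card E ≤ p ^ 2)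
    (hnotE : ¬ (Nat.card S = p ^ 3 ∧ Monoid.exponent S = p))
    (hc : F.IsCentric R) (hn : F.IsFullyNormalized R) (hne : R ≠ S) (P : Plane F p R) (hPX : P.X = R)
    (hinj : ∀ x ∈ R, P.k x = 0 → x = 1) (hRe : ∀ x ∈ R, x ^ p = 1) (hK : P.KerInner) (hnl : P.NoLine) : False := by
  classical
  have hRS := P.hRS
  have hcent : centralizerIn S R ≤ R := hc.2 R (isConj_refl hRS)
  have hRX : ∀ {x}, x ∈ R → x ∈ P.X := fun {x} h => hPX.symm ▸ h
  have heq : ∀ x ∈ R, ∀ z ∈ R, P.k x = P.k z → x = z := fun x hx z hz h =>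
    (inv_mul_eq_one.1 (hinj _ (R.mul_mem (R.inv_mem hz) hx) ((P.k_eq_iff (hRX hx) (hRX hz)).1 h))).symm
  obtain ⟨v, hv, hT, u, huT, hu1⟩ := P.exists_centre hS hne hcent hK
  obtain ⟨w, hd, hdiag⟩ := P.exists_diag hnl hv (hT u huT) hu1
  obtain ⟨lam, hl0, hl1, hl2⟩ := exists_generic (p := p) h5
  obtain ⟨α, hαv, hαw⟩ := hdiag lam lam⁻¹ (mul_inv_cancel₀ hl0)
  set N := normalizerIn S R
  have hNS : N ≤ S := normalizerIn_le S R
  have hRN : R ≤ N := le_normalizerIn hRS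
  have hNf := finite_of_le hNS
  have hRf := finite_of_le hRS
  obtain ⟨χ, hχ, hχe⟩ := P.exists_extend hS hF hn hv hT (α := α) (by rw [hαv, det_smul, det_self, mul_zero])
  obtain ⟨a, haX, hka⟩ := P.ksurj v
  obtain ⟨b, hbX, hkb⟩ := P.ksurj w
  have haR : a ∈ R := P.hX haX
  have hbR : b ∈ R := P.hX hbX
  have hap := hRe a haR
  have hconjR : ∀ g ∈ N, ∀ x ∈ R, g * x * g⁻¹ ∈ R := fun g hg x hx => conj_mem_of_mem_normalizer hg.2 hx
  have hac : ∀ g ∈ N, Commute g a := fun g hg => by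
    refine mul_inv_eq_iff_eq_mul.1 (heq _ (hconjR g hg a haR) a haR ?_)
    rw [P.M_tau g hg haX, hka, (hT _ (P.tau_mem hg)).1]
  obtain ⟨y, hy, hyR⟩ := exists_normalizerIn_not_mem hS (lt_of_le_of_ne hRS hne)
  obtain ⟨s, hs⟩ := (hT _ (P.tau_mem hy)).2 w
  have hs0 : s ≠ 0 := fun h => hyR (P.mem_of_fix hK hcent hy
    (P.fix_of_two _ hd (hT _ (P.tau_mem hy)).1 (by rw [hs, h, zero_smul, add_zero])))
  have hyb : y * b * y⁻¹ = a ^ s.val * b := by
    refine heq _ (hconjR y hy b hbR) _ (R.mul_mem (R.pow_mem haR _) hbR) ?_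
    rw [P.M_tau y hy hbX, hkb, hs, P.kmul _ (P.X.pow_mem haX _) _ hbX, P.k_pow haX, hka, hkb, nat_smul_val,
      add_comm]
  have hformR : ∀ r ∈ R, ∃ i j : ℕ, r = a ^ i * b ^ j := fun r hr => by
    refine ⟨(det (P.k r) w / det v w).val, (det v (P.k r) / det v w).val, heq r hr _
      (R.mul_mem (R.pow_mem haR _) (R.pow_mem hbR _)) ?_⟩
    rw [P.kmul _ (P.X.pow_mem haX _) _ (P.X.pow_mem hbX _), P.k_pow haX, P.k_pow hbX, nat_smul_val,
      nat_smul_val, hka, hkb]
    exact decomp hd _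
  have hfix : ∀ g (hg : g ∈ N) (c : ZMod p), P.M (P.tau g hg) w = w + c • v →
      (y ^ (c / s).val)⁻¹ * g ∈ R := fun g hg c hc' =>
    P.mem_of_fix hK hcent (mul_mem (inv_mem (pow_mem hy _)) hg) <| by
      have hu : P.Unip v (P.tau ((y ^ (c / s).val)⁻¹ * g) (mul_mem (inv_mem (pow_mem hy _)) hg)) :=
        hT _ (P.tau_mem _)
      refine P.fix_of_two _ hd hu.1 ?_
      rw [P.tau_mul (inv_mem (pow_mem hy _)) hg, P.tau_inv (pow_mem hy _), P.tau_pow hy, P.M_mul, hc']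
      have h1 : P.M (P.tau y hy ^ (c / s).val) w = w + c • v := by
        rw [P.unip_pow (hT _ (P.tau_mem hy)) hs, ZMod.natCast_zmod_val, div_mul_cancel₀ _ hs0]
      rw [← h1, ← P.M_mul, inv_mul_cancel, P.M_one]
  have hNform : ∀ g ∈ N, ∃ q : ZMod p, ∃ r ∈ R, g = y ^ q.val * r := fun g hg => by
    obtain ⟨c, hc'⟩ := (hT _ (P.tau_mem hg)).2 w
    exact ⟨c / s, _, hfix g hg c hc', (mul_inv_cancel_left _ g).symm⟩
  -- powers in `N`
  have hmulpow : ∀ (q : ℕ) (r : Ω), r ∈ R → (y ^ q * r) ^ p = (y ^ p) ^ q := by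
    intro q r hr
    set z := ⁅r⁻¹, (y ^ q)⁻¹⁆
    have hg : (y ^ q)⁻¹ ∈ N := inv_mem (pow_mem hy q)
    have hz' : z = r⁻¹ * ((y ^ q)⁻¹ * r * ((y ^ q)⁻¹)⁻¹) := by
      simp only [z, commutatorElement_def]; group
    have hzR : z ∈ R := hz' ▸ R.mul_mem (R.inv_mem hr) (hconjR _ hg r hr)
    obtain ⟨c, hc'⟩ := (hT _ (P.tau_mem hg)).2 (P.k r)
    have hzk : P.k z = c • v := by
      rw [hz', P.kmul _ (P.X.inv_mem (hRX hr)) _ (hRX (hconjR _ hg r hr)), P.M_tau _ hg (hRX hr), hc',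
        P.k_inv (hRX hr), neg_add_cancel_left]
    have hza : z = a ^ c.val := heq z hzR _ (R.pow_mem haR _) (by rw [hzk, P.k_pow haX, hka, nat_smul_val])
    have h := Thompson.mul_pow_class_two (x := y ^ q) (y := r) (z := z) (Thompson.mul_comm_eq _ _)
      (hza ▸ ((hac _ (pow_mem hy q)).pow_right _).symm) (hza ▸ ((hac r (hRN hr)).pow_right _).symm) p
    rw [h, hRe r hr, Thompson.pow_choose_two_eq_one (by omega) (hRe z hzR), mul_one, mul_one, ← pow_mul,
      ← pow_mul, mul_comm]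
  have hypR : y ^ p ∈ R := P.mem_of_fix hK hcent (pow_mem hy p) fun x => by
    rw [P.tau_pow hy]; exact P.unip_pow_prime (hT _ (P.tau_mem hy)) x
  obtain ⟨i, j, hij⟩ := hformR _ hypR
  have hj : (j : ZMod p) = 0 := by
    have h1 : y * (a ^ i * b ^ j) * y⁻¹ = a ^ i * b ^ j := by
      rw [← hij, ((Commute.refl y).pow_right p).eq, mul_inv_cancel_right]
    rw [← conj_mul, ← conj_pow, ← conj_pow, (hac y hy).eq, mul_inv_cancel_right, hyb] at h1
    have h2 := congrArg P.k (mul_left_cancel h1)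
    rw [P.k_pow (P.X.mul_mem (P.X.pow_mem haX _) hbX), P.kmul _ (P.X.pow_mem haX _) _ hbX, P.k_pow haX,
      P.k_pow hbX, hka, hkb, nat_smul_val, nsmul_add, add_eq_right, ← Nat.cast_smul_eq_nsmul (ZMod p),
      smul_smul, smul_eq_zero] at h2
    exact (mul_eq_zero.1 (h2.resolve_right hv)).resolve_right hs0
  have hyp : y ^ p = a ^ i := by
    rw [hij, show b ^ j = 1 from (pow_eq_of_natCast_eq (hRe b hbR) (by rw [hj, Nat.cast_zero])).trans (pow_zero b),
      mul_one]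
  -- the extension
  set l := lam.val
  set m := lam⁻¹.val
  set n := (lam * lam).val
  have hχR : ∀ (x : R), ((χ ⟨x, hRN x.2⟩ : N) : Ω) = ((α : MulAut R) x : R) := fun x => hχe x (hRN x.2)
  have hχa : ((χ ⟨a, hRN haR⟩ : N) : Ω) = a ^ l := by
    rw [hχR ⟨a, haR⟩]
    refine heq _ ((α : MulAut R) ⟨a, haR⟩).2 _ (R.pow_mem haR l) ?_
    rw [P.M_k α (x := ⟨a, haR⟩) haX, P.k_pow haX, nat_smul_val, hka, ← hαv]
  have hχb : ((χ ⟨b, hRN hbR⟩ : N) : Ω) = b ^ m := by
    rw [hχR ⟨b, hbR⟩]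
    refine heq _ ((α : MulAut R) ⟨b, hbR⟩).2 _ (R.pow_mem hbR m) ?_
    rw [P.M_k α (x := ⟨b, hbR⟩) hbX, P.k_pow hbX, nat_smul_val, hkb, ← hαw]
  have hχy : (y ^ n)⁻¹ * ((χ ⟨y, hy⟩ : N) : Ω) ∈ R := by
    set g := ((χ ⟨y, hy⟩ : N) : Ω)
    have hg : g ∈ N := (χ ⟨y, hy⟩).2
    have hτg : P.tau g hg = α * P.tau y hy * α⁻¹ := by
      refine Subtype.ext (MulEquiv.ext fun x => Subtype.ext ?_)
      rw [P.tau_apply]
      set x0 : R := (α : MulAut R)⁻¹ x
      show g * (x : Ω) * g⁻¹ = (((α : MulAut R) ((P.tau y hy : MulAut R) x0) : R) : Ω)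
      have hx : (x : Ω) = ((χ ⟨x0, hRN x0.2⟩ : N) : Ω) := by
        rw [hχR x0]
        show (x : Ω) = (((α : MulAut R) ((α : MulAut R)⁻¹ x) : R) : Ω)
        rw [MulAut.apply_inv_self]
      rw [hx, ← Subgroup.coe_inv, ← map_inv, ← Subgroup.coe_mul, ← map_mul, ← Subgroup.coe_mul, ← map_mul,
        ← hχR ((P.tau y hy : MulAut R) x0)]
      exact congrArg (fun t => ((χ t : N) : Ω)) (Subtype.ext (P.tau_apply y hy x0).symm)
    have hαinv : P.M α⁻¹ w = lam • w := by
      have h1 := congrArg (P.M α⁻¹) hαw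
      rw [← P.M_mul, inv_mul_cancel, P.M_one, P.M_smul] at h1
      exact (inv_smul_eq_iff₀ hl0).1 h1.symm
    have h1 := hfix g hg (lam * lam * s) (by
      rw [hτg, P.M_mul, P.M_mul, hαinv, P.M_smul, hs, smul_add, map_add, P.M_smul, P.M_smul, P.M_smul, hαw, hαv,
        smul_smul, mul_inv_cancel₀ hl0, one_smul, smul_smul, smul_smul]
      congr 2
      ring)
    rwa [mul_div_cancel_right₀ _ hs0] at h1
  have hai : a ^ i = 1 := by
    have h2 : ((χ ⟨y, hy⟩ : N) : Ω) ^ p = (a ^ l) ^ i := by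
      rw [← hχa, ← SubmonoidClass.coe_pow, ← map_pow, ← SubmonoidClass.coe_pow, ← map_pow]
      exact congrArg Subtype.val (congrArg χ (Subtype.ext hyp : (⟨y, hy⟩ : N) ^ p = ⟨a, hRN haR⟩ ^ i))
    have h3 := hmulpow n _ hχy
    rw [mul_inv_cancel_left, h2, hyp, ← pow_mul, ← pow_mul, pow_eq_pow_iff_modEq,
      orderOf_eq_prime hap (fun h => hv (by rw [← hka, h, P.k_one])), ← ZMod.natCast_eq_natCast_iff,
      Nat.cast_mul, Nat.cast_mul, ZMod.natCast_zmod_val, ZMod.natCast_zmod_val] at h3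
    have h4 : (i : ZMod p) * (lam * (lam - 1)) = 0 := by linear_combination -h3
    have h5' : (i : ZMod p) = 0 := (mul_eq_zero.1 h4).resolve_right (mul_ne_zero hl0 (sub_ne_zero.2 hl1))
    rw [← pow_zero a]
    exact pow_eq_of_natCast_eq hap (by rw [h5', Nat.cast_zero])
  have hexpN : ∀ g ∈ N, g ^ p = 1 := fun g hg => by
    obtain ⟨q, r, hr, rfl⟩ := hNform g hg
    rw [hmulpow _ r hr, hyp, hai, one_pow]
  have hRcard : Nat.card R = p ^ 2 := by
    have hbij : Function.Bijective (fun x : R => P.k x) :=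
      ⟨fun x z h => Subtype.ext (heq x x.2 z z.2 h), fun t => ⟨P.sec t, P.k_sec t⟩⟩
    rw [Nat.card_eq_of_bijective _ hbij, Nat.card_prod, Nat.card_zmod, sq]
  have hNcard : Nat.card N = p ^ 3 := by
    let f : ZMod p × R → N := fun x => ⟨y ^ x.1.val * x.2, mul_mem (pow_mem hy _) (hRN x.2.2)⟩
    have hf : Function.Bijective f := by
      refine ⟨?_, fun ⟨g, hg⟩ => ?_⟩
      · rintro ⟨q, r⟩ ⟨q', r'⟩ h
        have h1 : y ^ q.val * (r : Ω) = y ^ q'.val * r' := congrArg Subtype.val h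
        obtain rfl : q = q' := by
          have h0 : ∀ (e : ZMod p) (x : R),
              P.M (P.tau (y ^ e.val * x) (mul_mem (pow_mem hy _) (hRN x.2))) w = w + (e * s) • v := fun e x => by
            rw [P.tau_mul (pow_mem hy _) (hRN x.2), P.tau_pow hy, P.M_mul]
            have hxw : P.M (P.tau (x : Ω) (hRN x.2)) w = w := by
              have hbx : (x : Ω) * b * (x : Ω)⁻¹ = b := by
                obtain ⟨i', j', hx'⟩ := hformR x x.2
                rw [hx', ((((hac b (hRN hbR)).symm.pow_left i').mul_left ((Commute.refl b).pow_left j'))).eq,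
                  mul_inv_cancel_right]
              rw [← hkb, ← P.M_tau _ (hRN x.2) hbX, hbx]
            rw [hxw, P.unip_pow (hT _ (P.tau_mem hy)) hs, ZMod.natCast_zmod_val]
          have h3 : P.tau (y ^ q.val * r) (mul_mem (pow_mem hy _) (hRN r.2)) =
              P.tau (y ^ q'.val * r') (mul_mem (pow_mem hy _) (hRN r'.2)) := by simp only [h1]
          have h4 := h0 q r
          rw [h3, h0 q' r', add_right_inj] at h4
          exact (mul_right_cancel₀ hs0 (smul_left_injective _ hv h4)).symm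
        rw [Subtype.ext (mul_left_cancel h1) (p := fun x => x ∈ R)]
      · obtain ⟨q, r, hr, rfl⟩ := hNform g hg
        exact ⟨(q, ⟨r, hr⟩), rfl⟩
    rw [← Nat.card_eq_of_bijective f hf, Nat.card_prod, Nat.card_zmod, hRcard]
    ring
  have hNlt : N ≠ S := fun h => by
    refine hnotE ⟨h ▸ hNcard, ?_⟩
    have h1 : Monoid.exponent S ∣ p := Monoid.exponent_dvd_of_forall_pow_eq_one fun x =>
      Subtype.ext (hexpN x (h.ge x.2))
    refine (Nat.Prime.eq_one_or_self_of_dvd hp.out _ h1).resolve_left fun h2 => ?_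
    have := Monoid.exp_eq_one_iff.1 h2
    have h3 : Nat.card S = 1 := Nat.card_unique
    rw [← h, hNcard] at h3
    exact hp.out.ne_one ((pow_eq_one_iff_left (by norm_num : 3 ≠ 0)).1 h3)
  -- pass to a fully normalized conjugate of `N`
  obtain ⟨N', hN', hN'n⟩ := exists_fullyNormalized (F := F) hNS
  obtain ⟨e, he⟩ := isConj_iff_iso.1 hN'
  have hN'f := finite_of_le hN'n.1
  set a' := ((e ⟨a, hRN haR⟩ : N') : Ω)
  set b' := ((e ⟨b, hRN hbR⟩ : N') : Ω)
  set y' := ((e ⟨y, hy⟩ : N') : Ω)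
  have ha'N : a' ∈ N' := (e _).2
  have hb'N : b' ∈ N' := (e _).2
  have hy'N : y' ∈ N' := (e _).2
  set R1 := Subgroup.zpowers (⟨a, hRN haR⟩ : N) ⊔ Subgroup.zpowers ⟨b, hRN hbR⟩
  have hR1 : R1.map N.subtype = R := by
    rw [Subgroup.map_sup, MonoidHom.map_zpowers, MonoidHom.map_zpowers]
    refine le_antisymm (sup_le (Subgroup.zpowers_le.2 haR) (Subgroup.zpowers_le.2 hbR)) fun r hr => ?_
    obtain ⟨i', j', rfl⟩ := hformR r hr
    exact Subgroup.mul_mem_sup (Subgroup.pow_mem _ (Subgroup.mem_zpowers _) _)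
      (Subgroup.pow_mem _ (Subgroup.mem_zpowers _) _)
  have hR1' : ∀ x : N, x ∈ R1 ↔ (x : Ω) ∈ R := fun x => by
    rw [← hR1]
    exact (Subgroup.mem_map_iff_mem N.subtype_injective).symm
  set ψ : N →* Ω := N'.subtype.comp e.toMonoidHom with hψdef
  set E' := Subgroup.zpowers a' ⊔ Subgroup.zpowers b'
  have hE' : R1.map ψ = E' := by
    rw [Subgroup.map_sup, MonoidHom.map_zpowers, MonoidHom.map_zpowers]; rfl
  have hconj : F.IsConj R E' := by
    refine ⟨ψ.comp (Subgroup.inclusion hRN), restrict_mem hRN he, ?_⟩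
    rw [← hE']
    ext x
    constructor
    · rintro ⟨r, rfl⟩
      exact ⟨Subgroup.inclusion hRN r, (hR1' _).2 r.2, rfl⟩
    · rintro ⟨n', hn', rfl⟩
      exact ⟨⟨n', (hR1' n').1 hn'⟩, rfl⟩
  have hE'S : E' ≤ S := isConj_right_le hconj
  have hNE : normalizerIn S E' ≤ N' := by
    have hle : N' ≤ normalizerIn S E' := fun x hx => by
      refine ⟨hN'n.1 hx, ?_⟩
      have := finite_of_le hE'S
      refine mem_normalizer_of_conj_mem fun z hz => ?_
      rw [← hE'] at hz ⊢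
      obtain ⟨z0, hz0, rfl⟩ := hz
      refine ⟨e.symm ⟨x, hx⟩ * z0 * (e.symm ⟨x, hx⟩)⁻¹,
        (hR1' _).2 (hconjR _ (e.symm ⟨x, hx⟩).2 _ ((hR1' z0).1 hz0)), ?_⟩
      simp [hψdef]
    have := finite_of_le (normalizerIn_le S E')
    refine (Fusion.eq_of_le_of_natCard_le hle ?_).ge
    rw [← isConj_card hN']
    exact hn.2 E' hconj
  have hχ' : MulAut.congr e χ ∈ F.autGroup N' := by
    rw [← he.autGroup_map]
    exact ⟨χ, hχ, rfl⟩
  have hχe' : ∀ (x : Ω) (hx : x ∈ N), (((MulAut.congr e χ) (e ⟨x, hx⟩) : N') : Ω) = ψ (χ ⟨x, hx⟩) := fun x hx => by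
    simp [MulAut.congr_apply, hψdef]
  have hl : (l : ZMod p) * (m : ZMod p) = 1 := by
    rw [ZMod.natCast_zmod_val, ZMod.natCast_zmod_val, mul_inv_cancel₀ hl0]
  refine false_of_pearl h5 hS hF hrank hN'n (fun h => hNlt ?_) ha'N hb'N hy'N
    ((isConj_card hN').symm.trans hNcard) ?_ ?_ ?_ ?_ ?_ ?_ (s := s.val)
    (by rwa [ZMod.natCast_zmod_val]) ?_ hNE (hc.2 E' hconj) (MulAut.congr e χ) hχ' hl
    (by rw [ZMod.natCast_zmod_val]; exact fun h => hl1 (inv_eq_one.1 h))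
    (n := n) (by rw [ZMod.natCast_zmod_val]; exact mul_ne_zero hl0 hl0)
    (by rw [ZMod.natCast_zmod_val, ← sq]; exact hl2) ?_ ?_ ?_
  · exact Fusion.eq_of_le_of_natCard_le hNS (by rw [isConj_card hN', h])
  · intro g hg
    obtain ⟨g0, hg0⟩ := e.surjective ⟨g, hg⟩
    rw [show g = ((e g0 : N') : Ω) from (congrArg Subtype.val hg0).symm, ← SubmonoidClass.coe_pow, ← map_pow,
      show g0 ^ p = 1 from Subtype.ext (hexpN g0 g0.2), map_one, OneMemClass.coe_one]
  · intro H h1 h2 h3 g hg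
    obtain ⟨g0, hg0⟩ := e.surjective ⟨g, hg⟩
    have hR1H : R1 ≤ H.comap ψ := sup_le (Subgroup.zpowers_le.2 h1) (Subgroup.zpowers_le.2 h2)
    obtain ⟨q, r, hr, hg0'⟩ := hNform g0 g0.2
    have : g0 = (⟨y, hy⟩ : N) ^ q.val * ⟨r, hRN hr⟩ := Subtype.ext hg0'
    rw [show g = ψ g0 from (congrArg Subtype.val hg0).symm, this, map_mul, map_pow]
    exact H.mul_mem (H.pow_mem h3 _) (hR1H ((hR1' _).2 hr))
  · intro h
    have h2 : (⟨a, hRN haR⟩ : N) = 1 := e.injective ((Subtype.ext h : e ⟨a, hRN haR⟩ = 1).trans (map_one e).symm)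
    exact hv (by rw [← hka, show a = 1 from congrArg Subtype.val h2, P.k_one])
  · intro g hg
    obtain ⟨g0, hg0⟩ := e.surjective ⟨g, hg⟩
    have h := (show Commute g0 ⟨a, hRN haR⟩ from Subtype.ext (hac g0 g0.2).eq).map e.toMonoidHom
    rw [MulEquiv.coe_toMonoidHom, hg0] at h
    exact congrArg Subtype.val h.eq
  · intro h
    have h1 : ψ ⟨b, hRN hbR⟩ ∈ (Subgroup.zpowers (⟨a, hRN haR⟩ : N)).map ψ := by
      rw [MonoidHom.map_zpowers]; exact h
    have h2 : (⟨b, hRN hbR⟩ : N) ∈ Subgroup.zpowers (⟨a, hRN haR⟩ : N) :=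
      (Subgroup.mem_map_iff_mem ((show Function.Injective ψ from fun u u' h => e.injective (Subtype.ext h)))).1 h1
    obtain ⟨q, hq⟩ := exists_nat_pow hap (fun h => hv (by rw [← hka, h, P.k_one]))
      (by simpa [MonoidHom.map_zpowers] using Subgroup.mem_map_of_mem N.subtype h2 : b ∈ Subgroup.zpowers a)
    refine hd ?_
    rw [← hkb, ← hq, P.k_pow haX, hka, nsmul_eq_mul] at *
    simp only [det, Prod.fst_mul, Prod.snd_mul, Prod.fst_natCast, Prod.snd_natCast]
    ring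
  · intro h
    change ψ ⟨y, hy⟩ ∈ E' at h
    rw [← hE', Subgroup.mem_map_iff_mem ((show Function.Injective ψ from fun u u' h => e.injective (Subtype.ext h)))] at h
    exact hyR ((hR1' _).1 h)
  · have h1 : (⟨y, hy⟩ : N) * ⟨b, hRN hbR⟩ * (⟨y, hy⟩ : N)⁻¹ = ⟨a, hRN haR⟩ ^ s.val * ⟨b, hRN hbR⟩ :=
      Subtype.ext hyb
    have h2 := congrArg ψ h1
    simp only [map_mul, map_inv, map_pow] at h2
    exact h2
  · rw [hχe' a (hRN haR)]
    have h1 : χ ⟨a, hRN haR⟩ = (⟨a, hRN haR⟩ : N) ^ l := Subtype.ext hχa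
    rw [h1, map_pow]; rfl
  · rw [hχe' b (hRN hbR)]
    have h1 : χ ⟨b, hRN hbR⟩ = (⟨b, hRN hbR⟩ : N) ^ m := Subtype.ext hχb
    rw [h1, map_pow]; rfl
  · refine ⟨ψ ⟨_, hRN hχy⟩, (show ψ ⟨_, hRN hχy⟩ ∈ E' by rw [← hE']; exact Subgroup.mem_map_of_mem ψ ((hR1' _).2 hχy)), ?_⟩
    rw [hχe' y hy]
    have h1 : (⟨y, hy⟩ : N) ^ n * ⟨_, hRN hχy⟩ = χ ⟨y, hy⟩ := Subtype.ext (mul_inv_cancel_left (y ^ n) _)
    refine (congrArg ψ h1).symm.trans ?_
    rw [map_mul, map_pow]; rfl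

/-- No subgroup is essential. -/
theorem false_of_essential (h5 : 5 ≤ p) (hS : IsPGroup p S) (hF : F.IsSaturated p)
    (hrank : ∀ E : Subgroup Ω, E ≤ S → Cfsg.IsElementaryAbelian p E → Nat.card E ≤ p ^ 2)
    (hnotE : ¬ (Nat.card S = p ^ 3 ∧ Monoid.exponent S = p)) (hE : F.IsEssential p R) : False := by
  classical
  have hne : R ≠ S := (ne_top_of_essential hS hF hE).ne
  have hrad := isRadical_of_essential hS hE
  have hRS : R ≤ S := hE.1.1
  have hn := hE.2.1
  have hcent : centralizerIn S R ≤ R := hE.1.2 R (isConj_refl hRS)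
  have hRf := finite_of_le hRS
  have := finite_mulAut hRS
  have hRp : IsPGroup p R := hS.to_le hRS
  have hr : Cfsg.PRankLE p 2 R := fun A hA hAp => by
    rw [← Subgroup.card_map_of_injective R.subtype_injective]
    haveI := hA
    refine hrank _ ((Subgroup.map_subtype_le A).trans hRS) ⟨inferInstance, ?_⟩
    rintro _ ⟨x, hx, rfl⟩
    rw [← map_pow, hAp x hx, map_one]
  obtain ⟨X', D', hDX', hXc, hDc, hXe', hcom', hcomm', hcard', hDcase, hlift⟩ :=
    exists_char_small (p := p) (by omega) hRp hr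
  have hinvX : ∀ (α : MulAut R), ∀ x ∈ X', α x ∈ X' := fun α x hx => Subgroup.characteristic_iff_le_comap.1 hXc α hx
  have hinvD : ∀ (α : MulAut R), ∀ x ∈ D', α x ∈ D' := fun α x hx => Subgroup.characteristic_iff_le_comap.1 hDc α hx
  haveI := hDc
  obtain ⟨g0, hg0, hg0R⟩ := exists_normalizerIn_not_mem hS (lt_of_le_of_ne hRS hne)
  have hnotinn : conjAut R hg0.2 ∉ Inn R := by
    rintro ⟨r, hr'⟩
    refine hg0R ?_
    have h1 : (r : Ω)⁻¹ * g0 ∈ centralizerIn S R := by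
      refine mem_centralizerIn.2 ⟨S.mul_mem (S.inv_mem (hRS r.2)) hg0.1, fun x hx => ?_⟩
      have h2 : (r : Ω) * x * (r : Ω)⁻¹ = g0 * x * g0⁻¹ := by
        rw [← conjAut_apply R hg0.2 ⟨x, hx⟩, ← hr']; rfl
      calc x * ((r : Ω)⁻¹ * g0) = (r : Ω)⁻¹ * ((r : Ω) * x * (r : Ω)⁻¹) * g0 := by group
        _ = _ := by rw [h2]; group
    simpa using R.mul_mem r.2 (hcent h1)
  set τ0 : F.autGroup R :=
    ⟨conjAut R hg0.2, autInducedBy_le_autGroup hRS (conjAut_mem_autInducedBy hg0.1 hg0.2)⟩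
  have hτ0p : ∃ j, τ0 ^ p ^ j = 1 := by
    obtain ⟨j, hj⟩ := hS ⟨g0, hg0.1⟩
    refine ⟨j, Subtype.ext ?_⟩
    have hit : ∀ (q : ℕ) (x : R), ((((conjAut R hg0.2) ^ q) x : R) : Ω) = g0 ^ q * x * (g0 ^ q)⁻¹ := by
      intro q
      induction q with
      | zero => intro x; simp
      | succ q ih => intro x; rw [pow_succ, MulAut.mul_apply, ih, conjAut_apply, pow_succ]; group
    rw [SubgroupClass.coe_pow]
    refine MulEquiv.ext fun x => Subtype.ext ?_
    rw [hit, show g0 ^ p ^ j = 1 from congrArg Subtype.val hj, one_mul, inv_one, mul_one]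
    rfl
  have hkill : ∀ (β : MulAut R), (∀ x ∈ X', β x * x⁻¹ ∈ D') → ∃ j, β ^ p ^ j = 1 := by
    intro β hβ
    set k := (orderOf β).factorization p
    refine ⟨k, hlift _ ?_ fun x hx => ?_⟩
    · rw [orderOf_pow_of_dvd (pow_ne_zero _ hp.out.ne_zero) (Nat.ordProj_dvd _ _)]
      exact (Nat.coprime_ordCompl hp.out (orderOf_pos β).ne').symm
    · generalize p ^ k = q
      induction q generalizing x with
      | zero => rw [pow_zero, MulAut.one_apply, mul_inv_cancel]; exact D'.one_mem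
      | succ q ih =>
        rw [pow_succ, MulAut.mul_apply]
        have := D'.mul_mem (ih (β x) (hinvX β x hx)) (hβ x hx)
        rwa [mul_assoc, inv_mul_cancel_left] at this
  obtain ⟨i, hi⟩ := IsPGroup.iff_card.1 (hRp.to_subgroup X')
  obtain ⟨j, hj⟩ := IsPGroup.iff_card.1 (hRp.to_subgroup D')
  by_cases hsmall : Nat.card X' ≤ p * Nat.card D'
  · let K : Subgroup (F.autGroup R) :=
      { carrier := {α | ∀ x ∈ X', (α : MulAut R) x * x⁻¹ ∈ D'}
        one_mem' := fun x _ => by simp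
        mul_mem' := fun {α β} hα hβ x hx => by
          rw [Subgroup.coe_mul, MulAut.mul_apply]
          have := D'.mul_mem (hα _ (hinvX β x hx)) (hβ x hx)
          rwa [mul_assoc, inv_mul_cancel_left] at this
        inv_mem' := fun {α} hα x hx => by
          have h := D'.inv_mem (hinvD (α : MulAut R)⁻¹ _ (hα x hx))
          rw [map_mul, map_inv, MulAut.inv_apply_self] at h
          simpa using h }
    have hKn : K.Normal := ⟨fun α hα γ x hx => by
      have h := hinvD γ _ (hα _ (hinvX (γ : MulAut R)⁻¹ x hx))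
      rw [map_mul, map_inv, MulAut.apply_inv_self] at h
      exact h⟩
    have hKp : IsPGroup p K := fun ⟨α, hα⟩ => by
      obtain ⟨k, hk⟩ := hkill α hα
      exact ⟨k, Subtype.ext (Subtype.ext hk)⟩
    refine hnotinn (mem_inn_of_radical hrad hKn hKp (α := τ0) ?_)
    refine fix_mod hRp hDX' hXe' hcom' hsmall (hinvX _) (hinvD _) ?_
    obtain ⟨e, he⟩ := hτ0p
    exact ⟨e, congrArg Subtype.val he⟩
  have hcardX : Nat.card X' = p ^ 2 * Nat.card D' := by
    rw [hi, hj] at hcard' hsmall ⊢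
    rw [← pow_add] at hcard' ⊢
    rw [← pow_succ'] at hsmall
    rw [Nat.pow_le_pow_iff_right hp.out.one_lt] at hcard' hsmall
    congr 1
    omega
  set X := X'.map R.subtype
  set D := D'.map R.subtype
  have hXmem : ∀ x : R, (x : Ω) ∈ X ↔ x ∈ X' := fun x => Subgroup.mem_map_iff_mem R.subtype_injective
  have hDmem : ∀ x : R, (x : Ω) ∈ D ↔ x ∈ D' := fun x => Subgroup.mem_map_iff_mem R.subtype_injective
  have hXR : X ≤ R := Subgroup.map_subtype_le _
  have hXe : ∀ x ∈ X, x ^ p = 1 := by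
    rintro _ ⟨x, hx, rfl⟩
    rw [← map_pow, hXe' x hx, map_one]
  have := finite_of_le (hXR.trans hRS)
  obtain ⟨k, hkmul, hksurj, hkD⟩ := exists_coord (p := p) (Subgroup.map_mono hDX' : D ≤ X)
    (by
      rintro _ ⟨x, hx, rfl⟩ _ ⟨d, hd, rfl⟩
      exact ⟨x * d * x⁻¹, (inferInstance : D'.Normal).conj_mem d hd x, by simp⟩)
    (fun x hx => by rw [hXe x hx]; exact one_mem _)
    (by
      rw [Subgroup.card_map_of_injective R.subtype_injective, Subgroup.card_map_of_injective R.subtype_injective,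
        hcardX])
  let P : Plane F p R :=
    { X := X
      hRS := hRS
      hX := hXR
      hXinv := fun α _ x hx => (hXmem _).2 (hinvX α x ((hXmem x).1 hx))
      k := k
      kmul := hkmul
      ksurj := hksurj
      kinv := fun α _ x hx h0 => (hkD _ ((hXmem _).2 (hinvX α x ((hXmem x).1 hx)))).2
        ((hDmem _).2 (hinvD α x ((hDmem x).1 ((hkD x hx).1 h0))))
      hker := fun α _ h => hkill α fun x hx => by
        have hx' := (hXmem x).2 hx
        have hαx := (hXmem _).2 (hinvX α x hx)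
        refine (hDmem _).1 ((hkD _ (X.mul_mem hαx (X.inv_mem hx'))).1 ?_)
        rw [hkmul _ hαx _ (X.inv_mem hx'), h x hx', ← hkmul _ hx' _ (X.inv_mem hx'), mul_inv_cancel]
        exact (hkD 1 X.one_mem).2 D.one_mem }
  have hK : P.KerInner := by
    intro α hα
    let K : Subgroup (F.autGroup R) :=
      { carrier := {α | ∀ t, P.M α t = t}
        one_mem' := P.M_one
        mul_mem' := fun {α β} hα hβ t => by rw [P.M_mul, hβ, hα]
        inv_mem' := fun {α} hα t => by conv_lhs => rw [← hα t, ← P.M_mul, inv_mul_cancel, P.M_one] }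
    exact mem_inn_of_radical hrad (N := K)
      ⟨fun α hα γ t => by
        show P.M (γ * α * γ⁻¹) t = t
        rw [P.M_mul, P.M_mul, hα, P.M_inv_apply]⟩
      (fun ⟨β, hβ⟩ => by
        obtain ⟨q, hq⟩ := P.pow_eq_one_of_fix β hβ
        exact ⟨q, Subtype.ext hq⟩) (α := α) hα
  have hnl : P.NoLine := by
    intro v hv
    by_contra hall
    push Not at hall
    refine hnotinn (mem_inn_of_radical hrad (N := P.unipGroup v)
      ⟨fun τ hτ γ => P.unip_conj hv (hall γ) hτ⟩ (P.isPGroup_unipGroup v) (α := τ0) ?_)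
    exact P.unip_of_stab hv hτ0p (hall τ0)
  have hInn : ∀ g ∈ R, ∀ x ∈ P.X, P.k (g * x * g⁻¹) = P.k x := by
    set I := (Inn R).subgroupOf (F.autGroup R)
    have hIn : I.Normal := inn_subgroupOf_normal R _
    have hIp : IsPGroup p I := by
      rintro ⟨α, hα⟩
      obtain ⟨r, hr⟩ := hα
      obtain ⟨q, hq⟩ := hRp r
      refine ⟨q, Subtype.ext (Subtype.ext ?_)⟩
      show (α : MulAut R) ^ p ^ q = 1
      rw [show (α : MulAut R) = MulAut.conj r from hr.symm, ← map_pow, hq, map_one]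
    obtain ⟨v, hv, hfix⟩ := P.exists_fixed I hIp
    obtain ⟨γ, hγ⟩ := hnl v hv
    intro g hg x hx
    set t : F.autGroup R := ⟨MulAut.conj ⟨g, hg⟩, inn_le_autGroup hRS ⟨_, rfl⟩⟩
    have ht : t ∈ I := ⟨_, rfl⟩
    have h2 : P.M t (P.M γ v) = P.M γ v := by
      have h3 := hfix _ (hIn.conj_mem t ht γ⁻¹)
      rw [inv_inv, P.M_mul, P.M_mul] at h3
      have := congrArg (P.M γ) h3
      rwa [P.M_inv_apply] at this
    have h4 := P.M_k t (x := ⟨x, P.hX hx⟩) hx
    rw [P.fix_of_two t hγ (hfix t ht) h2] at h4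
    exact h4
  rcases hDcase with hD | ⟨x, hx, y, hy, hxy, hDgen⟩
  swap
  · have hDz : D = Subgroup.zpowers ((⁅x, y⁆ : R) : Ω) := by
      show D'.map R.subtype = _
      rw [hDgen, MonoidHom.map_zpowers]; rfl
    refine P.false_of_heis h5 hS hF hrank hn hne hcent hK hInn hXe (z := ((⁅x, y⁆ : R) : Ω))
      ((hXmem _).2 (hDX' (hDgen ▸ Subgroup.mem_zpowers _))) (fun h => hxy (Subtype.ext h))
      (fun w hw h => hDz ▸ (hkD w hw).1 h) ?_ ?_ hnl
    · rintro _ ⟨w, hw, rfl⟩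
      exact congrArg Subtype.val (hcom' w hw _ (hDgen ▸ Subgroup.mem_zpowers _)).eq
    · intro h
      refine hxy (commutatorElement_eq_one_iff_mul_comm.2 (Subtype.ext ?_))
      exact (h x ((hXmem x).2 hx) y ((hXmem y).2 hy)).eq
  -- `X` elementary of order `p^2`
  have hinj : ∀ z ∈ X, k z = 0 → z = 1 := fun z hz h => by
    have h' := (hkD z hz).1 h
    have hDb : D = ⊥ := by show D'.map R.subtype = ⊥; rw [hD, Subgroup.map_bot]
    exact Subgroup.mem_bot.1 ((hDb.le : D ≤ ⊥) h')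
  have heq : ∀ z ∈ X, ∀ z' ∈ X, k z = k z' → z = z' := fun z hz z' hz' h =>
    (inv_mul_eq_one.1 (hinj _ (X.mul_mem (X.inv_mem hz') hz) ((P.k_eq_iff hz hz').1 h))).symm
  obtain ⟨v, hv, hT, u, huT, hu1⟩ := P.exists_centre hS hne hcent hK
  obtain ⟨w, hd, hdiag⟩ := P.exists_diag hnl hv (hT u huT) hu1
  obtain ⟨a, haX, hka⟩ := P.ksurj v
  obtain ⟨b, hbX, hkb⟩ := P.ksurj w
  have hcentralX : ∀ g ∈ R, ∀ z ∈ X, Commute g z := fun g hg z hz => by
    have hgz : g * z * g⁻¹ ∈ X := by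
      have h1 := hinvX (MulAut.conj ⟨g, hg⟩) ⟨z, hXR hz⟩ ((hXmem _).1 hz)
      exact (hXmem (MulAut.conj (⟨g, hg⟩ : R) ⟨z, hXR hz⟩)).2 h1
    exact mul_inv_eq_iff_eq_mul.1 (heq _ hgz z hz (hInn g hg z hz))
  have hordp : ∀ z ∈ R, z ^ p = 1 → z ∈ X := fun z hz hzp => by
    have hb1 : b ≠ 1 := fun h => hd (by rw [← hkb, h, P.k_one]; simp [det])
    have hab : a ∉ Subgroup.zpowers b := fun h => by
      obtain ⟨q, hq⟩ := exists_nat_pow (hXe b hbX) hb1 h
      refine hd ?_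
      rw [← hka, ← hkb, ← hq, P.k_pow hbX, nsmul_eq_mul]
      simp only [det, Prod.fst_mul, Prod.snd_mul, Prod.fst_natCast, Prod.snd_natCast]
      ring
    exact (sup_le (Subgroup.zpowers_le.2 haX) (Subgroup.zpowers_le.2 hbX))
      (mem_of_rank hS hrank (hRS (hXR haX)) (hRS (hXR hbX)) (hRS hz) (hXe a haX) (hXe b hbX) hzp hb1 hab
        (hcentralX a (hXR haX) b hbX) (hcentralX z hz a haX).symm (hcentralX z hz b hbX).symm)
  -- an involution inverting `X`
  obtain ⟨α, hαv, hαw⟩ := hdiag (-1) (-1) (by ring)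
  set q := (orderOf α).factorization p
  set β := α ^ p ^ q with hβdef
  have hβo : (orderOf β).Coprime p := by
    rw [hβdef, orderOf_pow_of_dvd (pow_ne_zero _ hp.out.ne_zero) (Nat.ordProj_dvd _ _)]
    exact (Nat.coprime_ordCompl hp.out (orderOf_pos α).ne').symm
  have hβneg : ∀ t, P.M β t = -t := fun t => by
    conv_lhs => rw [decomp hd t]
    rw [map_add, P.M_smul, P.M_smul, P.M_pow_eigen α hαv, P.M_pow_eigen α hαw, ZMod.pow_card_pow]
    conv_rhs => rw [decomp hd t]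
    rw [neg_add, neg_one_smul, neg_one_smul, smul_neg, smul_neg]
  have hβ2 : β * β = 1 := by
    obtain ⟨e, he⟩ := P.pow_eq_one_of_fix (β * β) fun t => by rw [P.M_mul, hβneg, hβneg, neg_neg]
    rw [← orderOf_eq_one_iff]
    refine Nat.eq_one_of_dvd_coprimes (Nat.Coprime.pow_right e hβo) ?_ (orderOf_dvd_of_pow_eq_one he)
    rw [← sq]
    exact orderOf_pow_dvd 2
  set φ : R → R := fun r => (β : MulAut R) r
  have hinvol : Function.Involutive φ := fun r => by
    show (β : MulAut R) ((β : MulAut R) r) = r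
    rw [← MulAut.mul_apply, ← Subgroup.coe_mul, hβ2]; rfl
  have hfpf : MonoidHom.FixedPointFree (β : MulAut R).toMonoidHom := by
    intro r hr
    by_contra hr1
    obtain ⟨e, he⟩ := IsPGroup.iff_orderOf.1 hRp r
    obtain ⟨e', rfl⟩ : ∃ e', e = e' + 1 := Nat.exists_eq_succ_of_ne_zero fun h0 => hr1 (by
      rw [h0, pow_zero, orderOf_eq_one_iff] at he; exact he)
    set r1 := r ^ p ^ e'
    have hr1p : r1 ^ p = 1 := by rw [← pow_mul, ← pow_succ, ← he, pow_orderOf_eq_one]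
    have hr1X : (r1 : Ω) ∈ X := hordp r1 r1.2 (by rw [← SubmonoidClass.coe_pow, hr1p]; rfl)
    have hfix : (β : MulAut R) r1 = r1 := by rw [map_pow]; exact congrArg (· ^ p ^ e') hr
    have hinv' : (r1 : Ω) = (r1 : Ω)⁻¹ := by
      refine heq _ hr1X _ (X.inv_mem hr1X) ?_
      have h5' := P.M_k β (x := r1) hr1X
      rw [hfix, hβneg] at h5'
      exact h5'.trans (P.k_inv hr1X).symm
    have h2 : r1 ^ 2 = 1 := Subtype.ext (by
      rw [SubmonoidClass.coe_pow, sq, OneMemClass.coe_one]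
      nth_rw 2 [hinv']
      exact mul_inv_cancel _)
    have h3 : orderOf r1 ∣ 1 := by
      have hg : Nat.gcd 2 p = 1 := (Nat.coprime_primes Nat.prime_two hp.out).2 (by omega)
      rw [← hg]
      exact Nat.dvd_gcd (orderOf_dvd_of_pow_eq_one h2) (orderOf_dvd_of_pow_eq_one hr1p)
    rw [Nat.dvd_one, orderOf_eq_one_iff] at h3
    have h4 := orderOf_dvd_of_pow_eq_one h3
    rw [he, Nat.pow_dvd_pow_iff_le_right hp.out.one_lt] at h4
    omega
  letI : CommGroup R := { (inferInstance : Group R) with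
    mul_comm := fun r r' => hfpf.commute_all_of_involutive hinvol r r' }
  have hRe : ∀ r : R, r ^ p = 1 := by
    by_contra hnot
    push Not at hnot
    obtain ⟨r, hr⟩ := hnot
    obtain ⟨e, he⟩ := IsPGroup.iff_orderOf.1 hRp r
    obtain ⟨e', rfl⟩ : ∃ e', e = e' + 2 := ⟨e - 2, by
      rcases e with _ | _ | e
      · exact absurd (by rw [orderOf_eq_one_iff.1 (by simpa using he : orderOf r = 1), one_pow]) hr
      · exact absurd (by rw [show p = orderOf r by simpa using he.symm, pow_orderOf_eq_one]) hr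
      · omega⟩
    set r1 := r ^ p ^ e'
    have hr12 : r1 ^ p ^ 2 = 1 := by rw [← pow_mul, ← pow_add, ← he, pow_orderOf_eq_one]
    have hr11 : r1 ^ p ≠ 1 := fun h => by
      rw [← pow_mul, ← pow_succ] at h
      have h2 := orderOf_dvd_of_pow_eq_one h
      rw [he, Nat.pow_dvd_pow_iff_le_right hp.out.one_lt] at h2
      omega
    have hup : (u : MulAut R) ^ p = 1 := by
      obtain ⟨r', hr'⟩ := hK (u ^ p) (P.unip_pow_prime (hT u huT))
      rw [← Subgroup.coe_pow, ← hr']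
      ext z
      rw [MulAut.conj_apply, mul_comm r' z, mul_inv_cancel_right]
      rfl
    have hX1 : ∀ z : R, z ^ p = 1 → (z : Ω) ∈ X := fun z hz =>
      hordp z z.2 (by rw [← SubmonoidClass.coe_pow, hz]; rfl)
    have hdiff : ∀ z : R, z ^ p = 1 → ∃ c : ZMod p, k ((((u : MulAut R) z / z : R)) : Ω) = c • v := fun z hz => by
      have hz' := hX1 z hz
      obtain ⟨c, hc⟩ := (hT u huT).2 (k z)
      refine ⟨c, ?_⟩
      rw [div_eq_mul_inv, Subgroup.coe_mul, Subgroup.coe_inv]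
      show P.k _ = _
      rw [P.kmul _ (P.hXinv _ u.2 z hz') _ (P.X.inv_mem hz'), P.k_inv hz', P.M_k u hz']
      show P.M u (k z) + -k z = _
      rw [hc, add_neg_eq_iff_eq_add, add_comm]
    have hu' := apply_pow_eq (p := p) h5 (u : MulAut R) hup
      (fun z hz => by
        obtain ⟨c, hc⟩ := hdiff z hz
        set d := (u : MulAut R) z / z
        have hdX : (d : Ω) ∈ X := hX1 d (by rw [div_pow, ← map_pow, hz, map_one, div_one])
        refine Subtype.ext (heq _ (P.hXinv _ u.2 d hdX) _ hdX ?_)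
        show P.k _ = P.k _
        rw [P.M_k u hdX]
        show P.M u (k d) = k d
        rw [hc, P.M_smul, (hT u huT).1])
      (fun z hz => by rw [div_pow, ← map_pow, hz, map_one, div_one]) hr12
    have hpX : ((r1 ^ p : R) : Ω) ∈ X := hX1 _ (by rw [← pow_mul, ← sq]; exact hr12)
    have hk0 : k ((r1 ^ p : R) : Ω) ≠ 0 := fun h => hr11 (Subtype.ext (hinj _ hpX h))
    have hline : det v (k ((r1 ^ p : R) : Ω)) = 0 := by
      by_contra hne'
      refine hu1 (P.fix_of_two u hne' (hT u huT).1 ?_)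
      show P.M u (P.k ((r1 ^ p : R) : Ω)) = P.k ((r1 ^ p : R) : Ω)
      rw [← P.M_k u hpX, hu']
    obtain ⟨γ, hγ⟩ := hnl v hv
    set r2 := (γ : MulAut R) r1
    have hu2 := apply_pow_eq (p := p) h5 (u : MulAut R) hup
      (fun z hz => by
        obtain ⟨c, hc⟩ := hdiff z hz
        set d := (u : MulAut R) z / z
        have hdX : (d : Ω) ∈ X := hX1 d (by rw [div_pow, ← map_pow, hz, map_one, div_one])
        refine Subtype.ext (heq _ (P.hXinv _ u.2 d hdX) _ hdX ?_)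
        show P.k _ = P.k _
        rw [P.M_k u hdX]
        show P.M u (k d) = k d
        rw [hc, P.M_smul, (hT u huT).1])
      (fun z hz => by rw [div_pow, ← map_pow, hz, map_one, div_one])
      (r := r2) (by rw [← map_pow, hr12, map_one])
    have hpX2 : ((r2 ^ p : R) : Ω) ∈ X := hX1 _ (by rw [← pow_mul, ← sq, ← map_pow, hr12, map_one])
    have hline2 : det v (k ((r2 ^ p : R) : Ω)) = 0 := by
      by_contra hne'
      refine hu1 (P.fix_of_two u hne' (hT u huT).1 ?_)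
      show P.M u (P.k ((r2 ^ p : R) : Ω)) = P.k ((r2 ^ p : R) : Ω)
      rw [← P.M_k u hpX2, hu2]
    obtain ⟨c, hc⟩ := exists_smul_of_det hv hline
    have hc0 : c ≠ 0 := fun h => hk0 (by rw [hc, h, zero_smul])
    refine hγ ((mul_eq_zero.1 ?_).resolve_left hc0)
    rw [← det_smul, ← P.M_smul, ← hc]
    show det v (P.M γ (P.k ((r1 ^ p : R) : Ω))) = 0
    rw [← P.M_k γ hpX, map_pow]
    exact hline2
  have hXeqR : X = R := le_antisymm hXR fun z hz =>
    hordp z hz (congrArg Subtype.val (hRe ⟨z, hz⟩))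
  exact false_of_elementary h5 hS hF hrank hnotE hE.1 hn hne P hXeqR (fun z hz => hinj z (hXeqR.ge hz))
    (fun z hz => hXe z (hXeqR.ge hz)) hK hnl

/-- Rank two groups other than the extraspecial group of exponent `p` are resistant for `p ≥ 5`. -/
theorem isNormal_of_rank_two (h5 : 5 ≤ p) (hS : IsPGroup p S) (hF : F.IsSaturated p)
    (hrank : ∀ E : Subgroup Ω, E ≤ S → Cfsg.IsElementaryAbelian p E → Nat.card E ≤ p ^ 2)
    (hnotE : ¬ (Nat.card S = p ^ 3 ∧ Monoid.exponent S = p)) : F.IsNormal S := by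
  refine isNormal_of_essential hS hF fun Q hQ => ?_
  rcases hQ with rfl | hQ
  · exact ⟨le_rfl, fun α _ x _ => (α x).2⟩
  · exact (false_of_essential h5 hS hF hrank hnotE hQ).elim

end Cfsg.Agent.Lib.LocalP2.RankTwo
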