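import Cfsg.Agent.Lib.LocalChar.Subnormal
import Cfsg.Agent.Lib.LocalP2.CoatomFixed

/-! Minimal normal subgroups normalise subnormal subgroups, and Sylow subgroups of joins of
subnormal subgroups (Wielandt). -/

set_option autoImplicit false

namespace Cfsg.Agent.Lib.LocalP2

open Cfsg Cfsg.Agent.Lib.LocalChar
open scoped commutatorElement

universe u

/-- A minimal normal subgroup normalises every subnormal subgroup. -/
theorem minimal_normal_le_nz_of_subnormal : ∀ (n : ℕ) (G : Type u) [Group G] [Finite G],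
    Nat.card G = n → ∀ N A : Subgroup G, N.Normal →
      (∀ M : Subgroup G, M.Normal → M ≤ N → M = ⊥ ∨ M = N) → A.IsSubnormal →
      N ≤ Subgroup.normalizer (A : Set G) := by
  intro n
  induction n using Nat.strong_induction_on with
  | _ n ih => ?_
  intro G _ _ hn N A hN hmin hA
  rcases hA.lt_normal with rfl | ⟨K, hK, hAK, hKtop⟩
  · rw [Subgroup.normalizer_eq_top]; exact le_top
  rcases hmin (N ⊓ K) inferInstance inf_le_left with h | h
  · refine le_trans (fun x hx => Subgroup.mem_centralizer_iff.2 fun a ha => ?_)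
      (Subgroup.centralizer_le_normalizer _)
    have hc : ⁅N, K⁆ = ⊥ := le_bot_iff.1
      ((le_inf (Subgroup.commutator_le_left N K) (Subgroup.commutator_le_right N K)).trans h.le)
    exact (Subgroup.mem_centralizer_iff.1 (Subgroup.commutator_eq_bot_iff_le_centralizer.1 hc hx) a (hAK ha))
  have hNK : N ≤ K := h ▸ inf_le_right
  by_cases hNb : N = ⊥
  · rw [hNb]; exact bot_le
  obtain ⟨M, ⟨hMN, hMne, hMn⟩, hMmin⟩ := (Set.toFinite {X : Subgroup G |
    X ≤ N ∧ X ≠ ⊥ ∧ K ≤ Subgroup.normalizer (X : Set G)}).exists_minimal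
    ⟨N, le_rfl, hNb, by rw [Subgroup.normalizer_eq_top]; exact le_top⟩
  have hcl : ∀ g : G, cj g M ≤ Subgroup.normalizer (A : Set G) := by
    intro g
    have hgN : cj g M ≤ N := cj_le_iff.2 fun m hm => hN.conj_mem m (hMN hm) g
    have hgn : ∀ X : Subgroup G, ∀ g : G, K ≤ Subgroup.normalizer (X : Set G) →
        K ≤ Subgroup.normalizer (cj g X : Set G) := fun X g hX => le_nz_of_cj fun k hk => by
      have hk' : g⁻¹ * k * g ∈ K := by simpa using hK.conj_mem k hk g⁻¹
      rw [cj_cj, show k * g = g * (g⁻¹ * k * g) by group, ← cj_cj, cj_eq_of_mem_nz (hX hk')]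
    have hlt : Nat.card K < n := hn ▸ (by
      by_contra hle
      exact hKtop.ne (Subgroup.eq_top_of_card_eq K
        (le_antisymm (Subgroup.card_le_card_group K) (not_lt.1 hle))))
    have hnat := normal_subgroupOf (hgn M g hMn)
    have := ih _ hlt K rfl ((cj g M).subgroupOf K) (A.subgroupOf K) hnat ?_ hA.subgroupOf
    · intro x hx
      have h1 := this (show (⟨x, hNK (hgN hx)⟩ : K) ∈ (cj g M).subgroupOf K from hx)
      refine mem_nz_of_cj_le (cj_le_iff.2 fun a ha => ?_)
      have h2 := conj_mem_of_nz h1 (show (⟨a, hAK ha⟩ : K) ∈ A.subgroupOf K from ha)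
      exact h2
    intro X hX hle
    by_cases hXb : X = ⊥
    · exact Or.inl hXb
    refine Or.inr (le_antisymm hle fun x hx => ?_)
    have hX' : X.map K.subtype ≤ cj g M := by
      rintro _ ⟨y, hy, rfl⟩; exact hle hy
    have hXK : K ≤ Subgroup.normalizer (X.map K.subtype : Set G) := by
      refine le_nz_of_cj fun k hk => cj_eq_of_mem_nz (mem_nz_of_cj_le (cj_le_iff.2 ?_))
      rintro _ ⟨y, hy, rfl⟩
      exact ⟨_, hX.conj_mem y hy ⟨k, hk⟩, rfl⟩
    have hmem : cj g⁻¹ (X.map K.subtype) ≤ M := by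
      have h2 := cj_mono (g := g⁻¹) hX'
      rwa [cj_cj, inv_mul_cancel, cj_eq_of_mem_nz (Subgroup.one_mem _)] at h2
    have hne : cj g⁻¹ (X.map K.subtype) ≠ ⊥ := fun e => hXb (by
      rwa [Subgroup.map_eq_bot_iff_of_injective _ (MulEquiv.injective _),
        Subgroup.map_eq_bot_iff_of_injective _ K.subtype_injective] at e)
    have h3 := cj_mono (g := g) (hMmin ⟨hmem.trans hMN, hne, hgn _ _ hXK⟩ hmem)
    rw [cj_cj, mul_inv_cancel, cj_eq_of_mem_nz (g := (1 : G)) (Subgroup.one_mem _)] at h3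
    obtain ⟨y, hy, hye⟩ := h3 hx
    rwa [← K.subtype_injective hye]
  have hsup : (⨆ g : G, cj g M) = N := by
    have hle : (⨆ g : G, cj g M) ≤ N :=
      iSup_le fun g => cj_le_iff.2 fun m hm => hN.conj_mem m (hMN hm) g
    refine (hmin _ ⟨fun x hx g => ?_⟩ hle).resolve_left fun e => hMne ?_
    · have h1 : cj g (⨆ h : G, cj h M) ≤ ⨆ h : G, cj h M := by
        unfold cj
        rw [Subgroup.map_iSup]
        exact iSup_le fun h => (cj_cj g h M).le.trans (le_iSup (fun h : G => cj h M) (g * h))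
      exact h1 (conj_mem_cj hx)
    · rw [eq_bot_iff, ← e]
      exact (cj_eq_of_mem_nz (g := (1 : G)) (Subgroup.one_mem _)).ge.trans
        (le_iSup (fun h : G => cj h M) 1)
  rw [← hsup]
  exact iSup_le hcl

/-- Sylow subgroups of a join of two subnormal subgroups. -/
theorem sylow_join_subnormal : ∀ (n : ℕ) (G : Type u) [Group G] [Finite G], Nat.card G = n →
    ∀ (p : ℕ) [Fact p.Prime] (S : Sylow p G) (A B : Subgroup G), A.IsSubnormal → B.IsSubnormal →
      IsSylowIn p ((A ⊓ (S : Subgroup G)) ⊔ (B ⊓ (S : Subgroup G))) (A ⊔ B) := by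
  intro n
  induction n using Nat.strong_induction_on with
  | _ n ih => ?_
  intro G _ _ hn
  -- the statement for joins inside a proper subgroup
  have sub : ∀ (J : Subgroup G), J ≠ ⊤ → ∀ (p : ℕ) [Fact p.Prime] (S : Sylow p G) (A B : Subgroup G),
      A ≤ J → B ≤ J → (A.subgroupOf J).IsSubnormal → (B.subgroupOf J).IsSubnormal →
      IsSylowIn p (A ⊓ (S : Subgroup G)) A → IsSylowIn p (B ⊓ (S : Subgroup G)) B →
      IsSylowIn p ((A ⊓ (S : Subgroup G)) ⊔ (B ⊓ (S : Subgroup G))) (A ⊔ B) := by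
    intro J hJ p _ S A B hAJ hBJ hA hB hSA hSB
    have hlt : Nat.card J < n := hn ▸ (by
      by_contra hle
      exact hJ (Subgroup.eq_top_of_card_eq J
        (le_antisymm (Subgroup.card_le_card_group J) (not_lt.1 hle))))
    have hle : (A ⊓ (S : Subgroup G)) ⊔ (B ⊓ (S : Subgroup G)) ≤ (S : Subgroup G) ⊓ J :=
      sup_le (le_inf inf_le_right (inf_le_left.trans hAJ)) (le_inf inf_le_right (inf_le_left.trans hBJ))
    have hTp := S.isPGroup'.to_le (hle.trans inf_le_left)
    obtain ⟨R, hR, hTR⟩ := exists_isSylowIn_ge hTp (hle.trans inf_le_right)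
    have key := ih _ hlt J rfl p hR.sylow (A.subgroupOf J) (B.subgroupOf J) hA hB
    rw [hR.sylow_coe, ← Subgroup.subgroupOf_sup hAJ hBJ] at key
    have hinf : ∀ X : Subgroup G, IsSylowIn p (X ⊓ (S : Subgroup G)) X → X ⊓ (S : Subgroup G) ≤ R →
        (X.subgroupOf J ⊓ R.subgroupOf J) = (X ⊓ (S : Subgroup G)).subgroupOf J := by
      intro X hX hXR
      have := hX.eq_of_le (hR.2.1.to_le (inf_le_right (a := X))) inf_le_left (le_inf inf_le_left hXR)
      simp only [Subgroup.subgroupOf, ← Subgroup.comap_inf, this]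
    rw [hinf A hSA (le_sup_left.trans hTR), hinf B hSB (le_sup_right.trans hTR),
      ← Subgroup.subgroupOf_sup (inf_le_left.trans hAJ) (inf_le_left.trans hBJ)] at key
    refine ⟨sup_le_sup inf_le_left inf_le_left, hTp, fun hd => key.2.2 ?_⟩
    rwa [Subgroup.relIndex_subgroupOf (sup_le hAJ hBJ)]
  intro p hp S A B hA hB
  have hSA : ∀ {q : ℕ} [Fact q.Prime] (Q : Sylow q G) {X : Subgroup G}, X.IsSubnormal →
      IsSylowIn q (X ⊓ (Q : Subgroup G)) X := fun {q} _ Q {X} hX => by
    rw [inf_comm]; exact IsSylowIn.inf_subnormal Q hX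
  by_cases hJ : A ⊔ B = ⊤
  swap
  · exact sub _ hJ p S A B le_sup_left le_sup_right hA.subgroupOf hB.subgroupOf (hSA S hA) (hSA S hB)
  set T := (A ⊓ (S : Subgroup G)) ⊔ (B ⊓ (S : Subgroup G))
  suffices hST : (S : Subgroup G) ≤ T by
    have : T = S := le_antisymm (sup_le inf_le_right inf_le_right) hST
    rw [this, hJ]; exact IsSylowIn.of_le S le_top
  by_cases htriv : (⊤ : Subgroup G) = ⊥
  · exact le_trans le_top (htriv.le.trans bot_le)
  obtain ⟨N, ⟨hNn, hNne⟩, hNmin⟩ := (Set.toFinite {X : Subgroup G | X.Normal ∧ X ≠ ⊥}).exists_minimal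
    ⟨⊤, inferInstance, htriv⟩
  have hmin : ∀ M : Subgroup G, M.Normal → M ≤ N → M = ⊥ ∨ M = N := fun M hM hle =>
    or_iff_not_imp_left.2 fun hne => le_antisymm hle (hNmin ⟨hM, hne⟩ hle)
  have hNA : N ≤ Subgroup.normalizer (A : Set G) :=
    minimal_normal_le_nz_of_subnormal _ G rfl N A hNn hmin hA
  have hNB : N ≤ Subgroup.normalizer (B : Set G) :=
    minimal_normal_le_nz_of_subnormal _ G rfl N B hNn hmin hB
  by_cases hNtop : N = ⊤
  · subst hNtop
    rcases hmin A (Subgroup.normalizer_eq_top_iff.1 (top_le_iff.1 hNA)) le_top with h | h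
    · have hB' : B = ⊤ := by rwa [h, bot_sup_eq] at hJ
      exact le_trans (le_inf (hB'.symm ▸ le_top) le_rfl) le_sup_right
    · exact le_trans (le_inf (h.symm ▸ le_top) le_rfl) le_sup_left
  -- the quotient by `N`
  have quot : ∀ (q : ℕ) [Fact q.Prime] (Q : Sylow q G),
      (Q : Subgroup G) ≤ (A ⊓ (Q : Subgroup G)) ⊔ (B ⊓ (Q : Subgroup G)) ⊔ N := by
    intro q _ Q
    have hlt : Nat.card (G ⧸ N) < n := by
      rw [← hn, ← Subgroup.index_eq_card, ← Subgroup.card_mul_index N]
      exact lt_mul_of_one_lt_left (Nat.pos_of_ne_zero Subgroup.index_ne_zero_of_finite)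
        (Subgroup.one_lt_card_iff_ne_bot N |>.2 hNne)
    set f := QuotientGroup.mk' N
    have hf : Function.Surjective f := QuotientGroup.mk'_surjective N
    set Q' := Q.mapSurjective hf
    have key := ih _ hlt (G ⧸ N) rfl q Q' (A.map f) (B.map f) (hA.map hf) (hB.map hf)
    have hcoe : (Q' : Subgroup (G ⧸ N)) = (Q : Subgroup G).map f := rfl
    have hX : ∀ X : Subgroup G, X.IsSubnormal →
        X.map f ⊓ (Q' : Subgroup (G ⧸ N)) = (X ⊓ (Q : Subgroup G)).map f := by
      intro X hX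
      have h1 := hSA Q hX
      have h2 : IsSylowIn q ((X ⊓ (Q : Subgroup G)).map f) (X.map f) := by
        refine ⟨Subgroup.map_mono inf_le_left, (h1.2.1).map f, fun hd => h1.2.2 (hd.trans ?_)⟩
        rw [← Subgroup.relIndex_comap]
        exact Subgroup.relIndex_dvd_of_le_left X (Subgroup.le_comap_map _ _)
      exact (h2.eq_of_le (Q'.isPGroup'.to_le inf_le_right) inf_le_left
        (le_inf (Subgroup.map_mono inf_le_left) (hcoe ▸ Subgroup.map_mono inf_le_right)))
    rw [hX A hA, hX B hB, ← Subgroup.map_sup, ← Subgroup.map_sup, hJ] at key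
    have hle := key.eq_of_le Q'.isPGroup'
      (by rw [Subgroup.map_top_of_surjective f hf]; exact le_top)
      (Subgroup.map_mono (sup_le inf_le_right inf_le_right))
    have h3 := (Subgroup.map_le_map_iff (f := f)).1 (hcoe.ge.trans hle.le)
    rwa [QuotientGroup.ker_mk'] at h3
  have hSN : ∀ s ∈ (S : Subgroup G), ∃ t ∈ T, ∃ m ∈ N, m ∈ (S : Subgroup G) ∧ s = t * m := by
    intro s hs
    obtain ⟨t, ht, m, hm, rfl⟩ := (mem_sup_iff_of_nz (A := T) (B := N)
      (by rw [Subgroup.normalizer_eq_top]; exact le_top)).1 (quot p S hs)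
    refine ⟨t, ht, m, hm, ?_, rfl⟩
    have := (S : Subgroup G).mul_mem ((S : Subgroup G).inv_mem
      ((sup_le inf_le_right inf_le_right : T ≤ (S : Subgroup G)) ht)) hs
    rwa [inv_mul_cancel_left] at this
  suffices hkey : N ⊓ (S : Subgroup G) ≤ T by
    intro s hs
    obtain ⟨t, ht, m, hm, hmS, rfl⟩ := hSN s hs
    exact T.mul_mem ht (hkey ⟨hm, hmS⟩)
  set M := (N ⊓ A) ⊔ (N ⊓ B) with hM
  have hMn : M.Normal := by
    refine Subgroup.normalizer_eq_top_iff.1 (top_le_iff.1 (hJ ▸ ?_))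
    have haux : ∀ X Y : Subgroup G, N ≤ Subgroup.normalizer (X : Set G) →
        X ≤ Subgroup.normalizer (((N ⊓ X) ⊔ (N ⊓ Y) : Subgroup G) : Set G) := by
      intro X Y hNX x hx
      refine mem_nz_of_cj_le ?_
      unfold cj
      rw [Subgroup.map_sup]
      refine sup_le ((show cj x (N ⊓ X) ≤ N ⊓ X from cj_le_iff.2 fun y hy =>
        ⟨hNn.conj_mem y hy.1 x, X.mul_mem (X.mul_mem hx hy.2) (X.inv_mem hx)⟩).trans le_sup_left) ?_
      refine show cj x (N ⊓ Y) ≤ (N ⊓ X) ⊔ (N ⊓ Y) from cj_le_iff.2 fun y hy => ?_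
      rw [show x * y * x⁻¹ = (x * y * x⁻¹ * y⁻¹) * y by group]
      refine Subgroup.mul_mem_sup ⟨N.mul_mem (hNn.conj_mem y hy.1 x) (N.inv_mem hy.1), ?_⟩ hy
      have := X.mul_mem hx (conj_mem_of_nz (hNX hy.1) (X.inv_mem hx))
      simpa [mul_assoc] using this
    exact sup_le (haux A B hNA) (by rw [hM, sup_comm]; exact haux B A hNB)
  have hMle : M ≤ N := sup_le inf_le_left inf_le_left
  rcases hmin M hMn hMle with hbot | htop
  swap
  · -- apply induction inside `N`
    have hXS : ∀ X : Subgroup G, X.IsSubnormal →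
        IsSylowIn p ((N ⊓ X) ⊓ (S : Subgroup G)) (N ⊓ X) ∧ ((N ⊓ X).subgroupOf N).IsSubnormal :=
      fun X hX => ⟨hSA S (hNn.isSubnormal.inf hX), (hNn.isSubnormal.inf hX).subgroupOf⟩
    have key := sub N hNtop p S (N ⊓ A) (N ⊓ B) inf_le_left inf_le_left
      (hXS A hA).2 (hXS B hB).2 (hXS A hA).1 (hXS B hB).1
    rw [← hM, htop] at key
    rw [key.eq_of_le (S.isPGroup'.to_le (inf_le_right (a := N))) inf_le_left
      (sup_le (inf_le_inf_right _ inf_le_left) (inf_le_inf_right _ inf_le_left))]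
    exact sup_le_sup (inf_le_inf_right _ inf_le_right) (inf_le_inf_right _ inf_le_right)
  -- `N` is central of prime order
  have hcent : ∀ m ∈ N, ∀ g : G, Commute m g := by
    have hX : ∀ X : Subgroup G, N ⊓ X = ⊥ → N ≤ Subgroup.normalizer (X : Set G) →
        X ≤ Subgroup.centralizer (N : Set G) := by
      intro X hb hNX x hx
      refine Subgroup.mem_centralizer_iff.2 fun m hm => ?_
      have h1 : x * m * x⁻¹ * m⁻¹ ∈ N ⊓ X := ⟨N.mul_mem (hNn.conj_mem m hm x) (N.inv_mem hm), by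
        have := X.mul_mem hx (conj_mem_of_nz (hNX hm) (X.inv_mem hx))
        simpa [mul_assoc] using this⟩
      rw [hb, Subgroup.mem_bot, mul_inv_eq_one, mul_inv_eq_iff_eq_mul] at h1
      exact h1.symm
    intro m hm g
    have := sup_le (hX A (le_bot_iff.1 (le_sup_left.trans hbot.le)) hNA)
      (hX B (le_bot_iff.1 (le_sup_right.trans hbot.le)) hNB) (hJ.ge (Subgroup.mem_top g))
    exact Subgroup.mem_centralizer_iff.1 this m hm
  obtain ⟨z, hz, hz1⟩ := (Subgroup.bot_or_exists_ne_one N).resolve_left hNne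
  by_contra hnot
  -- hence `N` has order `p`
  have hzS : ∃ z ∈ N, z ∈ (S : Subgroup G) ∧ z ≠ 1 ∧ z ∉ T := by
    obtain ⟨y, hy, hyT⟩ := SetLike.not_le_iff_exists.1 hnot
    exact ⟨y, hy.1, hy.2, fun e => hyT (e ▸ T.one_mem), hyT⟩
  obtain ⟨z, hzN, hzS, hz1, hzT⟩ := hzS
  have hsub : ∀ X : Subgroup G, X ≤ N → X = ⊥ ∨ X = N := fun X hX =>
    hmin X ⟨fun x hx g => by rwa [← (hcent x (hX hx) g).eq, mul_inv_cancel_right]⟩ hX
  have hNz : N = Subgroup.zpowers z :=
    ((hsub _ (Subgroup.zpowers_le.2 hzN)).resolve_left (by rwa [Subgroup.zpowers_eq_bot])).symm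
  have hNS : N ≤ (S : Subgroup G) := hNz ▸ Subgroup.zpowers_le.2 hzS
  have hTN : T ⊓ N = ⊥ :=
    (hsub _ inf_le_right).resolve_right fun e => hzT (e.ge hzN).1
  -- a homomorphism `G → N` not killing `z`
  have hdec : ∀ s : (S : Subgroup G), ∃ m : N, (s : G) * (m : G)⁻¹ ∈ T := by
    intro s
    obtain ⟨t, ht, m, hm, -, he⟩ := hSN s s.2
    exact ⟨⟨m, hm⟩, by simpa [he] using ht⟩
  have huniq : ∀ (s : G) (m m' : N), s * (m : G)⁻¹ ∈ T → s * (m' : G)⁻¹ ∈ T → m = m' := by
    intro s m m' h1 h2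
    have : (m : G) * (m' : G)⁻¹ ∈ T ⊓ N := ⟨by
      have := T.mul_mem (T.inv_mem h1) h2
      simpa [mul_assoc] using this, N.mul_mem m.2 (N.inv_mem m'.2)⟩
    rw [hTN, Subgroup.mem_bot, mul_inv_eq_one] at this
    exact Subtype.ext this
  choose φ hφ using hdec
  letI : CommGroup N :=
    { N.toGroup with mul_comm := fun a b => Subtype.ext (hcent a a.2 b).eq }
  let ψ : (S : Subgroup G) →* N :=
    { toFun := φ
      map_one' := huniq 1 _ _ (by simpa using hφ 1) (by simp [T.one_mem])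
      map_mul' := fun a b => huniq ((a : G) * b) _ _ (hφ (a * b)) (by
        have h := T.mul_mem (hφ a) (hφ b)
        convert h using 1
        show (a : G) * b * ((φ a : G) * (φ b : G))⁻¹ = _
        rw [mul_inv_rev, mul_assoc, mul_assoc]
        congr 1
        rw [← mul_assoc, ← mul_assoc]
        rw [mul_assoc ((φ a : G))⁻¹]
        exact ((hcent _ (N.inv_mem (φ a).2) ((b : G) * (φ b : G)⁻¹)).eq).symm) }
  set V := MonoidHom.transfer ψ
  have hVz : V z ≠ 1 := by
    rw [MonoidHom.transfer_eq_pow ψ z fun k g _ => by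
      rw [mul_assoc, ((hcent z hzN g).pow_left k).eq, inv_mul_cancel_left]]
    intro h
    have h1 : φ ⟨z ^ (S : Subgroup G).index, (S : Subgroup G).pow_mem hzS _⟩ =
        ⟨z ^ (S : Subgroup G).index, N.pow_mem hzN _⟩ :=
      huniq _ _ _ (hφ _) (by simp [T.one_mem])
    change φ _ = _ at h
    rw [h1] at h
    exact hz1 (eq_one_of_pow_coprime (p := p) (coprime_of_not_dvd S.not_dvd_index)
      (exists_pow_eq_one S.isPGroup' hzS) (congrArg Subtype.val h))
  set D := resOf p A ⊔ resOf p B with hD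
  have hDN : ∀ x : G, (orderOf x).Coprime p → x ∈ D ⊔ N := by
    intro x hx
    rw [← Subgroup.zpowers_le, ← Subgroup.relIndex_eq_one, Nat.eq_one_iff_not_exists_prime_dvd]
    intro q hq hqd
    haveI : Fact q.Prime := ⟨hq⟩
    obtain ⟨R, hR⟩ := exists_isSylowIn (p := q) (Subgroup.zpowers x)
    obtain ⟨Q, hRQ⟩ := hR.2.1.exists_le_sylow
    have hqp : q.Coprime p := Nat.Coprime.coprime_dvd_left (hqd.trans
      ((Subgroup.relIndex_dvd_card (H := D ⊔ N) (K := Subgroup.zpowers x)).trans (Nat.card_zpowers x).dvd)) hx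
    have hmem : ∀ X : Subgroup G, X ⊓ (Q : Subgroup G) ≤ resOf p X := fun X y hy => by
      obtain ⟨k, hk⟩ := IsPGroup.iff_orderOf.1 Q.isPGroup' ⟨y, hy.2⟩
      rw [Subgroup.orderOf_mk] at hk
      exact mem_resOf hy.1 (by rw [hk]; exact hqp.pow_left k)
    have hle : R ≤ (D ⊔ N) ⊓ Subgroup.zpowers x :=
      le_inf (hRQ.trans ((quot q Q).trans (sup_le_sup_right
        (sup_le_sup (hmem A) (hmem B)) N))) hR.1
    exact hR.2.2 (hqd.trans (Subgroup.inf_relIndex_right (D ⊔ N) _ ▸
      Subgroup.relIndex_dvd_of_le_left _ hle))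
  have hDp : ∀ x : G, (orderOf x).Coprime p → x ∈ D := by
    intro x hx
    refine mem_of_coprime_of_pow hx ⟨1, ?_⟩
    obtain ⟨d, hd, m, hm, rfl⟩ := (mem_sup_iff_of_nz (A := D) (B := N)
      (by rw [Subgroup.normalizer_eq_top]; exact le_top)).1 (hDN x hx)
    obtain ⟨i, rfl⟩ := hNz.le hm
    have hzp : z ^ p = 1 := by
      have hzp' : Nat.card N = p := by
        obtain ⟨k, hk⟩ := IsPGroup.iff_orderOf.1 S.isPGroup' ⟨z, hzS⟩
        rw [Subgroup.orderOf_mk] at hk
        rcases Nat.eq_zero_or_pos k with rfl | hk0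
        · exact absurd (orderOf_eq_one_iff.1 (by simpa using hk)) hz1
        · have h1 := hsub (Subgroup.zpowers (z ^ p ^ (k - 1))) (Subgroup.zpowers_le.2 (N.pow_mem hzN _))
          have ho : orderOf (z ^ p ^ (k - 1)) = p := by
            rw [orderOf_pow' z (pow_ne_zero _ hp.out.ne_zero), hk,
              Nat.gcd_eq_right (pow_dvd_pow p (Nat.sub_le k 1)),
              Nat.pow_div (Nat.sub_le k 1) hp.out.pos, show k - (k - 1) = 1 by omega, pow_one]
          rcases h1 with h1 | h1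
          · rw [Subgroup.zpowers_eq_bot] at h1
            rw [h1, orderOf_one] at ho
            exact absurd ho.symm hp.out.ne_one
          · rw [← h1, Nat.card_zpowers, ho]
      rw [← hzp', hNz, Nat.card_zpowers, pow_orderOf_eq_one]
    rw [pow_one, ((hcent _ (N.zpow_mem hzN i) d).symm).mul_pow, ← zpow_natCast (z ^ i), ← zpow_mul,
      mul_comm, zpow_mul, zpow_natCast, hzp, one_zpow, mul_one]
    exact D.pow_mem hd p
  have hDtop : D = resOf p (⊤ : Subgroup G) := le_antisymm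
    (sup_le (resOf_mono le_top) (resOf_mono le_top)) (resOf_le_iff.2 fun x _ hx => hDp x hx)
  have hDn : D.Normal := by
    rw [hDtop]
    exact Subgroup.normalizer_eq_top_iff.1 (top_le_iff.1 (le_nz_resOf _))
  have hDker : D ≤ V.ker := by
    rw [hDtop, resOf_le_iff]
    intro x _ hx
    rw [MonoidHom.mem_ker]
    apply Subtype.ext
    refine eq_one_of_isPGroup_of_coprime S.isPGroup' (hNS (V x).2) ?_
    rw [Subgroup.orderOf_coe]
    exact hx.coprime_dvd_left (orderOf_map_dvd V x)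
  have hDne : D ≠ ⊤ := fun e => hVz (hDker (e.ge (Subgroup.mem_top z)))
  have hres : ∀ X : Subgroup G, X.IsSubnormal → (resOf p X).IsSubnormal := fun X hX =>
    Subgroup.IsSubnormal.trans (resOf_le X) (normal_subgroupOf (le_nz_resOf X)).isSubnormal hX
  have key := sub D hDne p S (resOf p A) (resOf p B) le_sup_left le_sup_right
    (hres A hA).subgroupOf (hres B hB).subgroupOf (hSA S (hres A hA)) (hSA S (hres B hB))
  rw [← hD] at key
  have hSD : D ⊓ (S : Subgroup G) ≤ T := by
    rw [key.eq_of_le (S.isPGroup'.to_le (inf_le_right (a := D))) inf_le_left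
      (sup_le (inf_le_inf_right _ le_sup_left) (inf_le_inf_right _ le_sup_right))]
    exact sup_le_sup (inf_le_inf_right _ (resOf_le A)) (inf_le_inf_right _ (resOf_le B))
  have hTD : A ⊔ B ≤ T ⊔ D := by
    refine sup_le ?_ ?_
    · exact (hSA S hA).resOf_sup.ge.trans
        (sup_le (le_sup_left.trans le_sup_right) (le_sup_left.trans le_sup_left))
    · exact (hSA S hB).resOf_sup.ge.trans
        (sup_le (le_sup_right.trans le_sup_right) (le_sup_right.trans le_sup_left))
  obtain ⟨t, ht, d, hd, he⟩ := (mem_sup_iff_of_nz (A := T) (B := D)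
    (by rw [Subgroup.normalizer_eq_top]; exact le_top)).1 (hTD (hJ.ge (Subgroup.mem_top z)))
  have hdS : d ∈ (S : Subgroup G) := by
    have := (S : Subgroup G).mul_mem ((S : Subgroup G).inv_mem
      ((sup_le inf_le_right inf_le_right : T ≤ (S : Subgroup G)) ht)) (he ▸ hzS)
    rwa [inv_mul_cancel_left] at this
  exact hzT (he ▸ T.mul_mem ht (hSD ⟨hd, hdS⟩))

end Cfsg.Agent.Lib.LocalP2
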