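import Cfsg.Agent.Lib.FusionTransfer.Focal
import Cfsg.Agent.Lib.Fusion.Criteria
import Cfsg.Agent.Lib.Fusion.Chain
import Cfsg.Agent.Lib.LocalP2.FusionInner

/-!
Homomorphisms on `S` fixed by the maps of a saturated system from some order upwards.
-/

set_option autoImplicit false

namespace Cfsg.Agent.Lib.LocalP2.WeakEmbed

open Cfsg Cfsg.FusionSystem Cfsg.Agent.Lib.Fusion Cfsg.Agent.Lib.FusionTransfer
open scoped Pointwise

universe u v

variable {Ω : Type u} [Group Ω] {S : Subgroup Ω} {B : Type v} [CommGroup B] {p : ℕ}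

/-- The maps with source of order `m` fix `f` on the elements of `K`. -/
def FixAt (F : FusionSystem S) (f : S →* B) (K : Subgroup Ω) (m : ℕ) : Prop :=
  ∀ (P : Subgroup Ω) (φ : P →* Ω), φ ∈ F.Hom P → Nat.card P = m → ∀ (x : P) (a b : S),
    (x : Ω) ∈ K → (a : Ω) = x → (b : Ω) = φ x → f b = f a

variable {F : FusionSystem S} {f : S →* B} {K : Subgroup Ω}

theorem fix_conj (f : S →* B) {g : Ω} (hg : g ∈ S) {a b : S} (h : (b : Ω) = g * a * g⁻¹) :
    f b = f a := by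
  have hb : b = (⟨g, hg⟩ : S) * a * (⟨g, hg⟩ : S)⁻¹ := Subtype.ext h
  rw [hb, map_mul, map_mul, map_inv, mul_comm (f ⟨g, hg⟩) (f a), mul_inv_cancel_right]

/-- Fixing at order `m` is decided by the automorphisms of fully normalized subgroups. -/
theorem fixAt_of_aut [Finite S] [Fact p.Prime] (hS : IsPGroup p S) (hF : F.IsSaturated p)
    (hK : F.StronglyClosed K) {m : ℕ} (hup : ∀ k, m < k → FixAt F f K k)
    (h : ∀ E : Subgroup Ω, F.IsFullyNormalized E → Nat.card E = m → ∀ α ∈ F.autGroup E,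
      ∀ (x : E) (a b : S), (x : Ω) ∈ K → (a : Ω) = x → (b : Ω) = (α x : E) → f b = f a) :
    FixAt F f K m := by
  intro P φ hφ hm x a b hxK ha hb
  have hPS := src_le hφ
  have := finite_of_le hPS
  rcases hPS.eq_or_lt with hPeq | hlt
  · subst hPeq
    obtain ⟨α, hα, hαe⟩ := exists_aut_of_self_map hφ (fun y => val_mem hφ y)
    exact h P fullyNormalized_self hm α hα x a b hxK ha (hb.trans (hαe x).symm)
  obtain ⟨E, hconj, hEn⟩ := exists_fullyNormalized (F := F) hPS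
  obtain ⟨e₁, he₁⟩ := isConj_iff_iso.1 hconj
  set e : P ≃* φ.range := toIso φ hφ rfl with he
  have heI : IsIso F e := isIso_toIso φ hφ rfl
  obtain ⟨γ, hγ, ψ, hψ, -, hψe⟩ := exists_extend_fullyNormalized hS hF hEn he₁
  obtain ⟨γ', hγ', ψ', hψ', -, hψ'e⟩ := exists_extend_fullyNormalized hS hF hEn (heI.symm.trans he₁)
  have hlt' : φ.range < S := by
    refine lt_of_le_of_ne (range_le hφ) fun hr => hlt.ne ?_
    refine Fusion.eq_of_le_of_natCard_le hPS ?_
    exact (Nat.card_congr (MonoidHom.ofInjective (F.injective_of_mem hφ)).toEquiv).ge.trans'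
      (by rw [hr])
  have hbig : ∀ R : Subgroup Ω, R < S → Nat.card R = m → m < Nat.card (normalizerIn S R) := by
    intro R hR hc
    have hl : R < normalizerIn S R := lt_normalizer_inf hS hR
    have := finite_of_le (normalizerIn_le S R)
    by_contra hle
    exact hl.ne (Fusion.eq_of_le_of_natCard_le hl.le (hc ▸ not_lt.1 hle))
  have hxN := le_normalizerIn hPS x.2
  have hyN := le_normalizerIn (range_le hφ) (e x).2
  set u : E := γ (e₁ x) with hu
  have h1 : ψ ⟨x, hxN⟩ = u := hψe x hxN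
  have huK : (u : Ω) ∈ K := h1 ▸ map_mem_of_stronglyClosed hK hψ _ hxK
  have h2 : ψ' ⟨φ x, hyN⟩ = ((γ' * γ⁻¹) u : E) := by
    refine (hψ'e (e x) hyN).trans ?_
    rw [hu, MulAut.mul_apply, MulAut.inv_apply_self]
    simp only [MulEquiv.trans_apply, MulEquiv.symm_apply_apply]
  have hvS : (((γ' * γ⁻¹) u : E) : Ω) ∈ S := hEn.1 ((γ' * γ⁻¹) u).2
  have e1 := hup _ (hbig P hlt hm) _ ψ hψ rfl ⟨x, hxN⟩ a ⟨u, hEn.1 u.2⟩ hxK ha h1.symm
  have e2 := hup _ (hbig φ.range hlt' (by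
      rw [← hm]; exact (Nat.card_congr (MonoidHom.ofInjective (F.injective_of_mem hφ)).toEquiv).symm))
    _ ψ' hψ' rfl ⟨φ x, hyN⟩ b ⟨_, hvS⟩ (map_mem_of_stronglyClosed hK hφ x hxK) hb h2.symm
  have e3 := h E hEn ((isConj_card hconj).symm.trans hm) _ (mul_mem hγ' (inv_mem hγ)) u
    ⟨u, hEn.1 u.2⟩ ⟨_, hvS⟩ huK rfl rfl
  rw [← e2, e3, e1]

/-- Frattini argument along a Sylow subgroup of the whole group. -/
theorem frattini_sylow {H : Type*} [Group H] [Finite H] [Fact p.Prime] (C : Subgroup H) [C.Normal]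
    (R : Sylow p H) (h : H) :
    ∃ c ∈ C, ∃ β : H, h = c * β ∧ ∀ x ∈ R, x ∈ C → β * x * β⁻¹ ∈ R := by
  obtain ⟨P⟩ : Nonempty (Sylow p C) := inferInstance
  obtain ⟨Q, hQ⟩ := P.exists_comap_subtype_eq
  obtain ⟨k, hk⟩ := MulAction.exists_smul_eq H R Q
  have htop := P.normalizer_sup_eq_top
  have hmem : k * h * k⁻¹ ∈ C ⊔ Subgroup.normalizer ((P : Subgroup C).map C.subtype : Set H) := by
    rw [sup_comm]; exact htop ▸ Subgroup.mem_top _
  obtain ⟨c, hc, n, hn, hcn⟩ := Subgroup.mem_sup_of_normal_left.1 hmem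
  refine ⟨k⁻¹ * c * k, by simpa using (inferInstance : C.Normal).conj_mem c hc k⁻¹,
    k⁻¹ * n * k, ?_, fun x hx hxC => ?_⟩
  · calc h = k⁻¹ * (k * h * k⁻¹) * k := by group
      _ = k⁻¹ * (c * n) * k := by rw [hcn]
      _ = _ := by group
  have hQR : ∀ y : H, k * y * k⁻¹ ∈ Q ↔ y ∈ R := fun y => by
    rw [← hk]
    show k * y * k⁻¹ ∈ MulAut.conj k • (R : Subgroup H) ↔ _
    rw [Subgroup.mem_pointwise_smul_iff_inv_smul_mem]
    simp [MulAut.smul_def, mul_assoc]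
    rfl
  have hxP : k * x * k⁻¹ ∈ (P : Subgroup C).map C.subtype := by
    refine ⟨⟨_, (inferInstance : C.Normal).conj_mem x hxC k⟩, ?_, rfl⟩
    rw [SetLike.mem_coe, ← hQ]
    exact (hQR x).2 hx
  obtain ⟨y, hy, hyx⟩ := (Subgroup.mem_normalizer_iff.1 hn _).1 hxP
  refine (hQR _).1 ?_
  rw [SetLike.mem_coe, ← hQ] at hy
  have h2 : k * (k⁻¹ * n * k * x * (k⁻¹ * n * k)⁻¹) * k⁻¹ = n * (k * x * k⁻¹) * n⁻¹ := by group
  rw [h2, ← hyx]
  exact hy

/-- Fixing on an invariant section moved by a larger subgroup of `S`. -/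
theorem fix_on [Finite S] [Fact p.Prime] (hS : IsPGroup p S) (hF : F.IsSaturated p) {E : Subgroup Ω}
    (hE : F.IsFullyNormalized E) (hup : ∀ k, Nat.card E < k → FixAt F f K k) (W V : Subgroup Ω)
    (hWE : W ≤ E) (hWK : W ≤ K) (hVW : V ≤ W)
    (hW : ∀ α ∈ F.autGroup E, ∀ x : E, (x : Ω) ∈ W → ((α x : E) : Ω) ∈ W)
    (hV : ∀ α ∈ F.autGroup E, ∀ x : E, (x : Ω) ∈ V → ((α x : E) : Ω) ∈ V)
    (hfV : ∀ a : S, (a : Ω) ∈ V → f a = 1) {g : Ω} (hg : g ∈ normalizerIn S E) (hgE : g ∉ E)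
    (hgW : ∀ x ∈ W, x⁻¹ * (g * x * g⁻¹) ∈ V) :
    ∀ α ∈ F.autGroup E, ∀ (x : E) (a b : S), (x : Ω) ∈ W → (a : Ω) = x → (b : Ω) = (α x : E) →
      f b = f a := by
  obtain ⟨⟨hES, R, hR⟩, hrec⟩ := fullyNormalized_props hS hF hE
  obtain ⟨hgS, hgN⟩ := mem_normalizerIn.1 hg
  have := finite_mulAut hES
  let C : Subgroup (F.autGroup E) :=
    { carrier := {h | ∀ x : E, (x : Ω) ∈ W → (x : Ω)⁻¹ * ((h : MulAut E) x : E) ∈ V}
      one_mem' := fun x _ => by simp
      mul_mem' := fun {a b} ha hb x hx => by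
        have h1 := ha _ (hW _ b.2 x hx)
        have h2 := V.mul_mem (hb x hx) h1
        rw [Subgroup.coe_mul, MulAut.mul_apply]
        simpa [mul_assoc] using h2
      inv_mem' := fun {a} ha x hx => by
        have h1 := V.inv_mem (ha _ (hW _ (inv_mem a.2) x hx))
        rw [Subgroup.coe_inv]
        simpa using h1 }
  have : C.Normal := ⟨fun c hc h x hx => by
    have h1 := hc _ (hW _ (inv_mem h.2) x hx)
    have h2 := hV _ h.2 (((h : MulAut E)⁻¹ x)⁻¹ * (c : MulAut E) ((h : MulAut E)⁻¹ x)) h1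
    rw [map_mul, map_inv, MulAut.apply_inv_self] at h2
    rw [Subgroup.coe_mul, Subgroup.coe_mul, Subgroup.coe_inv, MulAut.mul_apply, MulAut.mul_apply]
    exact h2⟩
  intro α hα x a b hx ha hb
  obtain ⟨c, hc, β, hαc, hβ⟩ := frattini_sylow C R (⟨α, hα⟩ : F.autGroup E)
  have hgC : conjAut E hgN ∈ autInducedBy S E := conjAut_mem_autInducedBy hgS hgN
  have hβI : IsIso F (β : MulAut E) := (mem_autGroup hES).1 β.2
  have hmem : g ∈ extender S E (E.subtype.comp (β : MulAut E).toMonoidHom) := by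
    refine (mem_extender_iso _).2 ⟨hg, ?_⟩
    have h1 := hβ ⟨_, autInducedBy_le_autGroup hES hgC⟩
      (by show _ ∈ (R : Subgroup (F.autGroup E)); rw [hR]; exact hgC) fun y hy => by
        show (y : Ω)⁻¹ * (conjAut E hgN y : E) ∈ V
        rw [conjAut_apply]
        exact hgW _ hy
    have h2 := Subgroup.mem_subgroupOf.1 ((SetLike.ext_iff.1 hR _).1 h1)
    convert h2 using 1
    refine MulEquiv.ext fun y => Subtype.ext ?_
    simp
  obtain ⟨ψ, hψ, hψe⟩ := receptive_extend hrec hβI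
  have hEN := le_extender hβI
  have hcard : Nat.card E < Nat.card (extender S E (E.subtype.comp (β : MulAut E).toMonoidHom)) := by
    have := finite_of_le ((extender_le S E (E.subtype.comp (β : MulAut E).toMonoidHom)).trans (normalizerIn_le _ _))
    by_contra hle
    exact hgE ((Fusion.eq_of_le_of_natCard_le hEN (not_lt.1 hle)).symm ▸ hmem)
  set y : E := (β : MulAut E) x with hy
  have e1 : f ⟨y, hES y.2⟩ = f a :=
    hup _ hcard _ ψ hψ rfl ⟨x, hEN x.2⟩ a ⟨y, hES y.2⟩ (hWK hx) ha (hψe x (hEN x.2)).symm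
  have hαx : α x = (c : MulAut E) y := by
    rw [hy, ← MulAut.mul_apply, ← Subgroup.coe_mul, ← hαc]
  have hby : b = ⟨y, hES y.2⟩ * ⟨_, hES (y⁻¹ * (c : MulAut E) y).2⟩ := by
    refine Subtype.ext (hb.trans ?_)
    rw [hαx]
    simp
  have h3 : f ⟨_, hES (y⁻¹ * (c : MulAut E) y).2⟩ = 1 := hfV _ (hc y (hW _ β.2 x hx))
  rw [hby, map_mul, h3, mul_one, e1]

/-- A strongly closed subgroup is fixed when its intersection with the kernel is strongly closed. -/
theorem fixAt_of_closed [Finite S] [Fact p.Prime] (hS : IsPGroup p S) (hF : F.IsSaturated p)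
    (hAutS : IsPGroup p (F.autGroup S)) (hK : F.StronglyClosed K)
    (hK' : F.StronglyClosed (K ⊓ f.ker.map S.subtype)) (m : ℕ) : FixAt F f K m := by
  suffices ∀ k m, Nat.card S - m < k → FixAt F f K m from this _ m (Nat.lt_succ_self _)
  intro k
  induction k with
  | zero => intro m hm; simp at hm
  | succ k ih =>
    intro m hm
    have hup : ∀ j, m < j → FixAt F f K j := fun j hj => by
      by_cases hjS : Nat.card S < j
      · intro P φ hφ hc
        have := finite_of_le (src_le hφ)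
        exact absurd (hc ▸ Subgroup.card_le_of_le (src_le hφ)) (not_le.2 hjS)
      · exact ih j (by omega)
    refine fixAt_of_aut hS hF hK hup fun E hE hEm α hα x a b hxK ha hb => ?_
    rcases hE.1.eq_or_lt with rfl | hlt
    · rw [autGroup_eq_of_isPGroup (fullyNormalized_props hS hF hE).1 hAutS] at hα
      obtain ⟨g, hg, hgα⟩ := exists_of_mem_autInducedBy hα
      exact fix_conj f hg.1 (hb.trans ((hgα x).trans (by rw [ha])))
    obtain ⟨g, hg, hgE⟩ := SetLike.exists_of_lt (lt_normalizer_inf hS hlt : E < normalizerIn S E)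
    refine fix_on hS hF hE (hEm ▸ hup) (E ⊓ K) (E ⊓ (K ⊓ f.ker.map S.subtype)) inf_le_left inf_le_right
      (inf_le_inf_left _ inf_le_left) (fun β hβ y hy => ⟨(β y).2, ?_⟩) (fun β hβ y hy => ⟨(β y).2, ?_⟩)
      ?_ hg hgE (fun y hy => ?_) α hα x a b ⟨x.2, hxK⟩ ha hb
    · exact map_mem_of_stronglyClosed hK ((mem_autGroup hE.1).1 hβ) y hy.2
    · exact map_mem_of_stronglyClosed hK' ((mem_autGroup hE.1).1 hβ) y hy.2
    · rintro c ⟨-, -, c', hc', hcc⟩
      obtain rfl : c' = c := Subtype.ext hcc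
      exact hc'
    · have hgy := conj_mem_of_mem_normalizer hg.2 hy.1
      have hyS := hE.1 hy.1
      have hgyK : g * y * g⁻¹ ∈ K :=
        conj_mem_of_mem_normalizer (le_normalizer_of_stronglyClosed hK hg.1) hy.2
      refine ⟨E.mul_mem (E.inv_mem hy.1) hgy, K.mul_mem (K.inv_mem hy.2) hgyK,
        ⟨(⟨y, hyS⟩ : S)⁻¹ * ⟨g * y * g⁻¹, hE.1 hgy⟩, ?_, rfl⟩⟩
      rw [SetLike.mem_coe, MonoidHom.mem_ker, map_mul, map_inv,
        fix_conj f hg.1 (a := ⟨y, hyS⟩) (b := ⟨g * y * g⁻¹, hE.1 hgy⟩) rfl, inv_mul_cancel]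

/-- A transfer: some stable homomorphism agrees with `f` on every fixed element. -/
theorem exists_stable [Finite S] [Fact p.Prime] (hS : IsPGroup p S) (hF : F.IsSaturated p)
    (hB : IsPGroup p B) [Finite B] (f : S →* B) :
    ∃ π : S →* B, (∀ (P : Subgroup Ω) (φ : P →* Ω), φ ∈ F.Hom P → ∀ (x : P) (a b : S),
        (a : Ω) = x → (b : Ω) = φ x → π b = π a) ∧
      ∀ z : S, (∀ (P : Subgroup Ω) (φ : P →* Ω), φ ∈ F.Hom P → ∀ (x : P) (a b : S),
        (x : Ω) ∈ Subgroup.zpowers (z : Ω) → (a : Ω) = x → (b : Ω) = φ x → f b = f a) → π z = f z := by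
  obtain ⟨π, -, hπ, hπfix⟩ := exists_stable_hom (Pi := f) (A := (⊤ : Subgroup B)) hS hF
    (hB.to_subgroup ⊤) (fun a _ => Subgroup.mem_center_iff.2 fun b => mul_comm b a)
    (fun P φ _ => ⟨1, fun x hx y _ => Subgroup.mem_top _⟩)
  refine ⟨π, fun P φ hφ x a b ha hb => ?_, fun z hz => hπfix z (Subgroup.mem_top _) fun m hm => ?_⟩
  · refine hπ P φ hφ a (ha ▸ x.2) b ?_ (Subgroup.mem_top _) (Subgroup.mem_top _)
    rw [hb]; congr 1; exact Subtype.ext ha
  let H : Subgroup (S × S) := (Subgroup.zpowers z).prod ⊤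
  let χ : H → B := fun h => f (h : S × S).1 * (f (h : S × S).2)⁻¹
  have hχm : ∀ h h' : H, χ (h * h') = χ h * χ h' := fun h h' => by
    simp only [χ, Subgroup.coe_mul, Prod.fst_mul, Prod.snd_mul, map_mul, mul_inv_rev]
    ac_rfl
  have hχs : ∀ (h : H) (ω : Pt m), (h : S × S) • ω = ω → χ h = 1 := by
    rintro ⟨⟨a, b⟩, ha, hb⟩ ω hω
    obtain ⟨P, φ, hφ, hmem⟩ := isFGraph_stab hm.supp ω
    obtain ⟨h1, h2⟩ := (hmem (a, b)).1 hω
    have haz : (a : Ω) ∈ Subgroup.zpowers (z : Ω) := by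
      obtain ⟨i, rfl⟩ := Subgroup.mem_zpowers_iff.1 ha
      exact Subgroup.mem_zpowers_iff.2 ⟨i, by simp⟩
    show f a * (f b)⁻¹ = 1
    rw [hz P φ hφ ⟨a, h1⟩ a b haz rfl h2.symm, mul_inv_cancel]
  let r : Pt m → Pt m := fun ω => (Quotient.mk (MulAction.orbitRel H (Pt m)) ω).out
  choose k hk using fun ω : Pt m => MulAction.mem_orbit_iff.1
    ((MulAction.orbitRel H (Pt m)).iseqv.symm (Quotient.exact (Quotient.out_eq (Quotient.mk (MulAction.orbitRel H (Pt m)) ω))) :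
      ω ∈ MulAction.orbit H (r ω))
  let c : Pt m → B := fun ω => χ (k ω)
  have hc' : ∀ (h : H) ω, c (h • ω) = χ h * c ω := by
    intro h ω
    have hr : r (h • ω) = r ω := congrArg Quotient.out
      (Quotient.sound (s := MulAction.orbitRel H (Pt m)) (MulAction.mem_orbit ω h))
    have h1 := hk (h • ω)
    rw [hr] at h1
    have h2 : ((h * k ω)⁻¹ * k (h • ω)) • r ω = r ω := by
      rw [mul_smul, h1, inv_smul_eq_iff, mul_smul, hk]
    have h3 := hχs _ _ h2
    show χ (k (h • ω)) = χ h * χ (k ω)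
    rw [← hχm]
    calc χ (k (h • ω)) = χ (h * k ω * ((h * k ω)⁻¹ * k (h • ω))) := by rw [mul_inv_cancel_left]
      _ = _ := by rw [hχm, h3, mul_one]
  have hR : RightEq f c := fun b ω => by
    have h := hc' ⟨(1, b), one_mem _, Subgroup.mem_top b⟩ ω
    refine h.trans ?_
    rw [mul_comm]
    simp [χ]
  have herr : ∀ ω, err f c z ω = 1 := fun ω => by
    have h := hc' ⟨(z, 1), Subgroup.mem_zpowers z, Subgroup.mem_top 1⟩ ω
    rw [err, show ((z, 1) : S × S) • ω = (⟨(z, 1), Subgroup.mem_zpowers z, Subgroup.mem_top 1⟩ : H) • ω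
      from rfl, h]
    simp [χ]
  refine ⟨c, hR, fun ω => Subgroup.mem_top _, ?_⟩
  let _ := Fintype.ofFinite (Orb m)
  exact Finset.prod_eq_one fun o _ => Subtype.ext (herr _)

end Cfsg.Agent.Lib.LocalP2.WeakEmbed
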