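import Cfsg.Agent.Lib.LocalP2.WeakEmbedFix
import Cfsg.Agent.Lib.LocalP2.FusionLocal

/-!
A criterion for a saturated system to be inner, in terms of weakly embedded subgroups of one order.
-/

set_option autoImplicit false

namespace Cfsg.Agent.Lib.LocalP2.WeakEmbed

open Cfsg Cfsg.FusionSystem Cfsg.Agent.Lib.Fusion Cfsg.Agent.Lib.FusionTransfer

universe u v

variable {Ω : Type u} [Group Ω] {S : Subgroup Ω} {F : FusionSystem S} {p : ℕ}

/-- `Q` is weakly embedded. -/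
def WeaklyEmb (F : FusionSystem S) (Q : Subgroup Ω) : Prop :=
  ∃ P : Subgroup Ω, F.StronglyClosed P ∧ F.StronglyClosed (Q ⊔ P) ∧ F.StronglyClosed (Q ⊓ P)

/-- The normalizer system of every fully normalized subgroup of order `d` is inner. -/
def InnerNorm (F : FusionSystem S) (d : ℕ) : Prop :=
  ∀ H : Subgroup Ω, F.IsFullyNormalized H → Nat.card H = d →
    Loc F (innerFusionSystem S) H ∧
      ∀ P : Subgroup Ω, ∀ φ ∈ F.normalizerHom H P, ∃ g ∈ normalizerIn S H, ∀ x : P, φ x = g * x * g⁻¹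

/-- A subgroup invariant under the automizer, of the chosen order, makes the automizer a `p`-group. -/
theorem isPGroup_of_invariant [Finite S] [Fact p.Prime] (hS : IsPGroup p S) (hF : F.IsSaturated p)
    {d : ℕ} (hN : InnerNorm F d) {R H : Subgroup Ω} (hR : R ≤ S) (hHR : H ≤ R)
    (hd : Nat.card H = d) (hinv : ∀ α ∈ F.autGroup R, ∀ x : R, (x : Ω) ∈ H → ((α x : R) : Ω) ∈ H) :
    IsPGroup p (F.autGroup R) := by
  classical
  have hHS := hHR.trans hR
  have := finite_of_le hR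
  have := finite_of_le hHS
  have hRN : R ≤ normalizerIn S H := fun g hg => ⟨hR hg, mem_normalizer_of_conj_mem fun x hx => by
    simpa using hinv _ (inn_le_autGroup hR ⟨⟨g, hg⟩, rfl⟩) ⟨x, hHR hx⟩ hx⟩
  obtain ⟨H', hconj, hH'⟩ := exists_fullyNormalized (F := F) hHS
  obtain ⟨e₀, he₀⟩ := isConj_iff_iso.1 hconj
  obtain ⟨γ, hγ, ψ, hψ, hψN, hψe⟩ := exists_extend_fullyNormalized hS hF hH' he₀
  set φ : R →* Ω := ψ.comp (Subgroup.inclusion hRN) with hφdef
  have hφ : φ ∈ F.Hom R := restrict_mem hRN hψ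
  set R' := φ.range with hR'
  obtain ⟨e, heI, heφ⟩ : ∃ e : R ≃* R', IsIso F e ∧ ∀ x : R, (e x : Ω) = φ x :=
    ⟨toIso φ hφ rfl, isIso_toIso φ hφ rfl, fun x => rfl⟩
  have hR'S : R' ≤ S := range_le hφ
  have hR'N : R' ≤ normalizerIn S H' := by
    rintro _ ⟨x, rfl⟩
    exact hψN _
  have hH'R : H' ≤ R' := fun y hy => by
    obtain ⟨x, hx⟩ : ∃ x : H, γ (e₀ x) = ⟨y, hy⟩ :=
      ⟨e₀.symm ((γ : MulAut H').symm ⟨y, hy⟩), by simp⟩
    exact ⟨⟨x, hHR x.2⟩, (hψe x _).trans (congrArg Subtype.val hx)⟩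
  have hp : IsPGroup p ((F.autGroup R).map (MulAut.congr e).toMonoidHom) := by
    rw [heI.autGroup_map]
    refine IsPGroup.to_le (isPGroup_autInducedBy hS R') fun α hα => ?_
    have hαI : IsIso F α := (mem_autGroup hR'S).1 hα
    have hαH : ∀ y : H', ((α ⟨y, hH'R y.2⟩ : R') : Ω) ∈ H' := fun y => by
      set x : R := e.symm ⟨y, hH'R y.2⟩
      have hxH : (x : Ω) ∈ H := by
        obtain ⟨z, hz⟩ : ∃ z : H, γ (e₀ z) = y :=
          ⟨e₀.symm ((γ : MulAut H').symm y), by simp⟩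
        have h1 : e ⟨z, hHR z.2⟩ = ⟨y, hH'R y.2⟩ :=
          Subtype.ext ((heφ _).trans ((hψe z _).trans (congrArg Subtype.val hz)))
        rw [show x = ⟨z, hHR z.2⟩ by simp only [x, ← h1, MulEquiv.symm_apply_apply]]
        exact z.2
      have hβ : (MulAut.congr e).symm α ∈ F.autGroup R :=
        (mem_autGroup hR).2 (heI.trans (hαI.trans heI.symm))
      have h2 := hinv _ hβ x hxH
      obtain ⟨w, hw⟩ : ∃ w : H, (w : Ω) = ((MulAut.congr e).symm α x : R) := ⟨⟨_, h2⟩, rfl⟩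
      have h3 : e ((MulAut.congr e).symm α x) = α ⟨y, hH'R y.2⟩ := by
        show e (e.symm (α (e (e.symm ⟨y, hH'R y.2⟩)))) = _
        simp
      rw [← h3, heφ]
      have h4 : φ ((MulAut.congr e).symm α x) = ψ ⟨w, le_normalizerIn hHS w.2⟩ := by
        rw [hφdef, MonoidHom.comp_apply]
        congr 1
        exact Subtype.ext hw.symm
      rw [h4, hψe w]
      exact (γ (e₀ w)).2
    have hmem : R'.subtype.comp α.toMonoidHom ∈ F.normalizerHom H' R' :=
      mem_normalizerHom_of_self_map hR'N hH'.1 hαI (fun y => hR'N (α y).2) (sup_le le_rfl hH'R) hαI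
        (fun y => rfl) hαH
    obtain ⟨g, hg, hgα⟩ := (hN H' hH' ((isConj_card hconj).symm.trans hd)).2 R' _ hmem
    exact mem_autInducedBy.2 ⟨g, hg.1, hgα⟩
  exact hp.of_equiv ((F.autGroup R).equivMapOfInjective _ (MulAut.congr e).injective).symm

/-- All automizers from order `d` on are `p`-groups. -/
theorem isPGroup_autGroup [Finite S] [Fact p.Prime] (hS : IsPGroup p S) (hF : F.IsSaturated p) {k : ℕ}
    (hWE : ∀ Q : Subgroup Ω, Q ≤ S → Nat.card Q = p ^ k → WeaklyEmb F Q) (hN : InnerNorm F (p ^ k))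
    {R : Subgroup Ω} (hR : R ≤ S) (hd : p ^ k ≤ Nat.card R) : IsPGroup p (F.autGroup R) := by
  classical
  by_contra hbad
  have := finite_of_le hR
  have hRp : IsPGroup p R := hS.to_le hR
  let Inv : Subgroup R → Prop := fun J => ∀ α ∈ F.autGroup R, J.map α.toMonoidHom ≤ J
  have hno : ∀ J, Inv J → Nat.card J ≠ p ^ k := fun J hJ hc => hbad <|
    isPGroup_of_invariant hS hF hN hR (Subgroup.map_subtype_le J)
      ((Subgroup.card_map_of_injective R.subtype_injective).trans hc) fun α hα x hx => by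
      obtain ⟨y, hy, hyx⟩ := hx
      obtain rfl : y = x := Subtype.ext hyx
      exact ⟨α y, hJ α hα ⟨y, hy, rfl⟩, rfl⟩
  obtain ⟨V, ⟨hVi, hVd⟩, hVmax⟩ := (Set.toFinite {J : Subgroup R | Inv J ∧ Nat.card J ≤ p ^ k}).exists_maximal
    ⟨⊥, fun α _ => by simp, by rw [Subgroup.card_bot]; exact Nat.one_le_pow _ _ (Fact.out : p.Prime).pos⟩
  have hVlt : Nat.card V < p ^ k := lt_of_le_of_ne hVd (hno V hVi)
  obtain ⟨W, ⟨hWi, hVW, hWd⟩, hWmin⟩ := (Set.toFinite {J : Subgroup R | Inv J ∧ V ≤ J ∧ p ^ k < Nat.card J}).exists_minimal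
    ⟨⊤, fun α _ => le_top, le_top, by
      have htop := hno ⊤ (fun α _ => le_top)
      rw [Subgroup.card_top] at htop ⊢
      exact lt_of_le_of_ne hd (Ne.symm htop)⟩
  have hchain : ∀ J, Inv J → V ≤ J → J ≤ W → J = V ∨ J = W := fun J hJ h1 h2 => by
    rcases lt_trichotomy (Nat.card J) (p ^ k) with h | h | h
    · exact Or.inl (le_antisymm (hVmax ⟨hJ, h.le⟩ h1) h1)
    · exact absurd h (hno J hJ)
    · exact Or.inr (le_antisymm h2 (hWmin ⟨hJ, h1, h⟩ h2))
  obtain ⟨v, hv⟩ := IsPGroup.iff_card.1 (hRp.to_subgroup V)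
  obtain ⟨w, hw⟩ := IsPGroup.iff_card.1 (hRp.to_subgroup W)
  have hp1 := (Fact.out : p.Prime).one_lt
  obtain ⟨Qw, hQc, hVQ⟩ := Sylow.exists_subgroup_card_pow_prime_le (G := W) p (m := k) (n := v)
    (hw ▸ Nat.pow_dvd_pow p ((Nat.pow_lt_pow_iff_right hp1).1 (hw ▸ hWd)).le) (V.subgroupOf W)
    ((Nat.card_congr (Subgroup.subgroupOfEquivOfLe hVW).toEquiv).trans hv)
    ((Nat.pow_lt_pow_iff_right hp1).1 (hv ▸ hVlt)).le
  set Qs := Qw.map W.subtype
  have hQW : Qs ≤ W := Subgroup.map_subtype_le _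
  have hQsc : Nat.card Qs = p ^ k := (Subgroup.card_map_of_injective W.subtype_injective).trans hQc
  have hVQs : V ≤ Qs := fun x hx => ⟨⟨x, hVW hx⟩, hVQ hx, rfl⟩
  set Q := Qs.map R.subtype
  have hQR : Q ≤ R := Subgroup.map_subtype_le _
  obtain ⟨P, hP, hQP, hQnP⟩ := hWE Q (hQR.trans hR)
    ((Subgroup.card_map_of_injective R.subtype_injective).trans hQsc)
  have hinv : ∀ T : Subgroup Ω, F.StronglyClosed T → Inv (W ⊓ T.subgroupOf R) := by
    intro T hT α hα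
    rintro _ ⟨x, ⟨hxW, hxT⟩, rfl⟩
    exact ⟨hWi α hα ⟨x, hxW, rfl⟩, map_mem_of_stronglyClosed hT ((mem_autGroup hR).1 hα) x hxT⟩
  have hsup : ∀ J, Inv J → Inv (V ⊔ J) := fun J hJ α hα => by
    rw [Subgroup.map_sup]; exact sup_le_sup (hVi α hα) (hJ α hα)
  have hVn : V.Normal := ⟨fun x hx g => by
    simpa using hVi _ (inn_le_autGroup hR ⟨g, rfl⟩) ⟨x, hx, rfl⟩⟩
  have hnot : ¬ W ≤ Qs := fun h => (not_le.2 hWd) (hQsc ▸ Subgroup.card_le_of_le h)
  rcases hchain _ (hsup _ (hinv P hP)) le_sup_left (sup_le hVW inf_le_left) with h | h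
  · have hWP : W ⊓ P.subgroupOf R ≤ V := le_sup_right.trans h.le
    have hI : V ≤ W ⊓ (Q ⊔ P).subgroupOf R := le_inf hVW fun x hx => Subgroup.mem_sup_left ⟨x, hVQs hx, rfl⟩
    rcases hchain _ (hinv _ hQP) hI inf_le_left with h' | h'
    · have h1 : Qs ≤ V := fun x hx => h'.le ⟨hQW hx, Subgroup.mem_sup_left ⟨x, hx, rfl⟩⟩
      exact (not_le.2 hVlt) (hQsc ▸ Subgroup.card_le_of_le h1)
    refine hnot fun x hx => ?_
    obtain ⟨a, ⟨q, hq, hqa⟩, b, hb, hab⟩ := mem_sup_of_normalizes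
      ((hQR.trans hR).trans (le_normalizer_of_stronglyClosed hP)) (h'.ge hx).2
    have hb' : ((q⁻¹ * x : R) : Ω) = b := by
      simp only [Subgroup.subtype_apply] at hab hqa
      rw [Subgroup.coe_mul, Subgroup.coe_inv, ← hab, ← hqa]
      simp [mul_assoc]
    have h2 : q⁻¹ * x ∈ V := hWP ⟨W.mul_mem (W.inv_mem (hQW hq)) hx, by
      show ((q⁻¹ * x : R) : Ω) ∈ P; rw [hb']; exact hb⟩
    simpa using Qs.mul_mem hq (hVQs h2)
  · have hI : V ⊔ (W ⊓ (Q ⊓ P).subgroupOf R) ≤ Qs := sup_le hVQs fun x hx => by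
      obtain ⟨y, hy, hyx⟩ := hx.2.1
      obtain rfl : y = x := Subtype.ext hyx
      exact hy
    rcases hchain _ (hsup _ (hinv _ hQnP)) le_sup_left (hI.trans hQW) with h' | h'
    · refine (not_le.2 hVlt) (hQsc ▸ Subgroup.card_le_of_le (H := Qs) (K := V) fun x hx => ?_)
      obtain ⟨a, ha, b, hb, rfl⟩ := Subgroup.mem_sup_of_normal_left.1 (h.ge (hQW hx))
      refine V.mul_mem ha (h'.le (Subgroup.mem_sup_right ⟨hb.1, ?_, hb.2⟩))
      exact ⟨b, by simpa using Qs.mul_mem (Qs.inv_mem (hVQs ha)) hx, rfl⟩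
    · exact hnot (h'.ge.trans hI)

/-- The focal subgroup of a non-inner system is not in the Frattini subgroup: some homomorphism onto a
group of order `p` is moved, and it kills every element it does not move. -/
theorem exists_moved [Finite S] [Fact p.Prime] (hS : IsPGroup p S) (hF : F.IsSaturated p)
    (hne : ¬ ∀ P : Subgroup Ω, F.Hom P = (innerFusionSystem S).Hom P) :
    ∃ f : S →* Multiplicative (ZMod p),
      (∃ (P : Subgroup Ω) (φ : P →* Ω), φ ∈ F.Hom P ∧ ∃ (x : P) (a b : S),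
        (a : Ω) = x ∧ (b : Ω) = φ x ∧ f b ≠ f a) ∧
      ∀ z : S, (∀ (P : Subgroup Ω) (φ : P →* Ω), φ ∈ F.Hom P → ∀ (x : P) (a b : S),
        (x : Ω) ∈ Subgroup.zpowers (z : Ω) → (a : Ω) = x → (b : Ω) = φ x → f b = f a) → f z = 1 := by
  classical
  have hnΦ : ¬ F.focalSubgroup ≤ (frattini S).map S.subtype := fun h =>
    hne (eq_inner_of_hyperfocal_le_frattini hS hF (hyperfocal_le_focal.trans h))
  obtain ⟨_, ⟨P, φ, x, hφ, rfl⟩, hy⟩ : ∃ y ∈ {y : Ω | ∃ (P : Subgroup Ω) (φ : P →* Ω) (x : P),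
      φ ∈ F.Hom P ∧ y = (x : Ω)⁻¹ * φ x}, y ∉ (frattini S).map S.subtype := by
    by_contra h
    push Not at h
    exact hnΦ ((Subgroup.closure_le _).2 h)
  set a : S := ⟨x, src_le hφ x.2⟩
  set b : S := ⟨φ x, val_mem hφ x⟩
  have hab : a⁻¹ * b ∉ frattini S := fun h => hy ⟨_, h, rfl⟩
  obtain ⟨M0, hM0, habM⟩ : ∃ M0 : Subgroup S, IsCoatom M0 ∧ a⁻¹ * b ∉ M0 := by
    by_contra h
    push Not at h
    exact hab (by simpa [frattini, Order.radical, Subgroup.mem_iInf] using h)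
  have : Group.IsNilpotent S := hS.isNilpotent
  have hM0n : M0.Normal := Subgroup.NormalizerCondition.normal_of_coatom M0 Group.normalizerCondition_of_isNilpotent hM0
  have hidx : Nat.card (S ⧸ M0) = p := by
    rw [← Subgroup.index_eq_card]
    exact (PGroupFrattini.coatom_index hS hM0).2
  have hZc : Nat.card (Multiplicative (ZMod p)) = p := by simp
  set f0 : S →* Multiplicative (ZMod p) :=
    (mulEquivOfPrimeCardEq hidx hZc).toMonoidHom.comp (QuotientGroup.mk' M0) with hf0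
  have hf0ne : f0 b ≠ f0 a := fun h => habM <| by
    have h1 := (mulEquivOfPrimeCardEq hidx hZc).injective h
    exact QuotientGroup.eq.1 h1.symm
  have hZp : IsPGroup p (Multiplicative (ZMod p)) := IsPGroup.of_card (n := 1) (by rw [hZc, pow_one])
  obtain ⟨π, hπ, hπfix⟩ := exists_stable hS hF hZp f0
  refine ⟨f0 * π⁻¹, ⟨P, φ, hφ, x, a, b, rfl, rfl, fun h => hf0ne ?_⟩, fun z hz => ?_⟩
  · simp only [MonoidHom.mul_apply, MonoidHom.inv_apply, hπ P φ hφ x a b rfl rfl] at h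
    exact mul_right_cancel h
  · have h1 : π z = f0 z := hπfix z fun P φ hφ x a b hx ha hb => by
      have h := hz P φ hφ x a b hx ha hb
      simp only [MonoidHom.mul_apply, MonoidHom.inv_apply, hπ P φ hφ x a b ha hb] at h
      exact mul_right_cancel h
    simp [h1]

/-- The criterion. -/
theorem inner_of_weaklyEmb [Finite S] [Fact p.Prime] (hS : IsPGroup p S) (hF : F.IsSaturated p) {k : ℕ}
    (hk : p ^ (k + 1) ≤ Nat.card S)
    (hWE : ∀ Q : Subgroup Ω, Q ≤ S → Nat.card Q = p ^ k → WeaklyEmb F Q) (hN : InnerNorm F (p ^ k)) :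
    ∀ P : Subgroup Ω, F.Hom P = (innerFusionSystem S).Hom P := by
  classical
  by_contra hne
  obtain ⟨f, ⟨P₁, φ₁, hφ₁, x₁, a₁, b₁, ha₁, hb₁, hne₁⟩, hkill⟩ := exists_moved hS hF hne
  have hp : p.Prime := Fact.out
  have hbig : ∀ R : Subgroup Ω, R ≤ S → p ^ k ≤ Nat.card R → IsPGroup p (F.autGroup R) :=
    fun R hR hd => isPGroup_autGroup hS hF hWE hN hR hd
  have hAutS : IsPGroup p (F.autGroup S) :=
    hbig S le_rfl (le_trans (Nat.pow_le_pow_right hp.pos (Nat.le_succ k)) hk)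
  have hkillK : ∀ K : Subgroup Ω, F.StronglyClosed K → F.StronglyClosed (K ⊓ f.ker.map S.subtype) →
      ∀ z : S, (z : Ω) ∈ K → f z = 1 := fun K hK hK' z hz => hkill z fun P φ hφ x a b hx ha hb =>
    fixAt_of_closed hS hF hAutS hK hK' _ P φ hφ rfl x a b (Subgroup.zpowers_le.2 hz hx) ha hb
  -- the largest order at which `f` is moved
  have hbound : ∀ m, Nat.card S < m → FixAt F f ⊤ m := fun m hm P φ hφ hc => by
    have := finite_of_le (src_le hφ)
    exact absurd (hc ▸ Subgroup.card_le_of_le (src_le hφ)) (not_le.2 hm)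
  have hex : ∃ n, ¬ FixAt F f S n :=
    ⟨_, fun h => hne₁ (h P₁ φ₁ hφ₁ rfl x₁ a₁ b₁ (src_le hφ₁ x₁.2) ha₁ hb₁)⟩
  have hfin : {n | ¬ FixAt F f S n}.Finite := (Set.finite_le_nat (Nat.card S)).subset fun n hn => by
    by_contra hlt
    exact hn fun P φ hφ hc x a b _ => hbound n (not_le.1 hlt) P φ hφ hc x a b (Subgroup.mem_top _)
  obtain ⟨n, hn, hnmax⟩ := hfin.exists_maximal hex
  have hup : ∀ j, n < j → FixAt F f S j := fun j hj => by_contra fun h => (hnmax h hj.le).not_gt hj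
  obtain ⟨E, hE, hEn, α, hα, x, a, b, hxa, hxb, hab⟩ : ∃ E : Subgroup Ω, F.IsFullyNormalized E ∧
      Nat.card E = n ∧ ∃ α ∈ F.autGroup E, ∃ (x : E) (a b : S),
        (a : Ω) = x ∧ (b : Ω) = (α x : E) ∧ f b ≠ f a := by
    by_contra h
    refine hn (fixAt_of_aut hS hF stronglyClosed_self hup fun E hE hEn α hα x a b _ ha hb => ?_)
    by_contra hne'
    exact h ⟨E, hE, hEn, α, hα, x, a, b, ha, hb, hne'⟩
  obtain ⟨hEA, -⟩ := fullyNormalized_props hS hF hE
  have hES := hE.1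
  have := finite_of_le hES
  have hEd : Nat.card E < p ^ k := by
    by_contra hle
    rw [autGroup_eq_of_isPGroup hEA (hbig E hES (not_lt.1 hle))] at hα
    obtain ⟨g, hg, hgα⟩ := exists_of_mem_autInducedBy hα
    exact hab (fix_conj f hg.1 (hxb.trans ((hgα x).trans (by rw [hxa]))))
  have hEltS : E < S := lt_of_le_of_ne hES fun h => by
    subst h
    exact absurd (hk.trans hEd.le) (not_le.2 (Nat.pow_lt_pow_succ hp.one_lt))
  set M := f.ker.map S.subtype with hM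
  have hMS : M ≤ S := Subgroup.map_subtype_le _
  have hmemM : ∀ (z : Ω) (hz : z ∈ S), z ∈ M ↔ f ⟨z, hz⟩ = 1 := fun z hz =>
    ⟨fun ⟨c, hc, hcz⟩ => (show c = ⟨z, hz⟩ from Subtype.ext hcz) ▸ hc, fun h => ⟨⟨z, hz⟩, h, rfl⟩⟩
  have hconjM : ∀ {g y : Ω}, g ∈ S → y ∈ S → y⁻¹ * (g * y * g⁻¹) ∈ M := fun {g y} hg hy => by
    have hgy : g * y * g⁻¹ ∈ S := S.mul_mem (S.mul_mem hg hy) (S.inv_mem hg)
    refine ⟨(⟨y, hy⟩ : S)⁻¹ * ⟨g * y * g⁻¹, hgy⟩, ?_, rfl⟩
    rw [SetLike.mem_coe, MonoidHom.mem_ker, map_mul, map_inv,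
      fix_conj f hg (a := ⟨y, hy⟩) (b := ⟨g * y * g⁻¹, hgy⟩) rfl, inv_mul_cancel]
  -- a subgroup of order `p ^ k` of `M` with intersection `E ⊓ M` with `E`
  have hMc : p ^ k ∣ Nat.card f.ker := by
    obtain ⟨N, hN⟩ := IsPGroup.iff_card.1 (hS.to_subgroup f.ker)
    rw [hN]
    refine Nat.pow_dvd_pow p ?_
    have h1 := f.ker.card_mul_index
    rw [Subgroup.index_ker, hN] at h1
    have h2 : Nat.card f.range ≤ p := (Subgroup.card_le_card_group _).trans (by simp)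
    have h3 : p ^ (k + 1) ≤ p ^ (N + 1) := by
      rw [pow_succ p N]; exact (hk.trans_eq h1.symm).trans (Nat.mul_le_mul_left _ h2)
    exact Nat.succ_le_succ_iff.1 ((Nat.pow_le_pow_iff_right hp.one_lt).1 h3)
  obtain ⟨i, hi⟩ := IsPGroup.iff_card.1 ((hS.to_subgroup f.ker).to_subgroup ((E.subgroupOf S).subgroupOf f.ker))
  have hXc : p ^ i < p ^ k := by
    refine lt_of_le_of_lt ?_ hEd
    rw [← hi]
    exact Nat.card_le_card_of_injective
      (fun z : (E.subgroupOf S).subgroupOf f.ker => (⟨((z : f.ker) : S), z.2⟩ : E))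
      fun z w h => Subtype.ext (Subtype.ext (Subtype.ext (Subtype.ext_iff.1 h :)))
  obtain ⟨Qk, hQk, hXQ⟩ := Sylow.exists_subgroup_card_pow_prime_le (G := f.ker) p hMc _ hi
    ((Nat.pow_lt_pow_iff_right hp.one_lt).1 hXc).le
  set Q := (Qk.map f.ker.subtype).map S.subtype
  have hQM : Q ≤ M := Subgroup.map_mono (Subgroup.map_subtype_le _)
  have hXle : E ⊓ M ≤ Q := by
    rintro z ⟨hzE, c, hc, rfl⟩
    exact ⟨c, ⟨⟨c, hc⟩, hXQ hzE, rfl⟩, rfl⟩
  obtain ⟨P, hP, hQP, hQnP⟩ := hWE Q (hQM.trans hMS) (by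
    rw [Subgroup.card_map_of_injective S.subtype_injective,
      Subgroup.card_map_of_injective f.ker.subtype_injective, hQk])
  -- averaging over the automizer
  have := finite_mulAut hES
  obtain ⟨-, R, hR⟩ := hEA
  let fE : E →* Multiplicative (ZMod p) := f.comp (Subgroup.inclusion hES)
  let act : F.autGroup E → (E →* Multiplicative (ZMod p)) :=
    fun h => fE.comp ((h : MulAut E)⁻¹).toMonoidHom
  have hwd : ∀ h h' : F.autGroup E, (QuotientGroup.leftRel (R : Subgroup (F.autGroup E))).r h h' →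
      act h = act h' := by
    intro h h' hr
    rw [QuotientGroup.leftRel_apply] at hr
    obtain ⟨g, hg, hgr⟩ := exists_of_mem_autInducedBy
      (Subgroup.mem_subgroupOf.1 ((SetLike.ext_iff.1 hR _).1 hr))
    refine MonoidHom.ext fun y => ?_
    show f _ = f _
    refine fix_conj f hg.1 ?_
    have h5 := hgr ((h' : MulAut E)⁻¹ y)
    rw [Subgroup.coe_mul, Subgroup.coe_inv, MulAut.mul_apply, MulAut.apply_inv_self] at h5
    exact h5
  let u : F.autGroup E ⧸ (R : Subgroup (F.autGroup E)) → (E →* Multiplicative (ZMod p)) :=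
    fun q => Quotient.liftOn' q act hwd
  let _ := Fintype.ofFinite (F.autGroup E ⧸ (R : Subgroup (F.autGroup E)))
  let Fbar : E →* Multiplicative (ZMod p) := ∏ q, u q
  have hFbar : ∀ y, Fbar y = ∏ q, u q y := fun y => MonoidHom.finsetProd_apply _ _ _
  have hFinv : ∀ (h : F.autGroup E) (y : E), Fbar ((h : MulAut E) y) = Fbar y := by
    intro h y
    rw [hFbar, hFbar]
    refine (Fintype.prod_equiv (MulAction.toPerm h) (fun q => u q y) (fun q => u q ((h : MulAut E) y)) ?_).symm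
    intro q
    induction q using QuotientGroup.induction_on with
    | _ c => ?_
    show fE ((c : MulAut E)⁻¹ y) = fE (((h * c : F.autGroup E) : MulAut E)⁻¹ ((h : MulAut E) y))
    rw [Subgroup.coe_mul, mul_inv_rev, MulAut.mul_apply, MulAut.inv_apply_self]
  have hFfix : ∀ y : E, (∀ h : F.autGroup E, fE ((h : MulAut E) y) = fE y) → Fbar y = 1 → fE y = 1 := by
    intro y hy h1
    have h2 : Fbar y = fE y ^ Fintype.card (F.autGroup E ⧸ (R : Subgroup (F.autGroup E))) := by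
      rw [hFbar, ← Finset.card_univ, ← Finset.prod_const]
      refine Finset.prod_congr rfl fun q _ => ?_
      induction q using QuotientGroup.induction_on with
      | _ c => exact hy c⁻¹
    rw [h1, ← Nat.card_eq_fintype_card] at h2
    refine orderOf_eq_one_iff.1 (Nat.eq_one_of_dvd_coprimes ?_ (orderOf_dvd_of_pow_eq_one h2.symm)
      ((orderOf_dvd_natCard (fE y)).trans (by simp) : orderOf (fE y) ∣ p))
    exact ((hp.coprime_iff_not_dvd).2 R.not_dvd_index).symm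
  set W := Fbar.ker.map E.subtype with hW
  have hWE' : W ≤ E := Subgroup.map_subtype_le _
  have hWinv : ∀ h ∈ F.autGroup E, ∀ y : E, (y : Ω) ∈ W → ((h y : E) : Ω) ∈ W := by
    rintro h hh y ⟨c, hc, hcy⟩
    obtain rfl : c = y := Subtype.ext hcy
    exact ⟨h c, (hFinv ⟨h, hh⟩ c).trans hc, rfl⟩
  have hclinv : ∀ {T : Subgroup Ω}, F.StronglyClosed T → ∀ h ∈ F.autGroup E, ∀ y : E,
      (y : Ω) ∈ T → ((h y : E) : Ω) ∈ T :=
    fun hT h hh y hy => map_mem_of_stronglyClosed hT ((mem_autGroup hES).1 hh) y hy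
  have hW1 : ∀ y : E, (y : Ω) ∈ W → (∀ h : F.autGroup E, fE ((h : MulAut E) y) = fE y) → fE y = 1 := by
    rintro y ⟨c, hc, hcy⟩ hy
    obtain rfl : c = y := Subtype.ext hcy
    exact hFfix c hy hc
  obtain ⟨g₀, hg₀, hg₀E⟩ := SetLike.exists_of_lt (lt_normalizer_inf hS hEltS : E < normalizerIn S E)
  obtain ⟨hg₀S, hg₀N⟩ := mem_normalizerIn.1 hg₀
  have hWconj : ∀ {g : Ω}, g ∈ normalizerIn S E → ∀ {y : Ω}, y ∈ W → g * y * g⁻¹ ∈ W := fun {g} hg {y} hy => by
    obtain ⟨hgS, hgN⟩ := mem_normalizerIn.1 hg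
    simpa using hWinv _ (autInducedBy_le_autGroup hES (conjAut_mem_autInducedBy hgS hgN)) ⟨y, hWE' hy⟩ hy
  have hPnorm := le_normalizer_of_stronglyClosed hP
  -- `P` meets `W` in the kernel
  have hPW : P ⊓ W ≤ M := by
    intro y hy
    refine (hmemM y (hES (hWE' hy.2))).2 (hW1 ⟨y, hWE' hy.2⟩ hy.2 fun h => ?_)
    refine fix_on hS hF hE (hEn ▸ hup) (P ⊓ W) (Q ⊓ P ⊓ W) (inf_le_right.trans hWE')
      (fun z hz => hES (hWE' hz.2)) (inf_le_inf_right _ inf_le_right)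
      (fun h hh z hz => ⟨hclinv hP h hh z hz.1, hWinv h hh z hz.2⟩)
      (fun h hh z hz => ⟨hclinv hQnP h hh z hz.1, hWinv h hh z hz.2⟩)
      (fun c hc => (hmemM c c.2).1 (hQM hc.1.1)) hg₀ hg₀E (fun z hz => ?_) h h.2 ⟨y, hWE' hy.2⟩
      ⟨y, _⟩ ⟨_, _⟩ hy rfl rfl
    have h1 : z⁻¹ * (g₀ * z * g₀⁻¹) ∈ W := W.mul_mem (W.inv_mem hz.2) (hWconj hg₀ hz.2)
    refine ⟨⟨hXle ⟨hWE' h1, hconjM hg₀S (hES (hWE' hz.2))⟩, ?_⟩, h1⟩
    exact P.mul_mem (P.inv_mem hz.1) (conj_mem_of_mem_normalizer (hPnorm hg₀S) hz.1)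
  -- so the normalizer of `E` meets `P` inside `E`
  have hPT : ∀ g ∈ normalizerIn S E, g ∈ P → g ∈ E := by
    intro g hg hgP
    by_contra hgE
    obtain ⟨hgS, -⟩ := mem_normalizerIn.1 hg
    have hfixW := fix_on hS hF hE (hEn ▸ hup) W (P ⊓ W) hWE'
      (fun z hz => hES (hWE' hz)) inf_le_right hWinv
      (fun h hh z hz => ⟨hclinv hP h hh z hz.1, hWinv h hh z hz.2⟩)
      (fun c hc => (hmemM c c.2).1 (hPW hc)) hg hgE (fun z hz => by
        refine ⟨?_, W.mul_mem (W.inv_mem hz) (hWconj hg hz)⟩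
        have h1 : z⁻¹ * g * z ∈ P := by
          simpa using conj_mem_of_mem_normalizer (hPnorm (S.inv_mem (hES (hWE' hz)))) hgP
        simpa [mul_assoc] using P.mul_mem h1 (P.inv_mem hgP))
    have hW0 : ∀ y : E, (y : Ω) ∈ W → fE y = 1 := fun y hy =>
      hW1 y hy fun h => hfixW h h.2 y ⟨y, hES y.2⟩ ⟨_, hES ((h : MulAut E) y).2⟩ hy rfl rfl
    have h1 : (x⁻¹ * α x : E) ∈ Fbar.ker := by
      rw [MonoidHom.mem_ker, map_mul, map_inv, hFinv ⟨α, hα⟩ x, inv_mul_cancel]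
    have h2 := hW0 (x⁻¹ * α x) ⟨_, h1, rfl⟩
    refine hab ?_
    rw [show a = Subgroup.inclusion hES x from Subtype.ext hxa,
      show b = Subgroup.inclusion hES (α x) from Subtype.ext hxb]
    rw [map_mul, map_inv, inv_mul_eq_one] at h2
    exact h2.symm
  have hPE : P ≤ E := by
    by_contra hle
    have hlt : E < E ⊔ P := lt_of_le_of_ne le_sup_left fun h => hle (le_sup_right.trans h.ge)
    have hsS : E ⊔ P ≤ S := sup_le hES hP.1
    have := finite_of_le hsS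
    obtain ⟨g, hg, hgE⟩ := SetLike.exists_of_lt (lt_normalizer_inf (hS.to_le hsS) hlt)
    obtain ⟨c, hc, q, hq, hcq⟩ := mem_sup_of_normalizes (hES.trans hPnorm) hg.1
    refine hgE (hcq ▸ E.mul_mem hc (hPT q ⟨hP.1 hq, ?_⟩ hq))
    have h1 : c⁻¹ * g = q := by rw [← hcq, inv_mul_cancel_left]
    exact h1 ▸ Subgroup.mul_mem _ (Subgroup.inv_mem _ (Subgroup.le_normalizer hc)) hg.2
  have hPM : P ≤ M := by
    have heq : P ⊓ M = Q ⊓ P :=
      le_antisymm (fun z hz => ⟨hXle ⟨hPE hz.1, hz.2⟩, hz.1⟩) fun z hz => ⟨hz.2, hQM hz.1⟩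
    exact fun z hz => (hmemM z (hP.1 hz)).2 (hkillK P hP (heq ▸ hQnP) ⟨z, hP.1 hz⟩ hz)
  have hX : (Q ⊔ P) ⊓ E = E ⊓ M :=
    le_antisymm (fun z hz => ⟨hz.2, sup_le hQM hPM hz.1⟩)
      fun z hz => ⟨Subgroup.mem_sup_left (hXle hz), hz.1⟩
  exact hab (fix_on hS hF hE (hEn ▸ hup) E (E ⊓ M) le_rfl hES inf_le_left (fun h _ z _ => (h z).2)
    (fun h hh z hz => hX ▸ (⟨hclinv hQP h hh z (hX.ge hz).1, (h z).2⟩ : ((h z : E) : Ω) ∈ (Q ⊔ P) ⊓ E))
    (fun c hc => (hmemM c c.2).1 hc.2) hg₀ hg₀E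
    (fun z hz => ⟨E.mul_mem (E.inv_mem hz) (conj_mem_of_mem_normalizer hg₀N hz), hconjM hg₀S (hES hz)⟩)
    α hα x a b x.2 hxa hxb)

end Cfsg.Agent.Lib.LocalP2.WeakEmbed
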