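import Cfsg.Agent.Lib.LocalChar.YL
import Cfsg.Agent.Lib.LocalP2.Isolated
import Cfsg.Agent.Lib.Hall.Basic
import Cfsg.Prelude.Def_IsolatedElements

/-! Elementary facts on minimal counterexamples to the `Z_p^*` theorem. -/

set_option autoImplicit false

namespace Cfsg.Agent.Lib.LocalP2

open Cfsg Cfsg.Agent.Lib.LocalChar

variable {G : Type*} [Group G] [Finite G] {p : ℕ} [hp : Fact p.Prime]

/-- `InZStar` for a normal `p'`-subgroup quotient lifts. -/
theorem inZStar_of_quotient {x : G} {N : Subgroup G} [N.Normal] (hN : (Nat.card N).Coprime p)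
    (h : InZStar p (QuotientGroup.mk x : G ⧸ N)) : InZStar p x := by
  intro g
  have hpre : (pPrimeCore p (G ⧸ N)).comap (QuotientGroup.mk' N) ≤ pPrimeCore p G := by
    refine Lib.Hall.le_pPrimeCore ?_
    set K := pPrimeCore p (G ⧸ N)
    have h1 := Subgroup.card_mul_index (K.comap (QuotientGroup.mk' N))
    rw [Subgroup.index_comap_of_surjective _ (QuotientGroup.mk'_surjective N), ← Subgroup.card_mul_index N,
      Subgroup.index_eq_card N, ← Subgroup.card_mul_index K, ← mul_assoc] at h1
    rw [Nat.eq_of_mul_eq_mul_right (Nat.pos_of_ne_zero Subgroup.index_ne_zero_of_finite) h1]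
    exact Nat.Coprime.mul_left hN (Lib.Hall.coprime_card_pPrimeCore p)
  refine hpre ?_
  rw [Subgroup.mem_comap]
  simpa using h (g : G ⧸ N)

theorem pPrimeCore_eq_bot_of_minimal {x : G} (hnz : ¬ InZStar p x)
    (hquot : ∀ (N : Subgroup G) [N.Normal], N ≠ ⊥ → InZStar p (QuotientGroup.mk x : G ⧸ N)) :
    pPrimeCore p G = ⊥ := by
  by_contra h
  exact hnz (inZStar_of_quotient (Lib.Hall.coprime_card_pPrimeCore p) (hquot _ h))

end Cfsg.Agent.Lib.LocalP2
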